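import Mathlib.Algebra.MonoidAlgebra.Basic
import Mathlib.LinearAlgebra.Dual.Lemmas
import Mathlib.LinearAlgebra.Matrix.Trace
import Mathlib.LinearAlgebra.Matrix.ToLin
import Mathlib.RepresentationTheory.Basic
import Mathlib.RingTheory.Ideal.Operations

/-!
# A simple module with a non-trace map to a representation of a subgroup

Let `R` be a representation of `T ≤ G` over a field of characteristic dividing `|T|` and `ε` a central
idempotent of the group algebra with `∑ ε_t tr R t ≠ 0`. Then some simple module on which `ε` is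
one has a `T`-map to `R` that is not a trace.
-/

set_option autoImplicit false
set_option linter.unusedSectionVars false
set_option linter.style.haveILetI false

namespace CfsgLib.Blocks.PrimeDefect

open MonoidAlgebra (single)

variable {G κ : Type*} [Group G] [Fintype G] [Field κ] (T : Subgroup G) [DecidablePred (· ∈ T)]
  {r d : ℕ} (m : Fin r → ℕ)

/-- Functions with the transformation law of the induced module. -/
def induced (R : G → Matrix (Fin d) (Fin d) κ) : Submodule κ (G → Fin d → κ) where
  carrier := {φ | ∀ t ∈ T, ∀ g, φ (t * g) = (R t).mulVec (φ g)}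
  zero_mem' := fun t _ g => by simp
  add_mem' := fun {a b} ha hb t ht g => by
    simp only [Pi.add_apply, ha t ht g, hb t ht g, Matrix.mulVec_add]
  smul_mem' := fun c a ha t ht g => by
    simp only [Pi.smul_apply, ha t ht g, Matrix.mulVec_smul]

/-- Right translation on the induced module. -/
def inducedRep (R : G → Matrix (Fin d) (Fin d) κ) : Representation κ G (induced T R) where
  toFun g :=
    { toFun := fun φ => ⟨fun y => (φ : G → Fin d → κ) (y * g), fun t ht y => by
        show (φ : G → Fin d → κ) (t * y * g) = _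
        rw [mul_assoc]; exact φ.2 t ht _⟩
      map_add' := fun a b => rfl
      map_smul' := fun c a => rfl }
  map_one' := LinearMap.ext fun φ => Subtype.ext (funext fun y => by
    show (φ : G → Fin d → κ) (y * 1) = _
    rw [mul_one]; rfl)
  map_mul' a b := LinearMap.ext fun φ => Subtype.ext (funext fun y => by
    show (φ : G → Fin d → κ) (y * (a * b)) = (φ : G → Fin d → κ) (y * a * b)
    rw [mul_assoc])

theorem inducedRep_apply (R : G → Matrix (Fin d) (Fin d) κ) (g y : G) (φ : induced T R) :
    (inducedRep T R g φ : G → Fin d → κ) y = (φ : G → Fin d → κ) (y * g) := rfl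

/-- The trace of a linear map into `κ^d` from a representation, along `T`. -/
def traceTo {X : Type*} [AddCommGroup X] [Module κ X] (R : G → Matrix (Fin d) (Fin d) κ)
    (ρ : Representation κ G X) (h : X →ₗ[κ] Fin d → κ) : X →ₗ[κ] Fin d → κ :=
  ∑ t : G with t ∈ T, (Matrix.mulVecLin (R t)).comp (h.comp (ρ t⁻¹))

theorem traceTo_apply {X : Type*} [AddCommGroup X] [Module κ X] (R : G → Matrix (Fin d) (Fin d) κ)
    (ρ : Representation κ G X) (h : X →ₗ[κ] Fin d → κ) (x : X) :
    traceTo T R ρ h x = ∑ t : G with t ∈ T, (R t).mulVec (h (ρ t⁻¹ x)) := by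
  simp [traceTo, LinearMap.sum_apply]

omit [Group G] [Fintype G] in
theorem units_mul (i : Fin r) (a b : Fin (m i)) (c : Fin (m i) → κ) :
    (Pi.single i (Matrix.single a b (1 : κ)) : Π i, Matrix (Fin (m i)) (Fin (m i)) κ) *
        ∑ b', c b' • (Pi.single i (Matrix.single b' a (1 : κ)) :
          Π i, Matrix (Fin (m i)) (Fin (m i)) κ) =
      c b • (Pi.single i (Matrix.single a a (1 : κ)) : Π i, Matrix (Fin (m i)) (Fin (m i)) κ) := by
  rw [Finset.mul_sum, Finset.sum_eq_single b]
  · rw [mul_smul_comm, ← Pi.single_mul, Matrix.single_mul_single_same, mul_one]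
  · intro b' _ hne
    rw [mul_smul_comm, ← Pi.single_mul, Matrix.single_mul_single_of_ne _ _ _ _ (Ne.symm hne),
      Pi.single_zero, smul_zero]
  · simp

omit [Group G] [Fintype G] in
theorem mul_units (A : Π i, Matrix (Fin (m i)) (Fin (m i)) κ) (i : Fin r) (b a : Fin (m i)) :
    A * (Pi.single i (Matrix.single b a (1 : κ)) : Π i, Matrix (Fin (m i)) (Fin (m i)) κ) =
      ∑ c, A i c b • (Pi.single i (Matrix.single c a (1 : κ)) :
        Π i, Matrix (Fin (m i)) (Fin (m i)) κ) := by
  funext k
  rcases eq_or_ne k i with rfl | hk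
  · simp only [Pi.mul_apply, Pi.single_eq_same, Finset.sum_apply, Pi.smul_apply]
    ext p q
    simp [Matrix.mul_apply, Matrix.sum_apply, Matrix.single_apply, ite_and, eq_comm]
  · simp [hk]

omit [Group G] [Fintype G] in
theorem scalar_of_central {n : ℕ} {e : Matrix (Fin n) (Fin n) κ} (h : ∀ A, e * A = A * e)
    (a : Fin n) : e = e a a • 1 := by
  obtain ⟨c, hc⟩ : e ∈ Set.range (Matrix.scalar (Fin n) : κ →+* Matrix (Fin n) (Fin n) κ) :=
    Matrix.mem_range_scalar_of_commute_single fun i j _ => (h (Matrix.single i j 1)).symm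
  rw [← hc]
  ext p q
  simp [Matrix.one_apply, Matrix.diagonal_apply]

open Classical in
/-- Without a simple module with a non-trace map, the `T`-part of `ε` under `R` is a trace. -/
theorem exists_trace_or_simple_nontrace
    (π : MonoidAlgebra κ G →ₐ[κ] Π i, Matrix (Fin (m i)) (Fin (m i)) κ)
    (hπ : Function.Surjective π) {N : ℕ} (hnil : (RingHom.ker π) ^ N = ⊥)
    (R : G → Matrix (Fin d) (Fin d) κ)
    (hR : ∀ a ∈ T, ∀ b ∈ T, R (a * b) = R a * R b)
    (ε : MonoidAlgebra κ G) (hεc : ∀ a, ε * a = a * ε) (hεi : ε * ε = ε) :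
    (∃ i, π ε i = 1 ∧ ∃ f : Matrix (Fin d) (Fin (m i)) κ,
      (∀ t ∈ T, f * π (single t 1) i = R t * f) ∧
      ¬ ∃ g : Matrix (Fin d) (Fin (m i)) κ,
        f = ∑ t : G with t ∈ T, R t * g * π (single t⁻¹ 1) i) ∨
    ∃ A : Matrix (Fin d) (Fin d) κ,
      ∑ t : G with t ∈ T, ε.coeff t • R t = ∑ t : G with t ∈ T, R t * A * R t⁻¹ := by
  refine or_iff_not_imp_left.mpr fun hno => ?_
  push Not at hno
  set ρ := inducedRep T R with hρ
  set Φ : MonoidAlgebra κ G →ₐ[κ] Module.End κ (induced T R) := ρ.asAlgebraHom with hΦ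
  have hΦs : ∀ g, Φ (single g 1) = ρ g := fun g => ρ.asAlgebraHom_single_one g
  obtain ⟨eval, heval⟩ : ∃ e : induced T R →ₗ[κ] Fin d → κ,
      e = (LinearMap.proj (1 : G)).comp (induced T R).subtype := ⟨_, rfl⟩
  have hev : ∀ t ∈ T, ∀ φ, eval (ρ t φ) = (R t).mulVec (eval φ) := fun t ht φ => by
    rw [heval]
    show (φ : G → Fin d → κ) (1 * t) = _
    rw [one_mul]
    conv_lhs => rw [← mul_one t]
    exact φ.2 t ht 1
  -- the induction
  have key : ∀ (L : Submodule κ (induced T R)), (∀ a, ∀ x ∈ L, Φ a x ∈ L) →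
      (∀ x, x - Φ ε x ∈ L) → ∀ F : induced T R →ₗ[κ] Fin d → κ,
      (∀ t ∈ T, ∀ x, F (ρ t x) = (R t).mulVec (F x)) → (∀ x ∈ L, F x = 0) →
      ∃ h, F = traceTo T R ρ h := by
    intro L
    induction L using WellFoundedGT.induction with
    | _ L ih =>
    intro hLinv hLε F hF hFL
    rcases eq_or_ne L ⊤ with rfl | htop
    · exact ⟨0, LinearMap.ext fun x => by rw [hFL x trivial, traceTo_apply]; simp⟩
    obtain ⟨x, hx⟩ : ∃ x, x ∉ L := by
      by_contra hc
      push Not at hc
      exact htop (Submodule.eq_top_iff'.mpr hc)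
    -- a vector killed by the radical
    obtain ⟨v, hv, hJv⟩ : ∃ v, v ∉ L ∧ ∀ j, π j = 0 → Φ j v ∈ L := by
      by_contra hc
      push Not at hc
      have : ∀ k, ∃ a ∈ (RingHom.ker π) ^ k, Φ a x ∉ L := by
        intro k
        induction k with
        | zero => exact ⟨1, by simp [Submodule.pow_zero, Ideal.one_eq_top], by simpa using hx⟩
        | succ k ihk =>
          obtain ⟨a, ha, hax⟩ := ihk
          obtain ⟨j, hj, hjx⟩ := hc _ hax
          refine ⟨j * a, ?_, by rwa [map_mul]⟩
          rcases eq_or_ne k 0 with rfl | hk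
          · rw [zero_add, Submodule.pow_one, RingHom.mem_ker, map_mul, hj, zero_mul]
          · rw [Submodule.pow_succ' _ hk]
            exact Ideal.mul_mem_mul hj ha
      obtain ⟨a, ha, hax⟩ := this N
      rw [hnil, Ideal.mem_bot] at ha
      rw [ha, map_zero] at hax
      exact hax L.zero_mem
    set v' := Φ ε v with hv'def
    have hv' : v' ∉ L := fun h => hv (by
      rw [hv'def] at h
      have := L.add_mem (hLε v) h
      rwa [sub_add_cancel] at this)
    have hJv' : ∀ j, π j = 0 → Φ j v' ∈ L := fun j hj => by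
      rw [hv'def, ← Module.End.mul_apply, ← map_mul, ← hεc, map_mul, Module.End.mul_apply]
      exact hLinv _ _ (hJv j hj)
    choose E hE using fun (i : Fin r) (a b : Fin (m i)) => hπ (Pi.single i (Matrix.single a b 1))
    obtain ⟨i, a₀, ha₀⟩ : ∃ i a, Φ (E i a a) v' ∉ L := by
      by_contra hc
      push Not at hc
      refine hv' ?_
      have h1 : π ((∑ i, ∑ a, E i a a) - 1) = 0 := by
        rw [map_sub, map_sum, map_one, sub_eq_zero]
        funext k
        simp only [map_sum, hE, Finset.sum_apply]
        rw [Finset.sum_eq_single k]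
        · ext p q
          simp [Matrix.sum_apply, Matrix.single_apply, Matrix.one_apply, ite_and]
        · intro b _ hb; simp [Ne.symm hb]
        · simp
      have h2 := hJv' _ h1
      rw [map_sub, map_one, LinearMap.sub_apply, Module.End.one_apply, map_sum,
        LinearMap.sum_apply] at h2
      have h3 : ∑ i, Φ (∑ a, E i a a) v' ∈ L := Submodule.sum_mem _ fun i _ => by
        rw [map_sum, LinearMap.sum_apply]
        exact Submodule.sum_mem _ fun a _ => hc i a
      simpa using L.sub_mem h3 h2
    set s : Fin (m i) → induced T R := fun b => Φ (E i b a₀) v' with hs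
    have hhom : ∀ a b, Φ a (s b) - ∑ c, π a i c b • s c ∈ L := by
      intro a b
      have h1 : π (a * E i b a₀ - ∑ c, π a i c b • E i c a₀) = 0 := by
        simp only [map_sub, map_mul, map_sum, map_smul, hE]
        rw [mul_units m, sub_self]
      have h2 := hJv' _ h1
      simpa [hs, map_sub, map_mul, map_sum, LinearMap.sum_apply, map_smul] using h2
    have hinj : ∀ c : Fin (m i) → κ, ∑ b, c b • s b ∈ L → c = 0 := by
      intro c hc
      funext b
      have h1 : Φ (E i a₀ b) (∑ b', c b' • s b') - c b • Φ (E i a₀ a₀) v' ∈ L := by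
        have h2 : π (E i a₀ b * (∑ b', c b' • E i b' a₀) - c b • E i a₀ a₀) = 0 := by
          simp only [map_sub, map_mul, map_sum, map_smul, hE]
          rw [units_mul m, sub_self]
        have h3 := hJv' _ h2
        simpa [hs, map_sub, map_mul, map_sum, LinearMap.sum_apply, map_smul] using h3
      have h4 : c b • Φ (E i a₀ a₀) v' ∈ L := by
        have := L.sub_mem (hLinv (E i a₀ b) _ hc) h1
        rwa [sub_sub_cancel] at this
      by_contra hne
      exact ha₀ ((Submodule.smul_mem_iff L hne).mp h4)
    have hπε : π ε i = 1 := by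
      set e := π ε i
      have hcen : ∀ A, e * A = A * e := fun A => by
        obtain ⟨a, ha⟩ := hπ (Pi.single i A)
        have := congrFun (congrArg π (hεc a)) i
        simpa [map_mul, ha] using this
      have hidem : e * e = e := by
        have := congrFun (congrArg π hεi) i
        simpa [map_mul] using this
      have hsc : e = e a₀ a₀ • 1 := scalar_of_central hcen a₀
      have hc : e a₀ a₀ * e a₀ a₀ = e a₀ a₀ := by
        rw [hsc] at hidem
        have := congrFun (congrFun hidem a₀) a₀
        simpa using this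
      rcases eq_or_ne (e a₀ a₀) 0 with h0 | h0
      · exfalso
        refine ha₀ ?_
        have h1 : π (E i a₀ a₀ * ε) = 0 := by
          funext k
          rcases eq_or_ne k i with rfl | hk
          · show π (E k a₀ a₀ * ε) k = 0
            rw [map_mul, Pi.mul_apply, hE, Pi.single_eq_same, show π ε k = e from rfl, hsc, h0,
              zero_smul, Matrix.mul_zero]
          · rw [map_mul, Pi.mul_apply, hE]
            simp [hk]
        have h2 := hJv' _ h1
        rwa [map_mul, Module.End.mul_apply, hv'def, ← Module.End.mul_apply (Φ ε), ← map_mul, hεi]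
          at h2
      · rw [hsc, mul_right_cancel₀ h0 (hc.trans (one_mul _).symm), one_smul]
    have hact : ∀ g b, ρ g (s b) - ∑ c, π (single g 1) i c b • s c ∈ L := fun g b => by
      rw [← hΦs]; exact hhom _ b
    set f : Matrix (Fin d) (Fin (m i)) κ := Matrix.of fun k b => F (s b) k with hf
    have hfeq : ∀ t ∈ T, f * π (single t 1) i = R t * f := by
      intro t ht
      ext k b
      have h1 := hFL _ (hact t b)
      rw [map_sub, sub_eq_zero, hF t ht, map_sum] at h1
      have h2 := congrFun h1 k
      simp only [Finset.sum_apply, map_smul, Pi.smul_apply, smul_eq_mul] at h2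
      simp only [Matrix.mul_apply, hf, Matrix.of_apply]
      rw [show ∑ x, R t k x * F (s b) x = (R t).mulVec (F (s b)) k from rfl, h2]
      exact Finset.sum_congr rfl fun x _ => mul_comm _ _
    obtain ⟨g₀, hg₀⟩ := hno i hπε f hfeq
    let S : (Fin (m i) → κ) →ₗ[κ] induced T R := Fintype.linearCombination κ s
    have hker : LinearMap.ker (L.mkQ.comp S) = ⊥ := by
      rw [Submodule.eq_bot_iff]
      intro c hc
      refine hinj c ?_
      have hc' := hc
      simp only [LinearMap.mem_ker, LinearMap.comp_apply, Submodule.mkQ_apply,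
        Submodule.Quotient.mk_eq_zero] at hc'
      simpa [S, Fintype.linearCombination_apply] using hc'
    obtain ⟨left, hleft⟩ := LinearMap.exists_leftInverse_of_injective _ hker
    set h' : induced T R →ₗ[κ] Fin d → κ :=
      (Matrix.mulVecLin g₀).comp (left.comp L.mkQ) with hh'
    have hh'L : ∀ x ∈ L, h' x = 0 := fun x hx => by
      rw [hh', LinearMap.comp_apply, LinearMap.comp_apply,
        show L.mkQ x = 0 from (Submodule.Quotient.mk_eq_zero L).mpr hx, map_zero, map_zero]
    have hh's : ∀ b, h' (s b) = fun k => g₀ k b := fun b => by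
      have h1 : S (Pi.single b 1) = s b := by
        simp [S, Fintype.linearCombination_apply_single]
      have h2 := LinearMap.congr_fun hleft (Pi.single b 1)
      simp only [LinearMap.comp_apply, LinearMap.id_apply, h1] at h2
      rw [hh', LinearMap.comp_apply, LinearMap.comp_apply, h2]
      funext k
      simp
    set F' := F - traceTo T R ρ h' with hF'
    have hinv' : ∀ t, ∀ x ∈ L, ρ t x ∈ L := fun t x hx => hΦs t ▸ hLinv _ x hx
    have hF'L : ∀ x ∈ L, F' x = 0 := fun x hx => by
      rw [hF', LinearMap.sub_apply, hFL x hx, traceTo_apply,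
        Finset.sum_eq_zero fun t _ => by rw [hh'L _ (hinv' _ x hx), Matrix.mulVec_zero], sub_zero]
    have hF's : ∀ b, F' (s b) = 0 := by
      intro b
      rw [hF', LinearMap.sub_apply, sub_eq_zero, traceTo_apply]
      funext k
      have h1 := congrFun (congrFun hg₀ k) b
      rw [hf, Matrix.of_apply] at h1
      rw [h1, Matrix.sum_apply, Finset.sum_apply]
      refine Finset.sum_congr rfl fun t _ => ?_
      have h2 : h' (ρ t⁻¹ (s b)) = fun k => (g₀ * π (single t⁻¹ 1) i) k b := by
        have h3 := hh'L _ (hact t⁻¹ b)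
        rw [map_sub, sub_eq_zero, map_sum] at h3
        rw [h3]
        funext k
        simp only [map_smul, hh's, Finset.sum_apply, Pi.smul_apply, smul_eq_mul, Matrix.mul_apply]
        exact Finset.sum_congr rfl fun x _ => mul_comm _ _
      rw [h2, Matrix.mul_assoc]
      rfl
    have hF'eq : ∀ t ∈ T, ∀ x, F' (ρ t x) = (R t).mulVec (F' x) := by
      intro t ht x
      simp only [hF', LinearMap.sub_apply, hF t ht, Matrix.mulVec_sub, traceTo_apply,
        Matrix.mulVec_sum, Matrix.mulVec_mulVec]
      congr 1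
      refine Finset.sum_equiv (Equiv.mulLeft t⁻¹) (fun w => ?_) fun w hw => ?_
      · simp [Subgroup.mul_mem_cancel_left _ (inv_mem ht)]
      · simp only [Equiv.coe_mulLeft]
        rw [← hR t ht _ (mul_mem (inv_mem ht) (Finset.mem_filter.mp hw).2), mul_inv_cancel_left,
          mul_inv_rev, inv_inv, map_mul, Module.End.mul_apply]
    set L' := L ⊔ LinearMap.range S with hL'
    have hlt : L < L' := by
      refine lt_of_le_of_ne le_sup_left fun he => ha₀ ?_
      rw [he]
      exact Submodule.mem_sup_right ⟨Pi.single a₀ 1, by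
        simp [S, hs, Fintype.linearCombination_apply_single]⟩
    have hL'inv : ∀ a, ∀ x ∈ L', Φ a x ∈ L' := by
      intro a x hx
      obtain ⟨y, hy, z, ⟨c, rfl⟩, rfl⟩ := Submodule.mem_sup.mp hx
      rw [map_add]
      refine add_mem (Submodule.mem_sup_left (hLinv a y hy)) ?_
      rw [Fintype.linearCombination_apply, map_sum]
      refine Submodule.sum_mem _ fun b _ => ?_
      rw [map_smul]
      refine Submodule.smul_mem _ _ ?_
      rw [← sub_add_cancel (Φ a (s b)) (∑ c, π a i c b • s c)]
      refine add_mem (Submodule.mem_sup_left (hhom a b)) (Submodule.mem_sup_right ?_)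
      exact ⟨fun c => π a i c b, Fintype.linearCombination_apply κ s _⟩
    obtain ⟨h'', hh''⟩ := ih L' hlt hL'inv (fun x => Submodule.mem_sup_left (hLε x)) F' hF'eq
      (fun x hx => by
        obtain ⟨y, hy, z, ⟨c, rfl⟩, rfl⟩ := Submodule.mem_sup.mp hx
        rw [map_add, hF'L y hy, Fintype.linearCombination_apply, map_sum, zero_add]
        exact Finset.sum_eq_zero fun b _ => by rw [map_smul, hF's, smul_zero])
    refine ⟨h' + h'', LinearMap.ext fun x => ?_⟩
    have h1 := LinearMap.congr_fun hh'' x
    rw [hF', LinearMap.sub_apply, sub_eq_iff_eq_add] at h1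
    rw [h1, traceTo_apply, traceTo_apply, traceTo_apply, ← Finset.sum_add_distrib]
    refine Finset.sum_congr rfl fun t _ => ?_
    rw [LinearMap.add_apply, Matrix.mulVec_add, add_comm]
  -- the contradiction
  obtain ⟨h, hh⟩ := key (LinearMap.ker (Φ ε))
    (fun a x hx => by
      rw [LinearMap.mem_ker] at hx ⊢
      rw [← Module.End.mul_apply, ← map_mul, hεc, map_mul, Module.End.mul_apply, hx, map_zero])
    (fun x => by
      rw [LinearMap.mem_ker, map_sub, ← Module.End.mul_apply, ← map_mul, hεi, sub_self])
    (eval.comp (Φ ε))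
    (fun t ht x => by
      rw [LinearMap.comp_apply, LinearMap.comp_apply, ← hΦs, ← Module.End.mul_apply, ← map_mul,
        hεc, map_mul, Module.End.mul_apply, hΦs]
      exact hev t ht _)
    (fun x hx => by rw [LinearMap.comp_apply, LinearMap.mem_ker.mp hx, map_zero])
  let ι : (Fin d → κ) →ₗ[κ] induced T R :=
    { toFun := fun u => ⟨fun y => if y ∈ T then (R y).mulVec u else 0, fun t ht y => by
        show (if t * y ∈ T then _ else _) = (R t).mulVec (if y ∈ T then _ else _)
        by_cases hy : y ∈ T
        · rw [if_pos (mul_mem ht hy), if_pos hy, hR t ht y hy, Matrix.mulVec_mulVec]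
        · rw [if_neg (fun h => hy (by simpa using mul_mem (inv_mem ht) h)), if_neg hy,
            Matrix.mulVec_zero]⟩
      map_add' := fun a b => Subtype.ext (funext fun y => by
        simp only [Submodule.coe_add, Pi.add_apply]
        split_ifs <;> simp [Matrix.mulVec_add])
      map_smul' := fun c a => Subtype.ext (funext fun y => by
        simp only [Submodule.coe_smul, Pi.smul_apply, RingHom.id_apply]
        split_ifs <;> simp [Matrix.mulVec_smul]) }
  have hι : ∀ t ∈ T, ∀ u, ρ t (ι u) = ι ((R t).mulVec u) := fun t ht u =>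
    Subtype.ext (funext fun y => by
      show (if y * t ∈ T then _ else _) = (if y ∈ T then _ else _)
      by_cases hy : y ∈ T
      · rw [if_pos (mul_mem hy ht), if_pos hy, hR y hy t ht, Matrix.mulVec_mulVec]
      · rw [if_neg (fun hh => hy (by simpa using mul_mem hh (inv_mem ht))), if_neg hy])
  set A : Matrix (Fin d) (Fin d) κ := LinearMap.toMatrix' (h.comp ι) with hA
  have hlhs : (eval.comp ((Φ ε).comp ι)) =
      Matrix.toLin' (∑ t : G with t ∈ T, ε.coeff t • R t) := by
    refine LinearMap.ext fun u => ?_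
    have h1 : Φ ε = ∑ g : G, ε.coeff g • ρ g := by
      rw [hΦ, Representation.asAlgebraHom_def, MonoidAlgebra.lift_apply,
        Finsupp.sum_fintype _ _ (fun g => by simp)]
    rw [LinearMap.comp_apply, LinearMap.comp_apply, h1, LinearMap.sum_apply, map_sum, heval,
      Matrix.toLin'_apply, Matrix.sum_mulVec, Finset.sum_filter]
    refine Finset.sum_congr rfl fun g _ => ?_
    rw [LinearMap.smul_apply, map_smul]
    show ε.coeff g • (ι u : G → Fin d → κ) (1 * g) = _
    rw [one_mul]
    show ε.coeff g • (if g ∈ T then _ else _) = _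
    split_ifs with hg
    · rw [Matrix.smul_mulVec]
    · rw [smul_zero]
  have hrhs : eval.comp ((Φ ε).comp ι) =
      Matrix.toLin' (∑ t : G with t ∈ T, R t * A * R t⁻¹) := by
    refine LinearMap.ext fun u => ?_
    rw [LinearMap.comp_apply, LinearMap.comp_apply, ← LinearMap.comp_apply eval, hh, traceTo_apply,
      Matrix.toLin'_apply, Matrix.sum_mulVec]
    refine Finset.sum_congr rfl fun t ht => ?_
    rw [hι _ (inv_mem (Finset.mem_filter.mp ht).2), ← LinearMap.comp_apply h,
      show (h.comp ι) ((R t⁻¹).mulVec u) = A.mulVec ((R t⁻¹).mulVec u) by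
        rw [hA, LinearMap.toMatrix'_mulVec], Matrix.mulVec_mulVec, Matrix.mulVec_mulVec]
  refine ⟨A, ?_⟩
  have h2 := congrArg LinearMap.toMatrix' (hlhs.symm.trans hrhs)
  rwa [LinearMap.toMatrix'_toLin', LinearMap.toMatrix'_toLin'] at h2

open Classical in
/-- The key statement. -/
theorem exists_simple_nontrace (π : MonoidAlgebra κ G →ₐ[κ] Π i, Matrix (Fin (m i)) (Fin (m i)) κ)
    (hπ : Function.Surjective π) {N : ℕ} (hnil : (RingHom.ker π) ^ N = ⊥)
    (R : G → Matrix (Fin d) (Fin d) κ) (hR1 : R 1 = 1)
    (hR : ∀ a ∈ T, ∀ b ∈ T, R (a * b) = R a * R b)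
    (ε : MonoidAlgebra κ G) (hεc : ∀ a, ε * a = a * ε) (hεi : ε * ε = ε)
    (hT0 : (Nat.card T : κ) = 0)
    (htr : ∑ t : G with t ∈ T, ε.coeff t * (R t).trace ≠ 0) :
    ∃ i, π ε i = 1 ∧ ∃ f : Matrix (Fin d) (Fin (m i)) κ,
      (∀ t ∈ T, f * π (single t 1) i = R t * f) ∧
      ¬ ∃ g : Matrix (Fin d) (Fin (m i)) κ,
        f = ∑ t : G with t ∈ T, R t * g * π (single t⁻¹ 1) i := by
  refine (exists_trace_or_simple_nontrace T m π hπ hnil R hR ε hεc hεi).resolve_right ?_
  rintro ⟨A, hA⟩
  have h2 := congrArg Matrix.trace hA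
  simp only [Matrix.trace_sum, Matrix.trace_smul, smul_eq_mul] at h2
  rw [Finset.sum_congr rfl (f := fun t => (R t * A * R t⁻¹).trace) (g := fun _ => A.trace) fun t ht => by
    have ht' := (Finset.mem_filter.mp ht).2
    rw [Matrix.trace_mul_comm, ← Matrix.mul_assoc, ← hR _ (inv_mem ht') _ ht', inv_mul_cancel, hR1,
      Matrix.one_mul], Finset.sum_const, ← Fintype.card_subtype, ← Nat.card_eq_fintype_card,
    ← Nat.cast_smul_eq_nsmul κ, hT0, zero_smul] at h2
  exact htr h2

end CfsgLib.Blocks.PrimeDefect
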