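import Mathlib.LinearAlgebra.Trace
import Mathlib.LinearAlgebra.Matrix.StdBasis
import Mathlib.LinearAlgebra.Matrix.Trace
import Mathlib.Analysis.Complex.Basic

/-!
# Averages of conjugates of matrices

The map `E ↦ |H|⁻¹ ∑ R h * E * R' h⁻¹` is a projection of trace
`|H|⁻¹ ∑ tr (R h) tr (R' h⁻¹)`.
-/

set_option autoImplicit false

namespace CfsgLib.Blocks.PrimeDefect

variable {H : Type*} [Group H] [Fintype H] {d : ℕ}

theorem trace_mul_mul (A B : Matrix (Fin d) (Fin d) ℂ) :
    LinearMap.trace ℂ _ ((LinearMap.mulLeft ℂ A).comp (LinearMap.mulRight ℂ B)) =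
      A.trace * B.trace := by
  rw [LinearMap.trace_eq_matrix_trace ℂ (Matrix.stdBasis ℂ (Fin d) (Fin d)), Matrix.trace]
  simp only [Matrix.diag, LinearMap.toMatrix_apply, LinearMap.comp_apply, LinearMap.mulLeft_apply,
    LinearMap.mulRight_apply, Fintype.sum_prod_type]
  rw [Matrix.trace, Matrix.trace, Finset.sum_mul_sum]
  refine Finset.sum_congr rfl fun i _ => Finset.sum_congr rfl fun j _ => ?_
  rw [Matrix.stdBasis_eq_single]
  show (A * (Matrix.single i j (1 : ℂ) * B) : Matrix (Fin d) (Fin d) ℂ) i j = _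
  rw [← mul_assoc, Matrix.mul_apply, Finset.sum_eq_single j]
  · simp
  · intro b _ hb
    simp [Matrix.mul_apply, Matrix.single_apply, Ne.symm hb]
  · simp

variable (R R' : H →* Matrix (Fin d) (Fin d) ℂ)

/-- The averaging map. -/
noncomputable def avg : Matrix (Fin d) (Fin d) ℂ →ₗ[ℂ] Matrix (Fin d) (Fin d) ℂ :=
  (Fintype.card H : ℂ)⁻¹ • ∑ h, (LinearMap.mulLeft ℂ (R h)).comp (LinearMap.mulRight ℂ (R' h⁻¹))

theorem avg_apply (E : Matrix (Fin d) (Fin d) ℂ) :
    avg R R' E = (Fintype.card H : ℂ)⁻¹ • ∑ h, R h * E * R' h⁻¹ := by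
  simp [avg, LinearMap.sum_apply, mul_assoc]

theorem avg_idem (E : Matrix (Fin d) (Fin d) ℂ) : avg R R' (avg R R' E) = avg R R' E := by
  have h : ∀ g, R g * avg R R' E * R' g⁻¹ = avg R R' E := fun g => by
    simp only [avg_apply, mul_smul_comm, smul_mul_assoc, Finset.mul_sum, Finset.sum_mul]
    congr 1
    refine Fintype.sum_equiv (Equiv.mulLeft g) _ _ fun x => ?_
    simp [map_mul, mul_assoc]
  rw [avg_apply R R' (avg R R' E), Finset.sum_congr rfl fun g _ => h g, Finset.sum_const,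
    Finset.card_univ, ← Nat.cast_smul_eq_nsmul ℂ, smul_smul,
    inv_mul_cancel₀ (Nat.cast_ne_zero.mpr Fintype.card_ne_zero), one_smul]

theorem isProj_avg : LinearMap.IsProj (LinearMap.range (avg R R')) (avg R R') :=
  ⟨fun x => LinearMap.mem_range_self _ x, fun x ⟨y, hy⟩ => by rw [← hy, avg_idem]⟩

theorem finrank_range_avg {m : ℕ}
    (h : ∑ x, (R x).trace * (R' x⁻¹).trace = (m : ℂ) * Fintype.card H) :
    Module.finrank ℂ (LinearMap.range (avg R R')) = m := by
  have e := (isProj_avg R R').trace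
  simp only [avg, map_smul, map_sum, trace_mul_mul, smul_eq_mul, h] at e
  rw [mul_comm (m : ℂ), inv_mul_cancel_left₀ (Nat.cast_ne_zero.mpr Fintype.card_ne_zero)] at e
  exact_mod_cast e.symm

/-- Orthogonal characters: the averages vanish. -/
theorem sum_conj_eq_zero (h : ∑ x, (R x).trace * (R' x⁻¹).trace = 0)
    (E : Matrix (Fin d) (Fin d) ℂ) : ∑ x, R x * E * R' x⁻¹ = 0 := by
  have h0 : LinearMap.range (avg R R') = ⊥ :=
    Submodule.finrank_eq_zero.mp (finrank_range_avg R R' (m := 0) (by rw [h]; simp))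
  have := LinearMap.congr_fun (LinearMap.range_eq_bot.mp h0) E
  rw [avg_apply, LinearMap.zero_apply, smul_eq_zero] at this
  exact this.resolve_left (inv_ne_zero (Nat.cast_ne_zero.mpr Fintype.card_ne_zero))

/-- A character of norm one: the averages are scalars. -/
theorem sum_conj_eq_scalar (hd : d ≠ 0)
    (h : ∑ x, (R x).trace * (R x⁻¹).trace = (Fintype.card H : ℂ))
    (E : Matrix (Fin d) (Fin d) ℂ) :
    (d : ℂ) • ∑ x, R x * E * R x⁻¹ = ((Fintype.card H : ℂ) * E.trace) • 1 := by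
  have hH : (Fintype.card H : ℂ) ≠ 0 := Nat.cast_ne_zero.mpr Fintype.card_ne_zero
  haveI : Nonempty (Fin d) := ⟨⟨0, Nat.pos_of_ne_zero hd⟩⟩
  have h1 : Module.finrank ℂ (LinearMap.range (avg R R)) = 1 :=
    finrank_range_avg R R (m := 1) (by rw [h]; simp)
  have hone : (1 : Matrix (Fin d) (Fin d) ℂ) ∈ LinearMap.range (avg R R) := by
    refine ⟨1, ?_⟩
    rw [avg_apply, Finset.sum_congr rfl (g := fun _ => 1) fun x _ => by
      rw [mul_one, ← map_mul, mul_inv_cancel, map_one], Finset.sum_const, Finset.card_univ,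
      ← Nat.cast_smul_eq_nsmul ℂ, smul_smul, inv_mul_cancel₀ hH, one_smul]
  have hspan : Submodule.span ℂ {(1 : Matrix (Fin d) (Fin d) ℂ)} = LinearMap.range (avg R R) :=
    Submodule.eq_of_le_of_finrank_eq (Submodule.span_le.mpr (Set.singleton_subset_iff.mpr hone))
      (by rw [finrank_span_singleton one_ne_zero, h1])
  obtain ⟨c, hc⟩ := Submodule.mem_span_singleton.mp (hspan ▸ LinearMap.mem_range_self (avg R R) E)
  rw [avg_apply] at hc
  have hsum : ∑ x, R x * E * R x⁻¹ = ((Fintype.card H : ℂ) * c) • 1 := by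
    rw [mul_smul, hc, smul_smul, mul_inv_cancel₀ hH, one_smul]
  have htr : (Fintype.card H : ℂ) * E.trace = (Fintype.card H : ℂ) * c * d := by
    have := congrArg Matrix.trace hsum
    rw [Matrix.trace_sum, Finset.sum_congr rfl (g := fun _ => E.trace) fun x _ => by
      rw [Matrix.trace_mul_comm, ← mul_assoc, ← map_mul, inv_mul_cancel, map_one, one_mul],
      Matrix.trace_smul, Matrix.trace_one, Fintype.card_fin, smul_eq_mul] at this
    simpa using this
  rw [hsum, smul_smul, htr]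
  congr 1
  ring

end CfsgLib.Blocks.PrimeDefect
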