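import Mathlib.LinearAlgebra.Matrix.Trace
import Mathlib.LinearAlgebra.Dual.Lemmas
import Mathlib.Algebra.CharP.Lemmas
import Mathlib.Algebra.Ring.GeomSum
import Mathlib.Algebra.Polynomial.AlgebraMap
import Mathlib.GroupTheory.GroupAction.Quotient
import Mathlib.GroupTheory.Index
import Mathlib.GroupTheory.OrderOfElement
import Mathlib.Tactic.Group

/-!
# Maps of an absolutely simple module to the twists of a representation of an inertial group

In characteristic `p`, let `ρ` be a representation of `G` with scalar commutant, `T ≤ N` subgroups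
with a normal subgroup `C = ⟨u⟩ × V` of `T`, `u` of order `p`, `V` of order prime to `p`, and `R` a
representation of `T` absolutely irreducible on `V` and trivial on `u`. Then the maps `f` from `ρ` to
`ω • R` that are not traces exist for at most one linear character `ω` of `T / C`.
-/

set_option autoImplicit false
set_option linter.unusedSectionVars false

namespace CfsgLib.Blocks.PrimeDefect

section Orbit

variable {K Q A κ : Type*} [Group K] [Fintype K] [MulAction K Q] [Fintype Q] [Field κ]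
  [AddCommGroup A] [Module κ A]

/-- An equivariant sum over points with invertible stabilizer orders is a trace. -/
theorem exists_orbit_trace (Φ : K → A →ₗ[κ] A) (F : Q → A) (hF : ∀ k q, Φ k (F q) = F (k • q))
    (s : Finset Q) (hinv : ∀ (k : K), ∀ q ∈ s, k • q ∈ s)
    (hst : ∀ q ∈ s, (Nat.card (MulAction.stabilizer K q) : κ) ≠ 0) :
    ∃ a, ∑ q ∈ s, F q = ∑ k, Φ k a := by
  classical
  let rep : Q → Q := fun q => Quotient.out (Quotient.mk (MulAction.orbitRel K Q) q)
  have hrep : ∀ q, q ∈ MulAction.orbit K (rep q) := fun q =>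
    MulAction.mem_orbit_symm.mp
      (Quotient.exact (Quotient.out_eq (Quotient.mk (MulAction.orbitRel K Q) q)))
  have hrep' : ∀ (k : K) q, rep (k • q) = rep q := fun k q =>
    congrArg Quotient.out (Quotient.sound ⟨k, rfl⟩)
  have hreps : ∀ q ∈ s, rep q ∈ s := fun q hq => by
    obtain ⟨k, hk⟩ := MulAction.mem_orbit_symm.mp (hrep q)
    exact hk ▸ hinv k q hq
  refine ⟨∑ q₀ ∈ s.image rep, (Nat.card (MulAction.stabilizer K q₀) : κ)⁻¹ • F q₀, ?_⟩
  simp only [map_sum, map_smul, hF]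
  rw [Finset.sum_comm, ← Finset.sum_fiberwise_of_maps_to (t := s.image rep) (g := rep)
    (fun q hq => Finset.mem_image_of_mem rep hq)]
  refine Finset.sum_congr rfl fun q₀ hq₀ => ?_
  obtain ⟨q₁, hq₁, rfl⟩ := Finset.mem_image.mp hq₀
  have hmem : rep q₁ ∈ s := hreps q₁ hq₁
  have hrr : rep (rep q₁) = rep q₁ := by
    obtain ⟨k, hk⟩ := MulAction.mem_orbit_symm.mp (hrep q₁)
    rw [← hk, hrep']
    exact hk.symm
  rw [← Finset.smul_sum, eq_inv_smul_iff₀ (hst _ hmem),
    ← Finset.sum_fiberwise_of_maps_to (g := fun k : K => k • rep q₁)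
      (t := ({q ∈ s | rep q = rep q₁} : Finset Q)) (fun k _ =>
        Finset.mem_filter.mpr ⟨hinv k _ hmem, (hrep' k _).trans hrr⟩), Finset.smul_sum]
  refine Finset.sum_congr rfl fun q hq => ?_
  obtain ⟨-, hq'⟩ := Finset.mem_filter.mp hq
  obtain ⟨k₀, hk₀⟩ := hq' ▸ hrep q
  dsimp only at hk₀
  rw [Finset.sum_congr rfl (g := fun _ => F q) fun k hk => by
    rw [(Finset.mem_filter.mp hk).2], Finset.sum_const, ← Nat.cast_smul_eq_nsmul κ]
  congr 2
  rw [← Fintype.card_subtype, ← Nat.card_eq_fintype_card]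
  refine Nat.card_congr
    { toFun := fun k => ⟨k₀ * k, by rw [mul_smul, MulAction.mem_stabilizer_iff.mp k.2, hk₀]⟩
      invFun := fun k => ⟨k₀⁻¹ * k, MulAction.mem_stabilizer_iff.mpr (by
        rw [mul_smul, k.2, inv_smul_eq_iff, hk₀])⟩
      left_inv := fun k => by simp
      right_inv := fun k => by simp }

end Orbit

section Coset

variable {G A : Type*} [Group G] [Fintype G] [AddCommMonoid A] (S C : Subgroup G)
  [DecidablePred (· ∈ S)] [DecidablePred (· ∈ C)]

/-- A sum over `S` by cosets of `C ≤ S`. -/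
theorem sum_cosets (h : C ≤ S) [Fintype (G ⧸ C)] (F : G → A) :
    ∑ t : G with t ∈ S, F t =
      ∑ q : G ⧸ C with Quotient.out q ∈ S, ∑ c : G with c ∈ C, F (Quotient.out q * c) := by
  classical
  rw [← Finset.sum_fiberwise_of_maps_to (g := fun t : G => (t : G ⧸ C))
    (t := ({q : G ⧸ C | Quotient.out q ∈ S} : Finset _)) (fun t ht => ?_)]
  · refine Finset.sum_congr rfl fun q hq => ?_
    refine (Finset.sum_bij' (fun c _ => Quotient.out q * c) (fun t _ => (Quotient.out q)⁻¹ * t)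
      ?_ ?_ (fun c _ => by simp) (fun t _ => by simp) fun c _ => rfl).symm
    · intro c hc
      simp only [Finset.mem_filter, Finset.mem_univ, true_and] at hq hc ⊢
      refine ⟨S.mul_mem hq (h hc), ?_⟩
      rw [QuotientGroup.mk_mul_of_mem _ hc]
      exact QuotientGroup.out_eq' q
    · intro t ht
      simp only [Finset.mem_filter, Finset.mem_univ, true_and] at hq ht ⊢
      exact QuotientGroup.eq.mp ((QuotientGroup.out_eq' q).trans ht.2.symm)
  · simp only [Finset.mem_filter, Finset.mem_univ, true_and] at ht ⊢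
    obtain ⟨c, hc⟩ := QuotientGroup.mk_out_eq_mul C t
    rw [hc]
    exact S.mul_mem ht (h c.2)

/-- A sum over `S` vanishes if it does on every coset `C n`. -/
theorem sum_eq_zero_of_cosets (h : C ≤ S) (F : G → A)
    (hF : ∀ n ∈ S, ∑ c : G with c ∈ C, F (c * n) = 0) : ∑ t : G with t ∈ S, F t = 0 := by
  classical
  haveI : Fintype (G ⧸ C) := Fintype.ofFinite _
  have h1 : ∑ t : G with t ∈ S, F t = ∑ t : G with t ∈ S, F t⁻¹ :=
    Finset.sum_equiv (Equiv.inv G) (fun t => by simp) fun t _ => by simp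
  rw [h1, sum_cosets S C h fun t => F t⁻¹]
  refine Finset.sum_eq_zero fun q hq => ?_
  rw [← hF (Quotient.out q)⁻¹ (S.inv_mem (Finset.mem_filter.mp hq).2)]
  exact Finset.sum_equiv (Equiv.inv G) (fun t => by simp) fun t _ => by simp

end Coset

/-- The setting. -/
structure StableData (G κ : Type*) [Group G] [Fintype G] [Field κ] (p n d : ℕ) where
  ρ : G →* Matrix (Fin n) (Fin n) κ
  R : G → Matrix (Fin d) (Fin d) κ
  N : Subgroup G
  T : Subgroup G
  C : Subgroup G
  V : Subgroup G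
  u : G
  [decN : DecidablePred (· ∈ N)]
  [decT : DecidablePred (· ∈ T)]
  [decC : DecidablePred (· ∈ C)]
  [decV : DecidablePred (· ∈ V)]
  TN : T ≤ N
  CT : C ≤ T
  VC : V ≤ C
  uC : u ∈ C
  order_u : orderOf u = p
  decomp : ∀ c ∈ C, ∃ i : ℕ, ∃ v ∈ V, u ^ i * v = c
  commV : ∀ v ∈ V, Commute u v
  conjV : ∀ g ∈ N, ∀ v ∈ V, g * v * g⁻¹ ∈ V
  conju : ∀ t ∈ T, t * u * t⁻¹ ∈ Subgroup.zpowers u
  conjC : ∀ t ∈ T, ∀ c ∈ C, t * c * t⁻¹ ∈ C
  cardV : (Nat.card V : κ) ≠ 0
  deg : (d : κ) ≠ 0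
  indexC : (C.relIndex T : κ) ≠ 0
  stab : ∀ x, x ∉ N → (Nat.card {g : N // x⁻¹ * (g : G) * x ∈ N} : κ) ≠ 0
  R_one : R 1 = 1
  R_mul : ∀ a ∈ T, ∀ b ∈ T, R (a * b) = R a * R b
  R_u : R u = 1
  schur : ∀ E, (d : κ) • ∑ v : G with v ∈ V, R v * E * R v⁻¹ =
    ((Nat.card V : κ) * E.trace) • 1
  schur_conj : ∀ g ∈ N, g ∉ T → ∀ E, ∑ v : G with v ∈ V, R v * E * R (g⁻¹ * v⁻¹ * g) = 0
  scalar : ∀ A, (∀ g, A * ρ g = ρ g * A) → ∃ c : κ, A = c • 1

namespace StableData

variable {G κ : Type*} [Group G] [Fintype G] [Field κ] {p n d : ℕ} (D : StableData G κ p n d)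

attribute [local instance] StableData.decN StableData.decT StableData.decC StableData.decV

/-- Equivariant maps to the twist by `ω`. -/
def IsEquiv (ω : G → κ) (f : Matrix (Fin d) (Fin n) κ) : Prop :=
  ∀ t ∈ D.T, f * D.ρ t = ω t • (D.R t * f)

/-- Traces from the trivial subgroup. -/
def IsTrace (ω : G → κ) (f : Matrix (Fin d) (Fin n) κ) : Prop :=
  ∃ g : Matrix (Fin d) (Fin n) κ, f = ∑ t : G with t ∈ D.T, ω t • (D.R t * g * D.ρ t⁻¹)

/-- The action on homomorphisms. -/
def act (t : G) : Matrix (Fin n) (Fin d) κ →ₗ[κ] Matrix (Fin n) (Fin d) κ where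
  toFun z := D.ρ t * z * D.R t⁻¹
  map_add' a b := by simp [mul_add, add_mul, Matrix.mul_add, Matrix.add_mul]
  map_smul' c a := by simp

theorem act_apply (t : G) (z : Matrix (Fin n) (Fin d) κ) : D.act t z = D.ρ t * z * D.R t⁻¹ := rfl

theorem act_act {a b : G} (ha : a ∈ D.T) (hb : b ∈ D.T) (z : Matrix (Fin n) (Fin d) κ) :
    D.act a (D.act b z) = D.act (a * b) z := by
  simp only [act_apply, map_mul, mul_inv_rev, D.R_mul _ (inv_mem hb) _ (inv_mem ha), Matrix.mul_assoc]

theorem act_one (z : Matrix (Fin n) (Fin d) κ) : D.act 1 z = z := by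
  simp [act_apply, D.R_one]

theorem uT : D.u ∈ D.T := D.CT D.uC

theorem R_pow (i : ℕ) : D.R (D.u ^ i) = 1 := by
  induction i with
  | zero => rw [pow_zero, D.R_one]
  | succ i ih => rw [pow_succ, D.R_mul _ (D.T.pow_mem D.uT i) _ D.uT, ih, D.R_u, Matrix.mul_one]

variable [hp : Fact p.Prime] [CharP κ p]

theorem mem_zpowers_iff {c : G} : c ∈ Subgroup.zpowers D.u ↔ ∃ i : ℕ, D.u ^ i = c := by
  rw [← mem_powers_iff_mem_zpowers, Submonoid.mem_powers_iff]

theorem R_u_inv_pow (i : ℕ) : D.R (D.u ^ i)⁻¹ = 1 := by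
  obtain ⟨j, hj⟩ := D.mem_zpowers_iff.mp (inv_mem (pow_mem (Subgroup.mem_zpowers D.u) i))
  rw [← hj, R_pow]

theorem VT : D.V ≤ D.T := D.VC.trans D.CT

theorem inter_V {c : G} (hc : c ∈ Subgroup.zpowers D.u) (hv : c ∈ D.V) : c = 1 := by
  by_contra hne
  have h1 : orderOf c ∣ p := D.order_u ▸ orderOf_dvd_of_mem_zpowers hc
  rcases (Nat.dvd_prime hp.out).mp h1 with h | h
  · exact hne (orderOf_eq_one_iff.mp h)
  · refine D.cardV ?_
    rw [CharP.cast_eq_zero_iff κ p]
    have : orderOf (⟨c, hv⟩ : D.V) ∣ Nat.card D.V := orderOf_dvd_natCard _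
    rwa [Subgroup.orderOf_mk, h] at this

theorem u_pow_p : D.u ^ p = 1 :=
  (congrArg (D.u ^ ·) D.order_u.symm).trans (pow_orderOf_eq_one D.u)

theorem u_pow_mod (i : ℕ) : D.u ^ (i % p) = D.u ^ i :=
  (congrArg (fun q => D.u ^ (i % q)) D.order_u.symm).trans (pow_mod_orderOf D.u i)

theorem u_pow_inj {i j : ℕ} (hi : i < p) (hj : j < p) (h : D.u ^ i = D.u ^ j) : i = j :=
  pow_injOn_Iio_orderOf (lt_of_lt_of_eq hi D.order_u.symm) (lt_of_lt_of_eq hj D.order_u.symm) h

/-- The cosets of `C` in `T`. -/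
theorem card_cosets [Fintype (G ⧸ D.C)] :
    ({q : G ⧸ D.C | Quotient.out q ∈ D.T} : Finset (G ⧸ D.C)).card = D.C.relIndex D.T := by
  classical
  have h := sum_cosets D.T D.C D.CT (fun _ => (1 : ℕ))
  simp only [Finset.sum_const, smul_eq_mul, mul_one] at h
  rw [← Fintype.card_subtype, ← Nat.card_eq_fintype_card, ← Fintype.card_subtype (· ∈ D.C),
    ← Nat.card_eq_fintype_card] at h
  have h2 : D.C.relIndex D.T * Nat.card D.C = Nat.card D.T := by
    rw [Subgroup.relIndex, ← Nat.card_congr (Subgroup.subgroupOfEquivOfLe D.CT).toEquiv,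
      mul_comm, Subgroup.card_mul_index]
  exact Nat.eq_of_mul_eq_mul_right Nat.card_pos (h.symm.trans h2.symm)

theorem sum_C {A : Type*} [AddCommMonoid A] (F : G → A) :
    ∑ c : G with c ∈ D.C, F c =
      ∑ i ∈ Finset.range p, ∑ v : G with v ∈ D.V, F (D.u ^ i * v) := by
  classical
  rw [← Finset.sum_product']
  symm
  refine Finset.sum_bij (fun x _ => D.u ^ x.1 * x.2) (fun x hx => ?_) (fun x hx y hy h => ?_)
    (fun c hc => ?_) fun x _ => rfl
  · simp only [Finset.mem_product, Finset.mem_filter, Finset.mem_univ, true_and] at hx ⊢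
    exact mul_mem (pow_mem D.uC _) (D.VC hx.2)
  · simp only [Finset.mem_product, Finset.mem_filter, Finset.mem_univ, true_and,
      Finset.mem_range] at hx hy
    have h1 : (D.u ^ y.1)⁻¹ * D.u ^ x.1 = y.2 * x.2⁻¹ := by
      rw [eq_mul_inv_iff_mul_eq, mul_assoc, h, inv_mul_cancel_left]
    have h2 := D.inter_V (mul_mem (inv_mem (pow_mem (Subgroup.mem_zpowers D.u) _))
      (pow_mem (Subgroup.mem_zpowers D.u) _)) (h1 ▸ mul_mem hy.2 (inv_mem hx.2))
    rw [inv_mul_eq_one] at h2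
    have h3 : y.1 = x.1 := D.u_pow_inj hy.1 hx.1 h2
    rw [← h3] at h
    exact Prod.ext h3.symm (mul_left_cancel h)
  · obtain ⟨i, v, hv, rfl⟩ := D.decomp c (Finset.mem_filter.mp hc).2
    refine ⟨(i % p, v), by simp [hv, Nat.mod_lt _ hp.out.pos], ?_⟩
    show D.u ^ (i % p) * v = _
    rw [D.u_pow_mod]

/-- The average over `V`. -/
noncomputable def av : Matrix (Fin n) (Fin d) κ →ₗ[κ] Matrix (Fin n) (Fin d) κ :=
  (Nat.card D.V : κ)⁻¹ • ∑ v : G with v ∈ D.V, D.act v

theorem av_apply (z : Matrix (Fin n) (Fin d) κ) :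
    D.av z = (Nat.card D.V : κ)⁻¹ • ∑ v : G with v ∈ D.V, D.act v z := by
  simp [av, LinearMap.sum_apply]

theorem card_filter_V : ({v : G | v ∈ D.V} : Finset G).card = Nat.card D.V := by
  rw [← Fintype.card_subtype, ← Nat.card_eq_fintype_card]

theorem act_av_V {v : G} (hv : v ∈ D.V) (z : Matrix (Fin n) (Fin d) κ) :
    D.act v (D.av z) = D.av z := by
  simp only [av_apply, map_smul, map_sum]
  congr 1
  refine Finset.sum_equiv (Equiv.mulLeft v) (fun w => ?_) fun w hw => ?_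
  · simp [Subgroup.mul_mem_cancel_left _ hv]
  · exact D.act_act (D.VT hv) (D.VT (Finset.mem_filter.mp hw).2) z

theorem av_av (z : Matrix (Fin n) (Fin d) κ) : D.av (D.av z) = D.av z := by
  rw [D.av_apply (D.av z), Finset.sum_congr rfl fun v hv =>
    D.act_av_V (Finset.mem_filter.mp hv).2 z, Finset.sum_const, card_filter_V,
    ← Nat.cast_smul_eq_nsmul κ, smul_smul, inv_mul_cancel₀ D.cardV, one_smul]

theorem act_av {t : G} (ht : t ∈ D.T) (z : Matrix (Fin n) (Fin d) κ) :
    D.act t (D.av z) = D.av (D.act t z) := by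
  simp only [av_apply, map_smul, map_sum]
  congr 1
  refine Finset.sum_equiv (MulAut.conj t).toEquiv (fun v => ?_) fun v hv => ?_
  · simp only [Finset.mem_filter, Finset.mem_univ, true_and, MulEquiv.toEquiv_eq_coe,
      EquivLike.coe_coe, MulAut.conj_apply]
    refine ⟨D.conjV t (D.TN ht) v, fun h => ?_⟩
    have := D.conjV t⁻¹ (D.TN (inv_mem ht)) _ h
    simpa [mul_assoc] using this
  · have hv' := D.VT (Finset.mem_filter.mp hv).2
    simp only [MulEquiv.toEquiv_eq_coe, EquivLike.coe_coe, MulAut.conj_apply]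
    rw [D.act_act ht hv', D.act_act (mul_mem (mul_mem ht hv') (inv_mem ht)) ht,
      inv_mul_cancel_right]

theorem act_V_of_fixed {v : G} (hv : v ∈ D.V) {z : Matrix (Fin n) (Fin d) κ} (hz : D.av z = z) :
    D.act v z = z := by
  rw [← hz, D.act_av_V hv]

/-- `u - 1`. -/
noncomputable def xop : Module.End κ (Matrix (Fin n) (Fin d) κ) := D.act D.u - 1

theorem xop_apply (z : Matrix (Fin n) (Fin d) κ) : D.xop z = D.act D.u z - z := rfl

theorem act_pow (i : ℕ) (z : Matrix (Fin n) (Fin d) κ) :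
    D.act (D.u ^ i) z = ((D.act D.u : Module.End κ _) ^ i) z := by
  induction i generalizing z with
  | zero => rw [pow_zero, pow_zero, act_one, Module.End.one_apply]
  | succ i ih =>
    rw [pow_succ, pow_succ, Module.End.mul_apply, ← ih, D.act_act (pow_mem D.uT i) D.uT]

/-- The norm of `⟨u⟩` is `(u - 1) ^ (p - 1)`. -/
theorem norm_eq (z : Matrix (Fin n) (Fin d) κ) :
    ∑ i ∈ Finset.range p, D.act (D.u ^ i) z = (D.xop ^ (p - 1)) z := by
  have hpoly : ∑ i ∈ Finset.range p, (Polynomial.X : Polynomial κ) ^ i =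
      (Polynomial.X - 1) ^ (p - 1) := by
    refine mul_right_cancel₀ (Polynomial.X_sub_C_ne_zero (1 : κ)) ?_
    rw [map_one, geom_sum_mul, ← pow_succ, Nat.sub_add_cancel hp.out.one_le,
      sub_pow_char, one_pow]
  have h := congrArg (fun q => Polynomial.aeval (D.act D.u : Module.End κ _) q z) hpoly
  simp only [map_sum, map_pow, map_sub, Polynomial.aeval_X, map_one, LinearMap.sum_apply,
    ← act_pow] at h
  exact h

theorem xop_av (z : Matrix (Fin n) (Fin d) κ) : D.xop (D.av z) = D.av (D.xop z) := by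
  rw [xop_apply, xop_apply, map_sub, D.act_av D.uT]

theorem pow_xop_av (m : ℕ) (z : Matrix (Fin n) (Fin d) κ) :
    (D.xop ^ m) (D.av z) = D.av ((D.xop ^ m) z) := by
  induction m generalizing z with
  | zero => rfl
  | succ m ih => rw [pow_succ, Module.End.mul_apply, Module.End.mul_apply, xop_av, ih]

/-- Powers of `u - 1` on a translate. -/
theorem pow_xop_act {t : G} (ht : t ∈ D.T) {m : ℕ} {z : Matrix (Fin n) (Fin d) κ}
    (hz : (D.xop ^ m) z = 0) : (D.xop ^ m) (D.act t z) = 0 := by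
  obtain ⟨r, hr⟩ := D.mem_zpowers_iff.mp (D.conju t⁻¹ (inv_mem ht))
  rw [inv_inv] at hr
  set U : Module.End κ (Matrix (Fin n) (Fin d) κ) := D.act D.u with hU
  set Q := ∑ i ∈ Finset.range r, U ^ i
  have hQ : Q * D.xop = U ^ r - 1 := geom_sum_mul U r
  have hcomm : Commute Q D.xop :=
    Commute.sum_left _ _ _ fun i _ => ((Commute.refl U).sub_right (Commute.one_right U)).pow_left i
  have hstep : ∀ w, D.xop (D.act t w) = D.act t ((U ^ r - 1) w) := fun w => by
    rw [xop_apply, LinearMap.sub_apply, map_sub, Module.End.one_apply, hU, ← act_pow, hr,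
      D.act_act D.uT ht, D.act_act ht (mul_mem (mul_mem (inv_mem ht) D.uT) ht)]
    rw [show t * (t⁻¹ * D.u * t) = D.u * t by group]
  have hiter : ∀ (j : ℕ) w, (D.xop ^ j) (D.act t w) = D.act t (((U ^ r - 1) ^ j) w) := by
    intro j
    induction j with
    | zero => intro w; rfl
    | succ j ih => intro w; rw [pow_succ, Module.End.mul_apply, hstep, ih, pow_succ,
        Module.End.mul_apply]
  rw [hiter, ← hQ, hcomm.mul_pow, Module.End.mul_apply, hz, map_zero, map_zero]

/-- The functional of a map. -/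
def phi (f : Matrix (Fin d) (Fin n) κ) : Module.Dual κ (Matrix (Fin n) (Fin d) κ) where
  toFun z := (f * z).trace
  map_add' a b := by simp [Matrix.mul_add]
  map_smul' c a := by simp

omit hp [CharP κ p] in
theorem phi_apply (f : Matrix (Fin d) (Fin n) κ) (z : Matrix (Fin n) (Fin d) κ) :
    phi f z = (f * z).trace := rfl

omit hp [CharP κ p] in
theorem phi_single (f : Matrix (Fin d) (Fin n) κ) (j : Fin n) (k : Fin d) :
    phi f (Matrix.single j k (1 : κ)) = f k j := by
  classical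
  simp [phi_apply, Matrix.trace, Matrix.mul_apply, Matrix.single_apply, ite_and]

variable {ω : G → κ} (hω : ∀ a ∈ D.T, ∀ b ∈ D.T, ω (a * b) = ω a * ω b)
  (hωC : ∀ c ∈ D.C, ω c = 1)
include hω hωC

theorem omega_mul_inv {t : G} (ht : t ∈ D.T) : ω t * ω t⁻¹ = 1 := by
  rw [← hω t ht t⁻¹ (inv_mem ht), mul_inv_cancel, hωC 1 D.C.one_mem]

theorem phi_act {f : Matrix (Fin d) (Fin n) κ} (hf : D.IsEquiv ω f) {t : G} (ht : t ∈ D.T)
    (z : Matrix (Fin n) (Fin d) κ) : phi f (D.act t z) = ω t * phi f z := by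
  rw [phi_apply, phi_apply, act_apply, ← Matrix.mul_assoc, ← Matrix.mul_assoc, hf t ht,
    Matrix.smul_mul, Matrix.smul_mul, Matrix.trace_smul, smul_eq_mul]
  congr 1
  rw [Matrix.trace_mul_comm, Matrix.mul_assoc (D.R t), ← Matrix.mul_assoc,
    ← D.R_mul _ (inv_mem ht) _ ht, inv_mul_cancel, D.R_one, Matrix.one_mul]

theorem phi_av {f : Matrix (Fin d) (Fin n) κ} (hf : D.IsEquiv ω f)
    (z : Matrix (Fin n) (Fin d) κ) : phi f (D.av z) = phi f z := by
  rw [av_apply, map_smul, map_sum, Finset.sum_congr rfl (g := fun _ => phi f z) fun v hv => by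
    rw [D.phi_act hω hωC hf (D.VT (Finset.mem_filter.mp hv).2),
      hωC v (D.VC (Finset.mem_filter.mp hv).2), one_mul],
    Finset.sum_const, card_filter_V, ← Nat.cast_smul_eq_nsmul κ, smul_eq_mul, smul_eq_mul,
    inv_mul_cancel_left₀ D.cardV]

theorem phi_xop {f : Matrix (Fin d) (Fin n) κ} (hf : D.IsEquiv ω f)
    (z : Matrix (Fin n) (Fin d) κ) : phi f (D.xop z) = 0 := by
  rw [xop_apply, map_sub, D.phi_act hω hωC hf D.uT, hωC _ D.uC, one_mul, sub_self]

/-- A map whose functional kills the kernel of the norm is a trace. -/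
theorem isTrace_of_phi_eq_zero {f : Matrix (Fin d) (Fin n) κ} (hf : D.IsEquiv ω f)
    (h0 : ∀ z, D.av z = z → (D.xop ^ (p - 1)) z = 0 → phi f z = 0) : D.IsTrace ω f := by
  classical
  set L := (D.xop ^ (p - 1)) ∘ₗ D.av
  have hker : phi f ∈ (LinearMap.ker L).dualAnnihilator := by
    rw [Submodule.mem_dualAnnihilator]
    intro z hz
    rw [← D.phi_av hω hωC hf]
    exact h0 _ (D.av_av z) hz
  rw [← LinearMap.range_dualMap_eq_dualAnnihilator_ker] at hker
  obtain ⟨ψ, hψ⟩ := hker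
  set ψ' := ψ.comp D.av with hψ'
  set g : Matrix (Fin d) (Fin n) κ := Matrix.of fun k j => ψ' (Matrix.single j k (1 : κ)) with hg
  have hgz : ∀ z, (g * z).trace = ψ' z := fun z => by
    have : phi g = ψ' := (Matrix.stdBasis κ (Fin n) (Fin d)).ext fun jk => by
      rw [Matrix.stdBasis_eq_single, phi_single]
      rfl
    exact LinearMap.congr_fun this z
  have hext : ∀ a b : Matrix (Fin d) (Fin n) κ, (∀ z, (a * z).trace = (b * z).trace) → a = b :=
    fun a b h => by
      ext k j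
      rw [← phi_single a, ← phi_single b]
      exact h _
  have hgV : ∀ v ∈ D.V, D.R v⁻¹ * g * D.ρ v = g := fun v hv => hext _ _ fun z => by
    have h1 : ψ' (D.act v z) = ψ' z := by
      simp only [hψ', LinearMap.comp_apply, ← D.act_av (D.VT hv), D.act_av_V hv]
    rw [← hgz, ← hgz, act_apply, ← Matrix.mul_assoc, Matrix.trace_mul_comm] at h1
    simpa [Matrix.mul_assoc] using h1
  have hfg : f = ∑ i ∈ Finset.range p, g * D.ρ (D.u ^ i) := hext _ _ fun z => by
    rw [Matrix.sum_mul, Matrix.trace_sum, ← phi_apply, ← LinearMap.congr_fun hψ z]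
    simp only [LinearMap.dualMap_apply, L, LinearMap.comp_apply]
    rw [D.pow_xop_av, ← D.norm_eq, map_sum, map_sum]
    refine Finset.sum_congr rfl fun i _ => ?_
    rw [Matrix.mul_assoc, hgz]
    simp [hψ', act_apply, R_u_inv_pow]
  have hC : ∑ c : G with c ∈ D.C, D.R c * g * D.ρ c⁻¹ = (Nat.card D.V : κ) • f := by
    rw [D.sum_C, hfg, Finset.smul_sum]
    have hterm : ∀ i, ∑ v : G with v ∈ D.V, D.R (D.u ^ i * v) * g * D.ρ (D.u ^ i * v)⁻¹ =
        (Nat.card D.V : κ) • (g * D.ρ (D.u ^ i)⁻¹) := fun i => by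
      rw [Finset.sum_congr rfl (g := fun _ => g * D.ρ (D.u ^ i)⁻¹) fun v hv => ?_, Finset.sum_const,
        card_filter_V, ← Nat.cast_smul_eq_nsmul κ]
      obtain ⟨hv', hvT⟩ := And.intro (Finset.mem_filter.mp hv).2 (D.VT (Finset.mem_filter.mp hv).2)
      rw [D.R_mul _ (pow_mem D.uT i) _ hvT, R_pow, Matrix.one_mul, mul_inv_rev, map_mul,
        ← Matrix.mul_assoc]
      congr 1
      simpa using hgV v⁻¹ (inv_mem hv')
    rw [Finset.sum_congr rfl fun i _ => hterm i]
    refine Finset.sum_bij' (fun i _ => (p - i) % p) (fun i _ => (p - i) % p) ?_ ?_ ?_ ?_ ?_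
    · exact fun i _ => Finset.mem_range.mpr (Nat.mod_lt _ hp.out.pos)
    · exact fun i _ => Finset.mem_range.mpr (Nat.mod_lt _ hp.out.pos)
    all_goals intro i hi; rw [Finset.mem_range] at hi
    · rcases Nat.eq_zero_or_pos i with rfl | h
      · simp
      · rw [Nat.mod_eq_of_lt (by omega : p - i < p), Nat.mod_eq_of_lt (by omega)]; omega
    · rcases Nat.eq_zero_or_pos i with rfl | h
      · simp
      · rw [Nat.mod_eq_of_lt (by omega : p - i < p), Nat.mod_eq_of_lt (by omega)]; omega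
    · congr 3
      refine inv_eq_of_mul_eq_one_right ?_
      rw [D.u_pow_mod, ← pow_add, Nat.add_sub_cancel' hi.le, D.u_pow_p]
  haveI : Fintype (G ⧸ D.C) := Fintype.ofFinite _
  set Q : Finset (G ⧸ D.C) := {q | Quotient.out q ∈ D.T}
  have hQ : (Q.card : κ) = D.C.relIndex D.T := congrArg Nat.cast D.card_cosets
  refine ⟨((Q.card : κ) * Nat.card D.V)⁻¹ • g, ?_⟩
  rw [sum_cosets D.T D.C D.CT, Finset.sum_congr rfl (g := fun _ => ((Q.card : κ))⁻¹ • f)
    fun q hq => ?_, Finset.sum_const, ← Nat.cast_smul_eq_nsmul κ, smul_smul]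
  · show f = ((Q.card : κ) * (Q.card : κ)⁻¹) • f
    rw [mul_inv_cancel₀ (by rw [hQ]; exact D.indexC), one_smul]
  have hqT : Quotient.out q ∈ D.T := (Finset.mem_filter.mp hq).2
  set t := Quotient.out q
  rw [Finset.sum_congr rfl (g := fun c => ((Q.card : κ) * Nat.card D.V)⁻¹ •
    (ω t • (D.R t * (D.R c * g * D.ρ c⁻¹) * D.ρ t⁻¹))) fun c hc => ?_]
  · rw [← Finset.smul_sum, ← Finset.smul_sum, ← Matrix.sum_mul, ← Matrix.mul_sum, hC,
      Matrix.mul_smul, Matrix.smul_mul, smul_comm (ω t), ← Matrix.smul_mul (ω t), ← hf t hqT,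
      Matrix.mul_assoc,
      ← map_mul, mul_inv_cancel, map_one, Matrix.mul_one, smul_smul, mul_inv, mul_assoc,
      inv_mul_cancel₀ D.cardV, mul_one]
  · have hcC := (Finset.mem_filter.mp hc).2
    rw [hω t hqT c (D.CT hcC), hωC c hcC, mul_one, D.R_mul t hqT c (D.CT hcC),
      mul_inv_rev t c, map_mul, Matrix.mul_smul, Matrix.smul_mul, smul_comm]
    simp [Matrix.mul_assoc]

omit hω hωC

/-- The operator on the module of an operator on the homomorphisms. -/
noncomputable def lift (π : Module.End κ (Matrix (Fin n) (Fin d) κ)) :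
    Matrix (Fin n) (Fin n) κ :=
  Matrix.of fun i j => ∑ l, π ((d : κ) • D.av (Matrix.single j l (1 : κ))) i l

variable {π : Module.End κ (Matrix (Fin n) (Fin d) κ)}

theorem av_mul_single {h : Matrix (Fin n) (Fin d) κ} (hh : D.av h = h) (k l : Fin d) :
    (d : κ) • D.av (h * Matrix.single k l (1 : κ)) = if k = l then h else 0 := by
  classical
  have hterm : ∀ v ∈ ({v : G | v ∈ D.V} : Finset G), D.act v (h * Matrix.single k l (1 : κ)) =
      h * (D.R v * Matrix.single k l (1 : κ) * D.R v⁻¹) := fun v hv => by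
    have hvV := (Finset.mem_filter.mp hv).2
    have h1 := D.act_V_of_fixed hvV hh
    rw [act_apply] at h1
    have h2 : D.ρ v * h = h * D.R v := by
      have := congrArg (fun Z : Matrix (Fin n) (Fin d) κ => Z * D.R v) h1
      rwa [Matrix.mul_assoc, ← D.R_mul _ (inv_mem (D.VT hvV)) _ (D.VT hvV), inv_mul_cancel,
        D.R_one, Matrix.mul_one] at this
    rw [act_apply, ← Matrix.mul_assoc (D.ρ v), h2]
    simp [Matrix.mul_assoc]
  rw [av_apply, Finset.sum_congr rfl hterm, ← Matrix.mul_sum, smul_comm, ← Matrix.mul_smul,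
    D.schur, Matrix.mul_smul, Matrix.mul_one, smul_smul, ← mul_assoc, inv_mul_cancel₀ D.cardV,
    one_mul]
  rcases eq_or_ne k l with rfl | hkl
  · simp [Matrix.trace_single_eq_same]
  · simp [hkl, Matrix.trace_single_eq_of_ne _ _ _ hkl]

theorem lift_mul {h : Matrix (Fin n) (Fin d) κ} (hh : D.av h = h) : D.lift π * h = π h := by
  classical
  ext i k
  rw [Matrix.mul_apply]
  simp only [lift, Matrix.of_apply, Finset.sum_mul]
  rw [Finset.sum_comm]
  have : ∀ l : Fin d, h * Matrix.single k l (1 : κ) = ∑ j : Fin n, h j k • Matrix.single j l (1 : κ) := fun l => by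
    ext a b
    simp [Matrix.sum_apply, Matrix.mul_apply, Matrix.single_apply, ite_and]
  calc ∑ l, ∑ j, π ((d : κ) • D.av (Matrix.single j l (1 : κ))) i l * h j k
      = ∑ l, π ((d : κ) • D.av (h * Matrix.single k l (1 : κ))) i l := by
        refine Finset.sum_congr rfl fun l _ => ?_
        rw [this, map_sum, Finset.smul_sum, map_sum, Matrix.sum_apply]
        refine Finset.sum_congr rfl fun j _ => ?_
        simp only [map_smul, Matrix.smul_apply, smul_eq_mul]
        ring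
    _ = π h i k := by
        rw [Finset.sum_congr rfl fun l _ => by rw [D.av_mul_single hh], Finset.sum_eq_single k]
        · simp
        · intro l _ hl; simp [Ne.symm hl]
        · simp

theorem lift_comm (hπ : ∀ t ∈ D.T, ∀ z, π (D.act t z) = D.act t (π z)) {t : G} (ht : t ∈ D.T) :
    D.lift π * D.ρ t = D.ρ t * D.lift π := by
  classical
  set F := fun z => π ((d : κ) • D.av z) with hF
  have hFact : ∀ z, F (D.act t z) = D.act t (F z) := fun z => by
    simp only [hF, ← D.act_av ht, ← map_smul, hπ t ht]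
  have hFlin : ∀ (s : Finset (Fin n)) (c : Fin n → κ) (z : Fin n → Matrix (Fin n) (Fin d) κ),
      F (∑ x ∈ s, c x • z x) = ∑ x ∈ s, c x • F (z x) := fun s c z => by
    simp only [hF, map_sum, map_smul, Finset.smul_sum, smul_comm (d : κ)]
  ext i j
  have h1 : ∀ l, ∑ x, D.ρ t x j • Matrix.single x l (1 : κ) =
      D.act t (Matrix.single j l (1 : κ) * D.R t) := fun l => by
    rw [act_apply, Matrix.mul_assoc, Matrix.mul_assoc, ← D.R_mul _ ht _ (inv_mem ht), mul_inv_cancel,
      D.R_one, Matrix.mul_one]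
    ext a b
    simp [Matrix.sum_apply, Matrix.mul_apply, Matrix.single_apply, ite_and]
  have h2 : ∀ l, Matrix.single j l (1 : κ) * D.R t = ∑ k, D.R t l k • Matrix.single j k (1 : κ) := fun l => by
    ext a b
    simp [Matrix.sum_apply, Matrix.mul_apply, Matrix.single_apply, ite_and]
  have h3 : ∀ l, F (D.act t (Matrix.single j l (1 : κ) * D.R t)) i l =
      ∑ k, D.R t l k * D.act t (F (Matrix.single j k (1 : κ))) i l := fun l => by
    rw [hFact, h2]
    simp only [hF, map_sum, map_smul, Finset.smul_sum, smul_comm (d : κ), Matrix.sum_apply,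
      Matrix.smul_apply, smul_eq_mul]
  calc (D.lift π * D.ρ t) i j = ∑ x, (∑ l, F (Matrix.single x l (1 : κ)) i l) * D.ρ t x j := by
        rw [Matrix.mul_apply]; rfl
    _ = ∑ l, F (∑ x, D.ρ t x j • Matrix.single x l (1 : κ)) i l := by
        simp only [hFlin, Matrix.sum_apply, Matrix.smul_apply, smul_eq_mul, Finset.sum_mul]
        rw [Finset.sum_comm]
        simp only [mul_comm]
    _ = ∑ k, (D.act t (F (Matrix.single j k (1 : κ))) * D.R t) i k := by
        simp only [h1, h3, Matrix.mul_apply]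
        rw [Finset.sum_comm]
        simp only [mul_comm]
    _ = ∑ k, (D.ρ t * F (Matrix.single j k (1 : κ))) i k := by
        refine Finset.sum_congr rfl fun k _ => ?_
        rw [act_apply, Matrix.mul_assoc, ← D.R_mul _ (inv_mem ht) _ ht, inv_mul_cancel, D.R_one,
          Matrix.mul_one]
    _ = (D.ρ t * D.lift π) i j := by
        simp only [Matrix.mul_apply, lift, Matrix.of_apply, Finset.mul_sum]
        rw [Finset.sum_comm]

/-- An endomorphism of the homomorphisms over `T` acts by one scalar on all functionals on the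
kernel of the norm. -/
theorem exists_scalar (hπ : ∀ t ∈ D.T, ∀ z, π (D.act t z) = D.act t (π z))
    (hπav : ∀ z, D.av (π z) = π z) :
    ∃ c : κ, ∀ (ω : G → κ), (∀ a ∈ D.T, ∀ b ∈ D.T, ω (a * b) = ω a * ω b) →
      (∀ c ∈ D.C, ω c = 1) → ∀ f, D.IsEquiv ω f →
        ∀ h, D.av h = h → (D.xop ^ (p - 1)) h = 0 → phi f (π h) = c * phi f h := by
  classical
  haveI : Fintype (G ⧸ D.T) := Fintype.ofFinite _
  haveI : Fintype (G ⧸ D.N) := Fintype.ofFinite _
  set a := D.lift π with ha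
  have hat : ∀ t ∈ D.T, a * D.ρ t = D.ρ t * a := fun t ht => D.lift_comm hπ ht
  have hconj : ∀ (S : Subgroup G) (A : Matrix (Fin n) (Fin n) κ),
      (∀ s ∈ S, A * D.ρ s = D.ρ s * A) → ∀ x : G,
      D.ρ (Quotient.out (x : G ⧸ S)) * A * D.ρ (Quotient.out (x : G ⧸ S))⁻¹ =
        D.ρ x * A * D.ρ x⁻¹ := by
    intro S A hA x
    obtain ⟨s, hs⟩ := QuotientGroup.mk_out_eq_mul S x
    rw [hs, map_mul, mul_inv_rev, map_mul, mul_assoc (D.ρ x), ← hA _ s.2]
    simp only [mul_assoc]
    rw [← mul_assoc (D.ρ (s : G)), ← map_mul, mul_inv_cancel, map_one, one_mul]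
  set F : G ⧸ D.T → Matrix (Fin n) (Fin n) κ :=
    fun q => D.ρ (Quotient.out q) * a * D.ρ (Quotient.out q)⁻¹ with hF
  set a' : Matrix (Fin n) (Fin n) κ := ∑ q : G ⧸ D.T with Quotient.out q ∈ D.N, F q with ha'
  have hFsm : ∀ g q, D.ρ g * F q * D.ρ g⁻¹ = F (g • q) := by
    intro g q
    have hq : g • q = ((g * Quotient.out q : G) : G ⧸ D.T) := by
      conv_lhs => rw [← QuotientGroup.out_eq' q]
      rfl
    simp only [hF]
    rw [hq, hconj D.T a hat, map_mul, mul_inv_rev, map_mul]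
    simp [mul_assoc]
  have hmemN : ∀ g ∈ D.N, ∀ q : G ⧸ D.T, Quotient.out (g • q) ∈ D.N ↔ Quotient.out q ∈ D.N := by
    intro g hg q
    have hq : g • q = ((g * Quotient.out q : G) : G ⧸ D.T) := by
      conv_lhs => rw [← QuotientGroup.out_eq' q]
      rfl
    obtain ⟨s, hs⟩ := QuotientGroup.mk_out_eq_mul D.T (g * Quotient.out q)
    rw [hq, hs, D.N.mul_mem_cancel_right (D.TN s.2), D.N.mul_mem_cancel_left hg]
  have ha'N : ∀ g ∈ D.N, a' * D.ρ g = D.ρ g * a' := by
    intro g hg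
    have : D.ρ g * a' * D.ρ g⁻¹ = a' := by
      simp only [ha', Finset.mul_sum, Finset.sum_mul, hFsm]
      exact Finset.sum_equiv (MulAction.toPerm g : Equiv.Perm (G ⧸ D.T)) (fun q => by simp [hmemN g hg q]) fun q _ => rfl
    conv_lhs => rw [← this]
    simp [mul_assoc, ← map_mul]
  set F' : G ⧸ D.N → Matrix (Fin n) (Fin n) κ :=
    fun q => D.ρ (Quotient.out q) * a' * D.ρ (Quotient.out q)⁻¹ with hF'
  have hF'sm : ∀ g q, D.ρ g * F' q * D.ρ g⁻¹ = F' (g • q) := by
    intro g q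
    have hq : g • q = ((g * Quotient.out q : G) : G ⧸ D.N) := by
      conv_lhs => rw [← QuotientGroup.out_eq' q]
      rfl
    simp only [hF']
    rw [hq, hconj D.N a' ha'N, map_mul, mul_inv_rev, map_mul]
    simp [mul_assoc]
  obtain ⟨c, hc⟩ := D.scalar (∑ q, F' q) fun g => by
    have : D.ρ g * (∑ q, F' q) * D.ρ g⁻¹ = ∑ q, F' q := by
      simp only [Finset.mul_sum, Finset.sum_mul, hF'sm]
      exact Fintype.sum_equiv (MulAction.toPerm g) _ _ fun q => rfl
    conv_lhs => rw [← this]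
    simp [mul_assoc, ← map_mul]
  have hbase : ((1 : G) : G ⧸ D.N) ∈ (Finset.univ : Finset (G ⧸ D.N)) := Finset.mem_univ _
  have h1 : F' ((1 : G) : G ⧸ D.N) = a' := by
    simp only [hF']
    rw [hconj D.N a' ha'N]
    simp
  set conjL : D.N → Matrix (Fin n) (Fin n) κ →ₗ[κ] Matrix (Fin n) (Fin n) κ := fun k =>
    (LinearMap.mulLeft κ (D.ρ k)).comp (LinearMap.mulRight κ (D.ρ (k : G)⁻¹))
  obtain ⟨b, hb⟩ := exists_orbit_trace conjL F'
    (fun k q => by
      show D.ρ k * (F' q * D.ρ (k : G)⁻¹) = _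
      rw [← mul_assoc, hF'sm]; rfl)
    (Finset.univ.erase ((1 : G) : G ⧸ D.N))
    (fun k q hq => Finset.mem_erase.mpr ⟨fun h => (Finset.mem_erase.mp hq).1 (by
      have h2 : q = (k : G)⁻¹ • ((1 : G) : G ⧸ D.N) := eq_inv_smul_iff.mpr h
      rw [h2]
      show (((k : G)⁻¹ * 1 : G) : G ⧸ D.N) = _
      exact QuotientGroup.eq.mpr (by simp)), Finset.mem_univ _⟩)
    (fun q hq => by
      have hx : Quotient.out q ∉ D.N := fun h => (Finset.mem_erase.mp hq).1 (by
        rw [← QuotientGroup.out_eq' q]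
        exact QuotientGroup.eq.mpr (by simpa using inv_mem h))
      convert D.stab _ hx using 2
      refine Nat.card_congr (Equiv.subtypeEquivRight fun k => ?_)
      have hk : k • q = (((k : G) * Quotient.out q : G) : G ⧸ D.N) := by
        conv_lhs => rw [← QuotientGroup.out_eq' q]
        rfl
      rw [MulAction.mem_stabilizer_iff, hk, eq_comm]
      conv_lhs => lhs; rw [← QuotientGroup.out_eq' q]
      rw [QuotientGroup.eq, mul_assoc])
  refine ⟨c, fun ω hω hωC f hf h hh hx => ?_⟩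
  -- `f a h = f a' h`
  have hfa' : (f * a' * h).trace = (f * a * h).trace := by
    rw [ha', Matrix.mul_sum, Matrix.sum_mul, Matrix.trace_sum]
    refine Eq.trans (Finset.sum_eq_single_of_mem ((1 : G) : G ⧸ D.T) ?_ ?_) ?_
    rotate_right
    · simp only [hF]
      rw [hconj D.T a hat]
      simp
    · obtain ⟨s, hs⟩ := QuotientGroup.mk_out_eq_mul D.T (1 : G)
      exact Finset.mem_filter.mpr ⟨Finset.mem_univ _, by rw [hs, one_mul]; exact D.TN s.2⟩
    intro q hq hne
    set g := Quotient.out q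
    have hgN : g ∈ D.N := (Finset.mem_filter.mp hq).2
    have hgT : g ∉ D.T := fun hgT => hne (by
      rw [← QuotientGroup.out_eq' q]
      exact QuotientGroup.eq.mpr (by simpa using inv_mem hgT))
    suffices h0 : ∀ z, D.av z = z → f * D.ρ g * z = 0 by
      have hj : ∀ j l, π ((d : κ) • D.av (Matrix.single j l (1 : κ))) =
          D.av (π ((d : κ) • D.av (Matrix.single j l (1 : κ)))) := fun j l => (hπav _).symm
      suffices hfga : f * D.ρ g * a = 0 by
        simp only [hF]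
        rw [← Matrix.mul_assoc, ← Matrix.mul_assoc, hfga]
        simp
      ext k j
      rw [Matrix.mul_apply]
      simp only [ha, lift, Matrix.of_apply, Finset.mul_sum]
      rw [Finset.sum_comm, Matrix.zero_apply]
      refine Finset.sum_eq_zero fun l _ => ?_
      have := congrFun (congrFun (h0 _ (hπav ((d : κ) • D.av (Matrix.single j l (1 : κ))))) k) l
      rwa [Matrix.mul_apply, Matrix.zero_apply] at this
    intro z hz
    set E := f * D.ρ g * z
    have hE : ∀ v ∈ D.V, D.R v * E * D.R (g⁻¹ * v⁻¹ * g) = E := by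
      intro v hv
      have hv' : g⁻¹ * v * g ∈ D.V := by
        simpa using D.conjV g⁻¹ (inv_mem hgN) v hv
      have h1 := D.act_V_of_fixed hv' hz
      rw [act_apply, show (g⁻¹ * v * g)⁻¹ = g⁻¹ * v⁻¹ * g by group] at h1
      have h2 : D.R v * f = f * D.ρ v := by
        rw [hf v (D.VT hv), hωC v (D.VC hv), one_smul]
      calc D.R v * E * D.R (g⁻¹ * v⁻¹ * g)
          = f * D.ρ v * D.ρ g * z * D.R (g⁻¹ * v⁻¹ * g) := by
            simp only [E, ← Matrix.mul_assoc, h2]
        _ = f * D.ρ g * (D.ρ (g⁻¹ * v * g) * z * D.R (g⁻¹ * v⁻¹ * g)) := by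
            simp only [← Matrix.mul_assoc]
            rw [Matrix.mul_assoc f (D.ρ g), ← map_mul, show g * (g⁻¹ * v * g) = v * g by group,
              map_mul, ← Matrix.mul_assoc]
        _ = E := by rw [h1]
    have := D.schur_conj g hgN hgT E
    rw [Finset.sum_congr rfl fun v hv => hE v (Finset.mem_filter.mp hv).2, Finset.sum_const,
      card_filter_V, ← Nat.cast_smul_eq_nsmul κ] at this
    exact (smul_eq_zero.mp this).resolve_left D.cardV
  -- the trace part vanishes
  have hzero : (f * (∑ k : D.N, conjL k b) * h).trace = 0 := by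
    rw [Matrix.mul_sum, Matrix.sum_mul, Matrix.trace_sum]
    have e : ∑ k : D.N, (f * conjL k b * h).trace =
        ∑ k : G with k ∈ D.N, (f * (D.ρ k * (b * D.ρ k⁻¹)) * h).trace :=
      (Finset.sum_subtype (p := (· ∈ D.N)) ({k : G | k ∈ D.N} : Finset G) (fun k => by simp)
        fun k : G => (f * (D.ρ k * (b * D.ρ k⁻¹)) * h).trace).symm
    rw [e]
    refine sum_eq_zero_of_cosets D.N (Subgroup.zpowers D.u)
      (Subgroup.zpowers_le.mpr (D.TN D.uT)) _ fun g hg => ?_
    have hterm : ∀ c ∈ ({c : G | c ∈ Subgroup.zpowers D.u} : Finset G),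
        (f * (D.ρ (c * g) * (b * D.ρ (c * g)⁻¹)) * h).trace =
          (f * (D.ρ g * (b * (D.ρ g⁻¹ * D.act c⁻¹ h)))).trace := by
      intro c hc
      have hc' : c ∈ Subgroup.zpowers D.u := (Finset.mem_filter.mp hc).2
      obtain ⟨i, hi⟩ := D.mem_zpowers_iff.mp hc'
      have hcf : f * D.ρ c = f := by
        rw [hf c (hi ▸ pow_mem D.uT i), hωC c (hi ▸ pow_mem D.uC i), ← hi, R_pow, one_smul,
          Matrix.one_mul]
      rw [act_apply, inv_inv, ← hi, R_pow, hi, Matrix.mul_one, map_mul, mul_inv_rev, map_mul]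
      simp only [← Matrix.mul_assoc]
      rw [hcf]
    rw [Finset.sum_congr rfl hterm, ← Matrix.trace_sum, ← Matrix.mul_sum, ← Matrix.mul_sum,
      ← Matrix.mul_sum, ← Matrix.mul_sum]
    suffices hs : ∑ c : G with c ∈ Subgroup.zpowers D.u, D.act c⁻¹ h = 0 by rw [hs]; simp
    rw [← hx, ← D.norm_eq]
    refine (Finset.sum_bij (fun i _ => (D.u ^ i)⁻¹) (fun i _ => ?_) (fun i hi j hj hij => ?_)
      (fun c hc => ?_) fun i _ => by rw [inv_inv]).symm
    · simp
    · exact D.u_pow_inj (Finset.mem_range.mp hi) (Finset.mem_range.mp hj) (inv_injective hij)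
    · obtain ⟨i, hi⟩ := D.mem_zpowers_iff.mp (inv_mem (Finset.mem_filter.mp hc).2)
      refine ⟨i % p, Finset.mem_range.mpr (Nat.mod_lt _ hp.out.pos), ?_⟩
      rw [D.u_pow_mod, hi, inv_inv]
  rw [phi_apply, ← D.lift_mul hh, ← ha, ← Matrix.mul_assoc, ← hfa', phi_apply]
  have hsplit : a' = c • 1 - ∑ k : D.N, conjL k b := by
    rw [← hb, ← hc, eq_sub_iff_add_eq, ← h1, Finset.add_sum_erase _ F' hbase]
  rw [hsplit, Matrix.mul_sub, Matrix.sub_mul, Matrix.trace_sub, hzero, sub_zero]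
  simp

/-- At most one twist. -/
theorem twist_unique {ω ω' : G → κ} (hω : ∀ a ∈ D.T, ∀ b ∈ D.T, ω (a * b) = ω a * ω b)
    (hωC : ∀ c ∈ D.C, ω c = 1) (hω' : ∀ a ∈ D.T, ∀ b ∈ D.T, ω' (a * b) = ω' a * ω' b)
    (hω'C : ∀ c ∈ D.C, ω' c = 1) {f f' : Matrix (Fin d) (Fin n) κ} (hf : D.IsEquiv ω f)
    (hf' : D.IsEquiv ω' f') (hnt : ¬ D.IsTrace ω f) (hnt' : ¬ D.IsTrace ω' f') :
    ∀ t ∈ D.T, ω t = ω' t := by
  classical
  by_contra hne
  push Not at hne
  obtain ⟨t₀, ht₀, hne₀⟩ := hne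
  obtain ⟨h', hh', hx', hφ'⟩ : ∃ z, D.av z = z ∧ (D.xop ^ (p - 1)) z = 0 ∧ phi f' z ≠ 0 := by
    by_contra hcon
    push Not at hcon
    exact hnt' (D.isTrace_of_phi_eq_zero hω' hω'C hf' hcon)
  -- the least power
  have hex : ∃ m, ∃ z, D.av z = z ∧ (D.xop ^ m) z = 0 ∧ phi f z ≠ 0 := ⟨p - 1, by
    by_contra hcon
    push Not at hcon
    exact hnt (D.isTrace_of_phi_eq_zero hω hωC hf hcon)⟩
  have hmp : Nat.find hex ≤ p - 1 := Nat.find_min' hex (by
    by_contra hcon
    push Not at hcon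
    exact hnt (D.isTrace_of_phi_eq_zero hω hωC hf hcon))
  obtain ⟨z₀, hz₀, hxz₀, hφz₀⟩ := Nat.find_spec hex
  have hmin : ∀ j < Nat.find hex, ∀ z, D.av z = z → (D.xop ^ j) z = 0 → phi f z = 0 :=
    fun j hj z hz hxz => by_contra fun h => Nat.find_min hex hj ⟨z, hz, hxz, h⟩
  generalize Nat.find hex = m at hmp hxz₀ hmin
  obtain ⟨m', rfl⟩ : ∃ m', m = m' + 1 := Nat.exists_eq_succ_of_ne_zero fun h0 => by
    rw [h0, pow_zero, Module.End.one_apply] at hxz₀
    rw [hxz₀, map_zero] at hφz₀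
    exact hφz₀ rfl
  -- a vector for `ω` killed by `f'`
  obtain ⟨w, hw, hxw, hwf, hwf'⟩ :
      ∃ w, D.av w = w ∧ (D.xop ^ (m' + 1)) w = 0 ∧ phi f w = 1 ∧ phi f' w = 0 := by
    set z₁ := D.act t₀ z₀ - ω' t₀ • z₀ with hz₁
    have e1 : phi f z₁ = (ω t₀ - ω' t₀) * phi f z₀ := by
      rw [map_sub, map_smul, D.phi_act hω hωC hf ht₀, smul_eq_mul]; ring
    have e2 : phi f' z₁ = 0 := by
      rw [map_sub, map_smul, D.phi_act hω' hω'C hf' ht₀, smul_eq_mul, sub_self]
    refine ⟨(phi f z₁)⁻¹ • z₁, ?_, ?_, ?_, ?_⟩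
    · simp only [hz₁, map_smul, map_sub, ← D.act_av ht₀, hz₀]
    · simp only [hz₁, map_smul, map_sub, D.pow_xop_act ht₀ hxz₀, hxz₀, smul_zero, sub_self]
    · rw [map_smul, smul_eq_mul, inv_mul_cancel₀]
      rw [e1]
      exact mul_ne_zero (sub_ne_zero.mpr hne₀) hφz₀
    · rw [map_smul, e2, smul_zero]
  -- the extension of `f` on the top layer
  set K : Submodule κ (Matrix (Fin n) (Fin d) κ) :=
    LinearMap.ker (D.xop ^ (m' + 1)) ⊓ LinearMap.ker (D.av - LinearMap.id) with hK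
  have hKmem : ∀ z, z ∈ K ↔ (D.xop ^ (m' + 1)) z = 0 ∧ D.av z = z := fun z => by
    simp [hK, sub_eq_zero]
  set L : (K × Matrix (Fin n) (Fin d) κ) →ₗ[κ] Matrix (Fin n) (Fin d) κ :=
    ((D.xop ^ m').comp K.subtype).coprod ((D.xop ^ (m' + 1)).comp D.av) with hL
  have hker : (phi f).comp (K.subtype.comp (LinearMap.fst κ K _)) ∈
      (LinearMap.ker L).dualAnnihilator := by
    rw [Submodule.mem_dualAnnihilator]
    rintro ⟨⟨z, hz⟩, y⟩ hzy
    obtain ⟨-, hzav⟩ := (hKmem z).mp hz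
    simp only [hL, LinearMap.mem_ker, LinearMap.coprod_apply, LinearMap.comp_apply,
      Submodule.subtype_apply] at hzy
    show phi f z = 0
    have h1 := hmin m' (Nat.lt_succ_self m') (z + D.xop (D.av y)) (by
      rw [map_add, hzav, D.xop_av, D.av_av]) (by
      rw [map_add, ← Module.End.mul_apply (D.xop ^ m') D.xop, ← pow_succ]
      exact hzy)
    rwa [map_add, D.phi_xop hω hωC hf, add_zero] at h1
  rw [← LinearMap.range_dualMap_eq_dualAnnihilator_ker] at hker
  obtain ⟨μ, hμ⟩ := hker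
  have hμK : ∀ z, z ∈ K → μ ((D.xop ^ m') z) = phi f z := fun z hz => by
    simpa [hL] using LinearMap.congr_fun hμ (⟨z, hz⟩, 0)
  have hμtop : ∀ y, μ ((D.xop ^ (m' + 1)) (D.av y)) = 0 := fun y => by
    simpa [hL] using LinearMap.congr_fun hμ (0, y)
  set π₀ : Module.End κ (Matrix (Fin n) (Fin d) κ) :=
    ∑ i ∈ Finset.range (m' + 1),
      (μ.comp ((D.xop ^ (m' - i)).comp D.av)).smulRight ((D.xop ^ i) w) with hπ₀
  have hπ₀app : ∀ z, π₀ z = ∑ i ∈ Finset.range (m' + 1),
      μ ((D.xop ^ (m' - i)) (D.av z)) • (D.xop ^ i) w := fun z => by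
    simp [hπ₀, LinearMap.sum_apply]
  have hπ₀av : ∀ z, D.av (π₀ z) = π₀ z := fun z => by
    rw [hπ₀app, map_sum]
    refine Finset.sum_congr rfl fun i _ => ?_
    rw [map_smul, ← D.pow_xop_av, hw]
  have hπ₀x : ∀ z, π₀ (D.xop z) = D.xop (π₀ z) := fun z => by
    rw [hπ₀app, hπ₀app, map_sum]
    have e1 : ∀ i, (D.xop ^ i) (D.xop (D.av z)) = (D.xop ^ (i + 1)) (D.av z) := fun i => by
      rw [pow_succ]; rfl
    have e2 : ∀ i, D.xop ((D.xop ^ i) w) = (D.xop ^ (i + 1)) w := fun i => by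
      rw [pow_succ']; rfl
    simp only [map_smul, ← D.xop_av, e1, e2]
    rw [Finset.sum_range_succ' _ m', Finset.sum_range_succ _ m']
    simp only [Nat.sub_zero, hμtop, zero_smul, add_zero, hxw, smul_zero]
    refine Finset.sum_congr rfl fun i hi => ?_
    rw [show m' - (i + 1) + 1 = m' - i by have := Finset.mem_range.mp hi; omega]
  have hπ₀u : ∀ (i : ℕ) z, π₀ (D.act (D.u ^ i) z) = D.act (D.u ^ i) (π₀ z) := by
    intro i
    induction i with
    | zero => intro z; simp [act_one]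
    | succ i ih =>
      intro z
      rw [pow_succ, ← D.act_act (pow_mem D.uT i) D.uT, ih, ← D.act_act (pow_mem D.uT i) D.uT]
      congr 1
      have := hπ₀x z
      rw [xop_apply, xop_apply, map_sub] at this
      exact sub_left_injective this
  have hπ₀V : ∀ v ∈ D.V, ∀ z, π₀ (D.act v z) = D.act v (π₀ z) := fun v hv z => by
    rw [D.act_V_of_fixed hv (hπ₀av z), hπ₀app, hπ₀app]
    refine Finset.sum_congr rfl fun i _ => ?_
    rw [← D.act_av (D.VT hv), D.act_av_V hv]
  have hπ₀C : ∀ c ∈ D.C, ∀ z, π₀ (D.act c z) = D.act c (π₀ z) := fun c hc z => by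
    obtain ⟨i, v, hv, rfl⟩ := D.decomp c hc
    rw [← D.act_act (pow_mem D.uT i) (D.VT hv), hπ₀u, hπ₀V v hv,
      D.act_act (pow_mem D.uT i) (D.VT hv)]
  haveI : Fintype (G ⧸ D.C) := Fintype.ofFinite _
  set Q : Finset (G ⧸ D.C) := {q | Quotient.out q ∈ D.T} with hQdef
  have hQ : (Q.card : κ) ≠ 0 := by
    rw [D.card_cosets]
    exact D.indexC
  set S : G ⧸ D.C → Module.End κ (Matrix (Fin n) (Fin d) κ) := fun q =>
    (D.act (Quotient.out q)).comp (π₀.comp (D.act (Quotient.out q)⁻¹)) with hS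
  set π : Module.End κ (Matrix (Fin n) (Fin d) κ) := (Q.card : κ)⁻¹ • ∑ q ∈ Q, S q with hπdef
  have hπapp : ∀ z, π z = (Q.card : κ)⁻¹ •
      ∑ q ∈ Q, D.act (Quotient.out q) (π₀ (D.act (Quotient.out q)⁻¹ z)) := fun z => by
    simp [hπdef, hS, LinearMap.sum_apply]
  have hπT : ∀ t ∈ D.T, ∀ z, π (D.act t z) = D.act t (π z) := by
    intro t ht z
    rw [hπapp, hπapp, map_smul, map_sum]
    congr 1
    symm
    refine Finset.sum_equiv (MulAction.toPerm t) (fun q => ?_) fun q hq => ?_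
    · simp only [hQdef, Finset.mem_filter, Finset.mem_univ, true_and, MulAction.toPerm_apply]
      have hq' : t • q = ((t * Quotient.out q : G) : G ⧸ D.C) := by
        conv_lhs => rw [← QuotientGroup.out_eq' q]
        rfl
      obtain ⟨s, hs⟩ := QuotientGroup.mk_out_eq_mul D.C (t * Quotient.out q)
      rw [hq', hs, D.T.mul_mem_cancel_right (D.CT s.2), D.T.mul_mem_cancel_left ht]
    · have hqT : Quotient.out q ∈ D.T := (Finset.mem_filter.mp hq).2
      simp only [MulAction.toPerm_apply]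
      have hq' : t • q = ((t * Quotient.out q : G) : G ⧸ D.C) := by
        conv_lhs => rw [← QuotientGroup.out_eq' q]
        rfl
      obtain ⟨s, hs⟩ := QuotientGroup.mk_out_eq_mul D.C (t * Quotient.out q)
      have hsT : (s : G) ∈ D.T := D.CT s.2
      rw [hq', hs, D.act_act ht hqT,
        D.act_act (inv_mem (mul_mem (mul_mem ht hqT) hsT)) ht, ← D.act_act (mul_mem ht hqT) hsT,
        ← hπ₀C _ s.2, D.act_act hsT (mul_mem (inv_mem (mul_mem (mul_mem ht hqT) hsT)) ht)]
      congr 3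
      group
  have hπav : ∀ z, D.av (π z) = π z := fun z => by
    rw [hπapp, map_smul, map_sum]
    congr 1
    refine Finset.sum_congr rfl fun q hq => ?_
    rw [← D.act_av (Finset.mem_filter.mp hq).2, hπ₀av]
  obtain ⟨c, hc⟩ := D.exists_scalar hπT hπav
  have htail : ∀ (g : Matrix (Fin d) (Fin n) κ) (χ : G → κ),
      (∀ a ∈ D.T, ∀ b ∈ D.T, χ (a * b) = χ a * χ b) → (∀ c ∈ D.C, χ c = 1) → D.IsEquiv χ g →
      ∀ z, phi g (π₀ z) = μ ((D.xop ^ m') (D.av z)) * phi g w := fun g χ h1 h2 hg z => by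
    rw [hπ₀app, map_sum, Finset.sum_eq_single_of_mem 0 (Finset.mem_range.mpr (Nat.succ_pos _))]
    · simp
    · intro i _ hi
      obtain ⟨i, rfl⟩ := Nat.exists_eq_succ_of_ne_zero hi
      rw [map_smul, Nat.succ_eq_add_one, pow_succ', Module.End.mul_apply, D.phi_xop h1 h2 hg,
        smul_zero]
  have h1 : phi f' (π h') = 0 := by
    rw [hπapp, map_smul, map_sum, Finset.sum_eq_zero, smul_zero]
    intro q hq
    rw [D.phi_act hω' hω'C hf' (Finset.mem_filter.mp hq).2, htail f' ω' hω' hω'C hf', hwf']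
    simp
  have hc0 : c = 0 := by
    rw [hc ω' hω' hω'C f' hf' h' hh' hx'] at h1
    exact (mul_eq_zero.mp h1).resolve_right hφ'
  have hxw' : (D.xop ^ (p - 1)) w = 0 := by
    rw [show p - 1 = (p - 1 - (m' + 1)) + (m' + 1) by omega, pow_add, Module.End.mul_apply, hxw,
      map_zero]
  have h2 : phi f (π w) = 1 := by
    rw [hπapp, map_smul, map_sum, Finset.sum_congr rfl (g := fun _ => (1 : κ)) fun q hq => ?_,
      Finset.sum_const, nsmul_eq_mul, mul_one, smul_eq_mul, inv_mul_cancel₀ hQ]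
    have hqT : Quotient.out q ∈ D.T := (Finset.mem_filter.mp hq).2
    have hav : D.av (D.act (Quotient.out q)⁻¹ w) = D.act (Quotient.out q)⁻¹ w := by
      rw [← D.act_av (inv_mem hqT), hw]
    rw [D.phi_act hω hωC hf hqT, htail f ω hω hωC hf, hav,
      hμK _ ((hKmem _).mpr ⟨D.pow_xop_act (inv_mem hqT) hxw, hav⟩), hwf, mul_one,
      D.phi_act hω hωC hf (inv_mem hqT), hwf, mul_one, D.omega_mul_inv hω hωC hqT]
  rw [hc ω hω hωC f hf w hw hxw', hc0, zero_mul] at h2
  exact zero_ne_one h2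

end StableData

end CfsgLib.Blocks.PrimeDefect
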