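import Cfsg.Agent.Lib.Blocks.PrimeDefect.Setting
import Cfsg.Agent.Lib.Blocks.PrimeDefect.Schur
import Cfsg.Agent.Lib.Blocks.PrimeDefect.Stable
import Cfsg.Agent.Lib.Blocks.PrimeDefect.Exists
import Cfsg.Agent.Lib.Blocks.BlockTwo
import Cfsg.Agent.Lib.Blocks.Rank
import Cfsg.Agent.Lib.Char.ExtendChar
import Mathlib.RingTheory.SimpleModule.IsAlgClosed
import Mathlib.RingTheory.Jacobson.Semiprimary
import Mathlib.RingTheory.ZMod.UnitsCyclic
import Mathlib.RingTheory.RootsOfUnity.AlgebraicallyClosed
import Mathlib.GroupTheory.FiniteAbelian.Duality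

/-!
# At least `|T : C|` linearly independent regular characters in a block of prime Sylow defect

The simple modules of the reduced block algebra with a `T`-map to a twist of the canonical
representation which is not a trace are in bijection with at least the linear characters of `T / C`.
-/

set_option autoImplicit false
set_option linter.unusedSectionVars false
set_option linter.style.haveILetI false

namespace CfsgLib.Blocks.PrimeDefect

open Cfsg
open MonoidAlgebra (single)
open scoped ComplexConjugate CfsgLib.Char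
open CfsgLib

variable {G : Type*} [Group G] [Fintype G]

theorem charP_residue {p : ℕ} {M : Ideal AlgInt} (hM : IsPModular p M) {V : ValuationSubring ℂ}
    (hI : ∀ (z : ℂ) (h : z ∈ V), MemLocalIdeal M z → (⟨z, h⟩ : V) ∈ IsLocalRing.maximalIdeal V) :
    CharP (IsLocalRing.ResidueField V) p := by
  have := isPrime_of_isPModular hM
  have h0 : (p : IsLocalRing.ResidueField V) = 0 := by
    rw [← map_natCast (IsLocalRing.residue V), IsLocalRing.residue_eq_zero_iff]
    exact hI _ _ ((memLocalIdeal_natCast_iff hM).mpr dvd_rfl)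
  obtain ⟨q, hq⟩ := CharP.exists (IsLocalRing.ResidueField V)
  haveI := hq
  have hdvd : q ∣ p := (CharP.cast_eq_zero_iff _ q p).mp h0
  rcases (Nat.dvd_prime hM.1).mp hdvd with rfl | rfl
  · exact absurd (CharP.char_ne_one (IsLocalRing.ResidueField V) 1 rfl) id
  · exact hq

/-- The trace of a product of commuting matrices, one unipotent. -/
theorem trace_mul_unipotent {κ : Type*} [Field κ] {p : ℕ} [CharP κ p] [Fact p.Prime] {n : ℕ}
    {U A : Matrix (Fin n) (Fin n) κ} (hc : Commute U A) {k : ℕ} (hU : U ^ p ^ k = 1) :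
    (U * A).trace = A.trace := by
  rcases Nat.eq_zero_or_pos n with rfl | hn
  · simp [Matrix.trace]
  haveI : Nonempty (Fin n) := ⟨⟨0, hn⟩⟩
  haveI : CharP (Matrix (Fin n) (Fin n) κ) p := Matrix.charP _
  have hnil : IsNilpotent (U * A - A) := by
    refine ⟨p ^ k, ?_⟩
    rw [show U * A - A = (U - 1) * A by rw [sub_mul, one_mul],
      (hc.sub_left (Commute.one_left A)).mul_pow, sub_pow_char_pow_of_commute _ _ (Commute.one_right U),
      hU, one_pow, sub_self, zero_mul]
  have h := (Matrix.isNilpotent_trace_of_isNilpotent hnil).eq_zero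
  rwa [Matrix.trace_sub, sub_eq_zero] at h

namespace Setup

variable {p : ℕ} {M : Ideal AlgInt} (S : Setup G p M)

theorem normal_C_T : (S.C.subgroupOf S.T).Normal := ⟨fun x hx g => by
  rw [Subgroup.mem_subgroupOf] at hx ⊢
  exact (S.conj_C_iff g.2.1 _).mpr hx⟩

theorem T_to_aut : ∃ φ : S.T →* (ZMod p)ˣ, φ.ker = S.C.subgroupOf S.T := by
  have := S.fact
  haveI : IsCyclic S.P := isCyclic_of_prime_card S.hP
  let e : MulAut S.P ≃* (ZMod (Nat.card S.P))ˣ := IsCyclic.mulAutMulEquiv S.P
  let cast : (ZMod (Nat.card S.P))ˣ ≃* (ZMod p)ˣ :=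
    Units.mapEquiv (ZMod.ringEquivCongr S.hP).toMulEquiv
  refine ⟨(cast.toMonoidHom.comp e.toMonoidHom).comp
    (S.P.normalizerMonoidHom.comp (Subgroup.inclusion S.T_le_N)), ?_⟩
  ext t
  rw [MonoidHom.mem_ker, MonoidHom.comp_apply, Subgroup.mem_subgroupOf]
  show cast (e _) = 1 ↔ _
  rw [map_eq_one_iff cast cast.injective, map_eq_one_iff e e.injective, ← MonoidHom.mem_ker,
    ← MonoidHom.comap_ker, Subgroup.mem_comap, Subgroup.normalizerMonoidHom_ker,
    Subgroup.mem_subgroupOf]
  rfl

theorem relIndex_dvd : S.C.relIndex S.T ∣ p - 1 := by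
  have := S.fact
  obtain ⟨φ, hφ⟩ := S.T_to_aut
  rw [Subgroup.relIndex, ← hφ, Subgroup.index_ker, ← Nat.totient_prime (Fact.out : p.Prime),
    ← ZMod.card_units_eq_totient, ← Nat.card_eq_fintype_card]
  exact Subgroup.card_subgroup_dvd_card _

theorem isCyclic_quotient :
    haveI := S.normal_C_T
    IsCyclic (S.T ⧸ S.C.subgroupOf S.T) := by
  have := S.fact
  haveI := S.normal_C_T
  obtain ⟨φ, hφ⟩ := S.T_to_aut
  haveI : IsCyclic (ZMod p)ˣ := ZMod.isCyclic_units_prime (Fact.out : p.Prime)
  exact isCyclic_of_injective ((QuotientGroup.kerLift φ).comp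
    (QuotientGroup.quotientMulEquivOfEq hφ.symm).toMonoidHom)
    ((QuotientGroup.kerLift_injective φ).comp (MulEquiv.injective _))

/-- An integral representation of `T` extending `θ`, trivial on `P`. -/
theorem exists_integral_extension (V : ValuationSubring ℂ) :
    ∃ (d : ℕ) (R : S.T →* Matrix (Fin d) (Fin d) V), d = charDegree (S.θ : S.C → ℂ) ∧
      (∀ (c : S.C) (t : S.T), (t : G) = c →
        ((R t).map (algebraMap V ℂ)).trace = (S.θ : S.C → ℂ) c) ∧
      ∀ t : S.T, (t : G) ∈ S.P → R t = 1 := by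
  classical
  haveI := S.normal_C_T
  haveI : Fintype S.T := Fintype.ofFinite _
  haveI : Fintype S.C := Fintype.ofFinite _
  set N₀ := S.C.subgroupOf S.T
  let ι : N₀ ≃* S.C := Subgroup.subgroupOfEquivOfLe S.C_le_T
  have hθ' : IsIrrCharacter N₀ ((S.θ : S.C → ℂ) ∘ ι) :=
    isIrrCharacter_comp_of_surjective S.θ.2 ι.toMonoidHom ι.surjective
  have hinv : ∀ t : S.T, Char.conjBy N₀ ((S.θ : S.C → ℂ) ∘ ι) t = (S.θ : S.C → ℂ) ∘ ι := by
    intro t
    funext n
    simp only [Char.conjBy_apply, Function.comp_apply]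
    conv_rhs => rw [← S.cj_apply t.2.1 S.θ (c := ι n) (c' := ι ⟨t * n * t⁻¹, S.normal_C_T.conj_mem _ n.2 t⟩) rfl,
      t.2.2]
  obtain ⟨χ, ⟨n₀, ρ, hρ, rfl⟩, hres⟩ := Char.extends_of_cyclic N₀ hθ' hinv S.isCyclic_quotient
  have hval : ∀ (c : S.C) (t : S.T), (t : G) = c → ρ.character t = (S.θ : S.C → ℂ) c := by
    intro c t h
    have ht : t ∈ N₀ := by rw [Subgroup.mem_subgroupOf, h]; exact c.2
    have := hres ⟨t, ht⟩
    rw [this, Function.comp_apply]
    exact congrArg _ (Subtype.ext h)
  obtain ⟨κ, hκ, hκ', b, hb⟩ := ValRed.exists_integral_basis V ρ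
  have hcard : Fintype.card κ = charDegree (S.θ : S.C → ℂ) := by
    have h1 := hval 1 1 rfl
    rw [Representation.char_one, (irr_degree_eq S.θ).1] at h1
    rw [← Module.finrank_eq_card_basis b]
    exact_mod_cast h1
  let e₀ : κ ≃ Fin (charDegree (S.θ : S.C → ℂ)) := Fintype.equivFinOfCardEq hcard
  let b' := b.reindex e₀
  have hb' : ∀ g i j, LinearMap.toMatrix b' b' (ρ g) i j ∈ V := fun g i j => by
    have := hb g (e₀.symm i) (e₀.symm j)
    simpa [b', LinearMap.toMatrix_apply, Module.Basis.repr_reindex_apply] using this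
  let R : S.T →* Matrix (Fin (charDegree (S.θ : S.C → ℂ))) (Fin (charDegree (S.θ : S.C → ℂ))) V :=
    { toFun := fun g => Matrix.of fun i j => ⟨_, hb' g i j⟩
      map_one' := by
        ext i j
        simp [Matrix.one_apply]
        split_ifs <;> simp
      map_mul' := fun g h => by
        ext i j
        simp [LinearMap.toMatrix_mul, Matrix.mul_apply] }
  refine ⟨_, R, rfl, fun c t h => ?_, fun t ht => ?_⟩
  · rw [show (R t).map (algebraMap V ℂ) = LinearMap.toMatrix b' b' (ρ t) from rfl,
      ← LinearMap.trace_eq_matrix_trace ℂ b', ← hval c t h]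
    rfl
  · have h1 : ρ.character t = (Module.finrank ℂ (Fin n₀ → ℂ) : ℂ) := by
      rw [hval ⟨(t : G), S.P_le_C ht⟩ t rfl, S.hθP _ ht, ← hval 1 1 rfl, Representation.char_one]
    have h2 := (Char.character_eq_finrank_iff ρ t).mp h1
    apply Matrix.map_injective (f := algebraMap V ℂ) Subtype.val_injective
    show LinearMap.toMatrix b' b' (ρ t) = (1 : Matrix _ _ V).map (algebraMap V ℂ)
    rw [h2, Matrix.map_one _ (map_zero _) (map_one _)]
    exact LinearMap.toMatrix_id b'

open BlockTwo in
/-- The lower bound. -/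
theorem relIndex_le_blockRank : S.C.relIndex S.T ≤ blockRank p S.B := by
  classical
  have := S.fact
  have := isPrime_of_isPModular S.hM
  obtain ⟨V, hV, hI⟩ := ValRed.exists_valuation M
  haveI := charP_residue S.hM hI
  obtain ⟨d, RV, hd, hRtr, hRP⟩ := S.exists_integral_extension V
  haveI : Fintype S.T := Fintype.ofFinite _
  haveI : Fintype S.C := Fintype.ofFinite _
  haveI : Fintype S.V := Fintype.ofFinite _
  have hVT : S.V ≤ S.T := S.V_le_C.trans S.C_le_T
  -- Schur relations
  let RC : S.V →* Matrix (Fin d) (Fin d) ℂ :=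
    ((algebraMap V ℂ).mapMatrix.toMonoidHom.comp RV).comp (Subgroup.inclusion hVT)
  have hRC : ∀ v : S.V, (RC v).trace = (S.θ : S.C → ℂ) ⟨v, S.V_le_C v.2⟩ := fun v =>
    hRtr ⟨v, S.V_le_C v.2⟩ ⟨v, hVT v.2⟩ rfl
  have hd0 : d ≠ 0 := hd ▸ (irr_degree_eq S.θ).2.ne'
  have hmapinj : Function.Injective fun A : Matrix (Fin d) (Fin d) V => A.map (algebraMap V ℂ) :=
    Matrix.map_injective Subtype.val_injective
  have hconjV : ∀ v : S.V, conj ((S.θ : S.C → ℂ) ⟨v, S.V_le_C v.2⟩) =
      (S.θ : S.C → ℂ) ⟨(v⁻¹ : S.V), S.V_le_C (v⁻¹ : S.V).2⟩ := fun v => by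
    rw [← irr_value_inv S.θ.2]; rfl
  have hsame : ∑ v : S.V, (RC v).trace * (RC v⁻¹).trace = (Fintype.card S.V : ℂ) := by
    rw [Finset.sum_congr rfl fun v _ => by rw [hRC, hRC, ← hconjV], S.sum_V_norm,
      Nat.card_eq_fintype_card]
  have hschurV : ∀ E : Matrix (Fin d) (Fin d) V,
      (d : V) • ∑ v : S.V, RV ⟨v, hVT v.2⟩ * E * RV ⟨(v : G)⁻¹, hVT (inv_mem v.2)⟩ =
        ((Fintype.card S.V : V) * E.trace) • 1 := fun E => by
    apply hmapinj
    have h := sum_conj_eq_scalar RC hd0 hsame (E.map (algebraMap V ℂ))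
    simp only [Matrix.map_smul' _ _ _ (map_mul _), map_natCast, map_mul, AddMonoidHom.map_trace,
      Matrix.map_one _ (map_zero _) (map_one _)]
    rw [← RingHom.mapMatrix_apply, map_sum, ← RingHom.mapMatrix_apply] at *
    simp only [map_mul]
    exact h
  have hschurV' : ∀ g (hg : g ∈ S.N), g ∉ S.T → ∀ E : Matrix (Fin d) (Fin d) V,
      ∑ v : S.V, RV ⟨v, hVT v.2⟩ * E *
        RV ⟨g⁻¹ * (v : G)⁻¹ * g, hVT (by
          have := S.conj_V (inv_mem hg) (inv_mem v.2)
          rwa [inv_inv] at this)⟩ = 0 := by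
    intro g hg hgT E
    apply hmapinj
    let cg : S.V →* S.V :=
      { toFun := fun v => ⟨g⁻¹ * (v : G) * g, by
          have := S.conj_V (inv_mem hg) v.2
          rwa [inv_inv] at this⟩
        map_one' := Subtype.ext (by simp)
        map_mul' := fun a b => Subtype.ext (by simp [mul_assoc]) }
    have horth : ∑ v : S.V, (RC v).trace * ((RC.comp cg) v⁻¹).trace = 0 := by
      have hne : S.cj g S.θ ≠ S.θ := fun h => hgT ⟨hg, h⟩
      haveI : Fintype S.P := Fintype.ofFinite _
      let F : G → ℂ := fun z =>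
        if h : z ∈ S.C then (S.θ : S.C → ℂ) ⟨z, h⟩ * conj ((S.cj g S.θ : S.C → ℂ) ⟨z, h⟩) else 0
      have h0 : ∑ c : S.C, F c = 0 := by
        have h := Char.classInner_coe S.θ (S.cj g S.θ)
        rw [if_neg (Ne.symm hne), classInner, mul_eq_zero,
          or_iff_right (inv_ne_zero (Nat.cast_ne_zero.mpr Nat.card_pos.ne'))] at h
        rw [← h]
        exact Finset.sum_congr rfl fun c _ => dif_pos c.2
      rw [S.sum_C_eq, Finset.sum_congr rfl fun x _ => Finset.sum_congr rfl
        (g := fun v : S.V => (RC v).trace * ((RC.comp cg) v⁻¹).trace) fun v _ => ?_] at h0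
      · rw [Finset.sum_const, nsmul_eq_mul, mul_eq_zero] at h0
        exact h0.resolve_left (Nat.cast_ne_zero.mpr Fintype.card_ne_zero)
      set x' : S.C := ⟨x, S.P_le_C x.2⟩
      set v' : S.C := ⟨v, S.V_le_C v.2⟩
      show F ((x' * v' : S.C) : G) = _
      rw [show F ((x' * v' : S.C) : G) =
        (S.θ : S.C → ℂ) (x' * v') * conj ((S.cj g S.θ : S.C → ℂ) (x' * v')) from dif_pos (x' * v').2,
        S.theta_P_mul x.2, hRC, MonoidHom.comp_apply, hRC, ← irr_value_inv (S.cj g S.θ).2]
      congr 1
      set w : S.C := ⟨(cg v⁻¹ : S.V), S.V_le_C (cg v⁻¹).2⟩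
      have hx'' : g⁻¹ * (x : G)⁻¹ * g ∈ S.P := (Subgroup.mem_normalizer_iff''.mp hg _).mp (inv_mem x.2)
      rw [S.cj_apply hg S.θ (c := ⟨_, S.P_le_C hx''⟩ * w) (by
        show ((x : G) * (v : G))⁻¹ = g * (g⁻¹ * (x : G)⁻¹ * g * (g⁻¹ * (v : G)⁻¹ * g)) * g⁻¹
        rw [show (x : G) * (v : G) = (v : G) * (x : G) from
          Subgroup.mem_centralizer_iff.mp (S.V_le_C v.2) (x : G) x.2]
        group)]
      exact S.theta_P_mul (v := ⟨_, S.P_le_C hx''⟩) hx'' w
    have h := sum_conj_eq_zero RC (RC.comp cg) horth (E.map (algebraMap V ℂ))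
    dsimp only
    rw [Matrix.map_zero _ (map_zero _), ← RingHom.mapMatrix_apply, map_sum]
    simp only [map_mul]
    exact h
  -- the algebra over the residue field
  haveI : IsArtinianRing (MonoidAlgebra (IsLocalRing.ResidueField V) G) := IsArtinianRing.of_finite (IsLocalRing.ResidueField V) _
  set J := Ring.jacobson (MonoidAlgebra (IsLocalRing.ResidueField V) G) with hJ
  haveI : IsSemisimpleRing (MonoidAlgebra (IsLocalRing.ResidueField V) G ⧸ J) := IsArtinianRing.isSemisimpleRing_iff_jacobson.mpr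
    (Ring.jacobson_quotient_jacobson _)
  haveI : FiniteDimensional (IsLocalRing.ResidueField V) (MonoidAlgebra (IsLocalRing.ResidueField V) G ⧸ J) :=
    Module.Finite.of_surjective (Ideal.Quotient.mkₐ (IsLocalRing.ResidueField V) J).toLinearMap (Ideal.Quotient.mkₐ_surjective (IsLocalRing.ResidueField V) J)
  obtain ⟨N, hN⟩ : IsNilpotent J := IsSemiprimaryRing.isNilpotent
  obtain ⟨r, m, hm, ⟨ψ⟩⟩ :=
    IsSemisimpleRing.exists_algEquiv_pi_matrix_of_isAlgClosed (IsLocalRing.ResidueField V) (MonoidAlgebra (IsLocalRing.ResidueField V) G ⧸ J)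
  let π := ψ.toAlgHom.comp (Ideal.Quotient.mkₐ (IsLocalRing.ResidueField V) J)
  have hπs : Function.Surjective π := ψ.surjective.comp (Ideal.Quotient.mkₐ_surjective (IsLocalRing.ResidueField V) J)
  have hker : (RingHom.ker π : Ideal (MonoidAlgebra (IsLocalRing.ResidueField V) G)) = J := Ideal.ext fun x => by
    show ψ (Ideal.Quotient.mk J x) = 0 ↔ _
    rw [map_eq_zero_iff ψ ψ.injective, Ideal.Quotient.eq_zero_iff_mem]
  have hnil : (RingHom.ker π : Ideal (MonoidAlgebra (IsLocalRing.ResidueField V) G)) ^ N = ⊥ := by rw [hker, hN]; rfl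
  let eV : MonoidAlgebra V G :=
    elt fun g => ⟨blockCoeff S.B g, hV _ (IsPBlock.memLocalRing_blockCoeff S.hB g)⟩
  have heC : toC eV = phi G (indVec S.B) := by
    ext x
    rw [coeff_toC, coeff_elt, coeff_phi, ofOmega_indVec]
  have heV : eV * eV = eV := toC_injective (by
    rw [map_mul, heC, ← map_mul]
    congr 1
    funext η
    by_cases h : η ∈ S.B
    · simp [indVec_of_mem h]
    · simp [indVec_of_notMem h])
  set ε : MonoidAlgebra (IsLocalRing.ResidueField V) G := toK eV with hε
  have hεε : ε * ε = ε := by rw [hε, ← map_mul, heV]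
  have hεcl : ∀ g h, ε.coeff (h * g * h⁻¹) = ε.coeff g := fun g h => by
    simp only [hε, coeff_toK, eV, coeff_elt]
    congr 1
    exact Subtype.ext (isClassFunction_blockCoeff S.B g h)
  have hεc : ∀ a, ε * a = a * ε := fun a => commute_of_class _ _ hεcl
  -- the twists
  haveI := S.normal_C_T
  haveI := S.isCyclic_quotient
  let C₀ := S.C.subgroupOf S.T
  letI : CommGroup (S.T ⧸ C₀) := IsCyclic.commGroup
  set e := S.C.relIndex S.T with he
  have hecard : Nat.card (S.T ⧸ C₀) = e := rfl
  have hep : ¬ p ∣ e := fun h => by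
    have h1 := Nat.le_of_dvd (by have := S.hM.1.two_le; omega) (h.trans S.relIndex_dvd)
    have := S.hM.1.two_le
    omega
  have he0 : (e : (IsLocalRing.ResidueField V)) ≠ 0 := fun h => hep ((CharP.cast_eq_zero_iff (IsLocalRing.ResidueField V) p e).mp h)
  haveI : NeZero ((Monoid.exponent (S.T ⧸ C₀) : ℕ) : (IsLocalRing.ResidueField V)) := ⟨fun h => hep
    (((CharP.cast_eq_zero_iff (IsLocalRing.ResidueField V) p _).mp h).trans (hecard ▸ Group.exponent_dvd_nat_card))⟩
  haveI : Finite ((S.T ⧸ C₀) →* (IsLocalRing.ResidueField V)ˣ) := inferInstance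
  have hhom : Nat.card ((S.T ⧸ C₀) →* (IsLocalRing.ResidueField V)ˣ) = e := by
    rw [← hecard]; exact CommGroup.card_monoidHom_of_hasEnoughRootsOfUnity _ (IsLocalRing.ResidueField V)
  let ω : ((S.T ⧸ C₀) →* (IsLocalRing.ResidueField V)ˣ) → G → (IsLocalRing.ResidueField V) := fun φ g =>
    if h : g ∈ S.T then (φ (QuotientGroup.mk (⟨g, h⟩ : S.T)) : (IsLocalRing.ResidueField V)) else 1
  have hω : ∀ φ, ∀ a ∈ S.T, ∀ b ∈ S.T, ω φ (a * b) = ω φ a * ω φ b := fun φ a ha b hb => by
    simp only [ω, dif_pos ha, dif_pos hb, dif_pos (mul_mem ha hb)]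
    rw [← Units.val_mul, ← map_mul]
    rfl
  have hωC : ∀ φ, ∀ c ∈ S.C, ω φ c = 1 := fun φ c hc => by
    simp only [ω, dif_pos (S.C_le_T hc)]
    rw [(QuotientGroup.eq_one_iff (⟨c, S.C_le_T hc⟩ : S.T)).mpr (Subgroup.mem_subgroupOf.mpr hc),
      map_one, Units.val_one]
  let R₀ : G → Matrix (Fin d) (Fin d) (IsLocalRing.ResidueField V) := fun g =>
    if h : g ∈ S.T then (RV ⟨g, h⟩).map (IsLocalRing.residue V) else 1
  have hR₀mul : ∀ a ∈ S.T, ∀ b ∈ S.T, R₀ (a * b) = R₀ a * R₀ b := fun a ha b hb => by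
    simp only [R₀, dif_pos ha, dif_pos hb, dif_pos (mul_mem ha hb)]
    rw [← RingHom.mapMatrix_apply, ← RingHom.mapMatrix_apply, ← RingHom.mapMatrix_apply, ← map_mul,
      ← map_mul]
    rfl
  have hR₀1 : R₀ 1 = 1 := by
    simp only [R₀, dif_pos S.T.one_mem]
    rw [show (⟨1, S.T.one_mem⟩ : S.T) = 1 from rfl, map_one, Matrix.map_one _ (map_zero _) (map_one _)]
  haveI : Nontrivial S.P := by
    rw [← Finite.one_lt_card_iff_nontrivial, S.hP]; exact S.hM.1.one_lt
  obtain ⟨⟨u, hu⟩, hu1⟩ := exists_ne (1 : S.P)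
  replace hu1 : u ≠ 1 := fun h => hu1 (Subtype.ext h)
  have hcardT : (Nat.card S.T : (IsLocalRing.ResidueField V)) = 0 := by
    rw [CharP.cast_eq_zero_iff (IsLocalRing.ResidueField V) p]
    exact (dvd_of_eq S.hP.symm).trans (Subgroup.card_dvd_of_le (S.P_le_C.trans S.C_le_T))
  have htr : ∀ φ, ∑ t : G with t ∈ S.T, ε.coeff t * (ω φ t • R₀ t).trace ≠ 0 := by
    intro φ
    set F : G → (IsLocalRing.ResidueField V) := fun t => ε.coeff t * (ω φ t • R₀ t).trace with hF
    have hFconj : ∀ x ∈ S.T, ∀ t ∈ S.T, F (x * t * x⁻¹) = F t := fun x hx t ht => by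
      have hωx : ω φ x * ω φ x⁻¹ = 1 := by
        rw [← hω φ x hx _ (inv_mem hx), mul_inv_cancel, hωC φ 1 S.C.one_mem]
      simp only [hF, hεcl, Matrix.trace_smul, smul_eq_mul, hω φ _ (mul_mem hx ht) _ (inv_mem hx),
        hω φ x hx t ht, hR₀mul _ (mul_mem hx ht) _ (inv_mem hx), hR₀mul x hx t ht]
      rw [Matrix.trace_mul_comm, ← Matrix.mul_assoc, ← hR₀mul _ (inv_mem hx) x hx, inv_mul_cancel,
        hR₀1, Matrix.one_mul, mul_assoc (ω φ x) (ω φ t), mul_comm (ω φ t), ← mul_assoc (ω φ x), hωx,
        one_mul]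
    have hout : ∑ t : G with t ∈ S.T ∧ t ∉ S.C, F t = 0 := by
      letI : MulAction S.P G :=
        { smul := fun k t => (k : G) * t * (k : G)⁻¹
          one_smul := fun t => by show (1 : G) * t * (1 : G)⁻¹ = t; simp
          mul_smul := fun a b t => by
            show ((a : G) * b) * t * ((a : G) * b)⁻¹ = (a : G) * ((b : G) * t * (b : G)⁻¹) * (a : G)⁻¹
            group }
      have hs : ∀ (k : S.P) t, k • t = (k : G) * t * (k : G)⁻¹ := fun k t => rfl
      haveI : Fintype S.P := Fintype.ofFinite _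
      have hPT : ∀ k : S.P, (k : G) ∈ S.T := fun k => S.C_le_T (S.P_le_C k.2)
      obtain ⟨a, ha⟩ := exists_orbit_trace (K := S.P) (κ := IsLocalRing.ResidueField V) (fun _ => LinearMap.id)
        (fun t => if t ∈ S.T then F t else 0) (fun k t => by
          show (if t ∈ S.T then F t else 0) = if k • t ∈ S.T then F (k • t) else 0
          rw [hs]
          by_cases ht : t ∈ S.T
          · rw [if_pos ht, if_pos (mul_mem (mul_mem (hPT k) ht) (inv_mem (hPT k))),
              hFconj _ (hPT k) t ht]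
          · rw [if_neg ht, if_neg fun h => ht (by
              simpa [mul_assoc] using mul_mem (mul_mem (inv_mem (hPT k)) h) (hPT k))])
        ({t : G | t ∈ S.T ∧ t ∉ S.C} : Finset G) (fun k t ht => by
          simp only [Finset.mem_filter, Finset.mem_univ, true_and, hs] at ht ⊢
          exact ⟨mul_mem (mul_mem (hPT k) ht.1) (inv_mem (hPT k)),
            fun h => ht.2 ((S.conj_C_iff (S.P_le_N k.2) t).mp h)⟩)
        (fun t ht => by
          simp only [Finset.mem_filter, Finset.mem_univ, true_and] at ht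
          have : MulAction.stabilizer S.P t = ⊥ := by
            rw [Subgroup.eq_bot_iff_forall]
            intro k hk
            by_contra hk1
            have hk1' : (k : G) ≠ 1 := fun h => hk1 (Subtype.ext h)
            refine ht.2 ?_
            rw [S.centralizer_eq k.2 hk1', Subgroup.mem_centralizer_singleton_iff]
            have := MulAction.mem_stabilizer_iff.mp hk
            rw [hs, mul_inv_eq_iff_eq_mul] at this
            exact this.symm
          rw [this]
          simp)
      rw [Finset.sum_congr rfl fun t ht => (if_pos (Finset.mem_filter.mp ht).2.1).symm, ha]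
      simp only [LinearMap.id_apply, Finset.sum_const, Finset.card_univ, ← Nat.card_eq_fintype_card,
        S.hP, ← Nat.cast_smul_eq_nsmul (IsLocalRing.ResidueField V), CharP.cast_eq_zero, zero_smul]
    have hin : ∑ c : S.C, F c = (d : (IsLocalRing.ResidueField V)) := by
      have hcong := IsInducedBlock.omega_congr S.hind S.hθ
        (χ := (IsPBlock.nonempty S.hB).choose) (IsPBlock.nonempty S.hB).choose_spec
        (f := blockCoeff S.B) (isClassFunction_blockCoeff S.B)
        (IsPBlock.memLocalRing_blockCoeff S.hB)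
      rw [omega_blockCoeff, indVec_of_mem (IsPBlock.nonempty S.hB).choose_spec] at hcong
      have hθV : ∀ c : S.C, (S.θ : S.C → ℂ) c ∈ V := fun c =>
        hV _ (memLocalRing_of_isIntegral (irr_isIntegral S.θ.2 c))
      have hsum : ∑ c : S.C, blockCoeff S.B (c : G) * (S.θ : S.C → ℂ) c - (d : ℂ) =
          (omega (S.θ : S.C → ℂ) (fun h : S.C => blockCoeff S.B (h : G)) - 1) * (d : ℂ) := by
        rw [omega, (irr_degree_eq S.θ).1, ← hd, sub_mul, one_mul,
          div_mul_cancel₀ _ (Nat.cast_ne_zero.mpr hd0)]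
      have hmem := memLocalIdeal_mul_right hcong (memLocalRing_natCast d)
      rw [← hsum] at hmem
      obtain ⟨X, hXd⟩ : ∃ X : V, X = ∑ c : S.C, (⟨blockCoeff S.B (c : G),
        hV _ (IsPBlock.memLocalRing_blockCoeff S.hB _)⟩ : V) * ⟨(S.θ : S.C → ℂ) c, hθV c⟩ - d :=
        ⟨_, rfl⟩
      have hX : (IsLocalRing.residue V) X = 0 := by
        rw [IsLocalRing.residue_eq_zero_iff]
        have := hI _ (hV _ (memLocalRing_of_memLocalIdeal hmem)) hmem
        convert this
        simp [hXd]
      rw [hXd, map_sub, map_sum, map_natCast, sub_eq_zero] at hX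
      rw [← hX]
      refine Finset.sum_congr rfl fun c _ => ?_
      simp only [hF, map_mul, hωC φ _ c.2, one_smul]
      congr 1
      · simp only [hε, coeff_toK, eV, coeff_elt]
      · simp only [R₀, dif_pos (S.C_le_T c.2), ← AddMonoidHom.map_trace]
        congr 1
        exact Subtype.ext (((hRtr c ⟨c, S.C_le_T c.2⟩ rfl).symm.trans
          (AddMonoidHom.map_trace (algebraMap V ℂ).toAddMonoidHom _).symm).symm)
    show ∑ t : G with t ∈ S.T, F t ≠ 0
    rw [← Finset.sum_filter_add_sum_filter_not (Finset.univ.filter fun t : G => t ∈ S.T) (· ∈ S.C),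
      Finset.filter_filter, Finset.filter_filter, hout, add_zero,
      Finset.sum_subtype (p := (· ∈ S.C)) _ (fun t => by
        simpa using fun h => S.C_le_T h) F, hin]
    intro h
    exact S.not_dvd_degree (hd ▸ (CharP.cast_eq_zero_iff (IsLocalRing.ResidueField V) p d).mp h)
  -- a simple module for each twist
  have hex : ∀ φ, ∃ i, π ε i = 1 ∧ ∃ f : Matrix (Fin d) (Fin (m i)) (IsLocalRing.ResidueField V),
      (∀ t ∈ S.T, f * π (single t 1) i = (ω φ t • R₀ t) * f) ∧
      ¬ ∃ g : Matrix (Fin d) (Fin (m i)) (IsLocalRing.ResidueField V),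
        f = ∑ t : G with t ∈ S.T, (ω φ t • R₀ t) * g * π (single t⁻¹ 1) i := fun φ =>
    exists_simple_nontrace S.T m π hπs hnil (fun t => ω φ t • R₀ t)
      (by simp only [hωC φ 1 S.C.one_mem, hR₀1, one_smul])
      (fun a ha b hb => by
        simp only [hω φ a ha b hb, hR₀mul a ha b hb, Matrix.smul_mul, Matrix.mul_smul, smul_smul,
          mul_comm (ω φ a) (ω φ b)])
      ε hεc hεε hcardT (htr φ)
  choose idx hidx f hf hfnt using hex
  have hRu : R₀ u = 1 := by
    simp only [R₀, dif_pos (S.C_le_T (S.P_le_C hu))]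
    rw [hRP _ hu, Matrix.map_one _ (map_zero _) (map_one _)]
  let ρ : ∀ i, G →* Matrix (Fin (m i)) (Fin (m i)) (IsLocalRing.ResidueField V) := fun i =>
    ((Pi.evalMonoidHom (fun i => Matrix (Fin (m i)) (Fin (m i)) (IsLocalRing.ResidueField V)) i).comp π.toMonoidHom).comp
      (MonoidAlgebra.of (IsLocalRing.ResidueField V) G)
  have hρ : ∀ i g, ρ i g = π (single g 1) i := fun i g => rfl
  have hscal : ∀ i (A : Matrix (Fin (m i)) (Fin (m i)) (IsLocalRing.ResidueField V)), (∀ g, A * ρ i g = ρ i g * A) →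
      ∃ c : (IsLocalRing.ResidueField V), A = c • 1 := by
    intro i A hA
    have hall : ∀ a, A * π a i = π a i * A := by
      intro a
      rw [← elt_coeff a, elt, map_sum, Finset.sum_apply, Finset.mul_sum, Finset.sum_mul]
      refine Finset.sum_congr rfl fun g _ => ?_
      rw [show single g (a.coeff g) = a.coeff g • single g (1 : (IsLocalRing.ResidueField V)) by simp, map_smul, Pi.smul_apply,
        Matrix.mul_smul, Matrix.smul_mul, ← hρ, hA]
    haveI := hm i
    refine ⟨_, scalar_of_central (fun B => ?_) (0 : Fin (m i))⟩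
    obtain ⟨a, ha⟩ := hπs (Pi.single i B)
    have := hall a
    rwa [ha, Pi.single_eq_same] at this
  let D : ∀ i, StableData G (IsLocalRing.ResidueField V) p (m i) d := fun i =>
    { ρ := ρ i
      R := R₀
      N := S.N
      T := S.T
      C := S.C
      V := S.V
      u := u
      TN := S.T_le_N
      CT := S.C_le_T
      VC := S.V_le_C
      uC := S.P_le_C hu
      order_u := S.orderOf_mem hu hu1
      decomp := fun c hc => by
        obtain ⟨x, hx, v, hv, rfl⟩ := S.exists_decompC hc
        rw [← S.zpowers_eq hu hu1, ← mem_powers_iff_mem_zpowers, Submonoid.mem_powers_iff] at hx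
        obtain ⟨j, rfl⟩ := hx
        exact ⟨j, v, hv, rfl⟩
      commV := fun v hv => Subgroup.mem_centralizer_iff.mp (S.V_le_C hv) u hu
      conjV := fun g hg v hv => S.conj_V hg hv
      conju := fun t ht => by rw [S.zpowers_eq hu hu1]; exact S.conj_P ht.1 hu
      conjC := fun t ht c hc => (S.conj_C_iff ht.1 c).mpr hc
      cardV := fun h => S.card_V_coprime ((CharP.cast_eq_zero_iff (IsLocalRing.ResidueField V) p _).mp h)
      deg := fun h => S.not_dvd_degree (hd ▸ (CharP.cast_eq_zero_iff (IsLocalRing.ResidueField V) p d).mp h)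
      indexC := he0
      stab := fun x hx h => by
        let L : Subgroup S.N := S.N.comap ((MulAut.conj x⁻¹).toMonoidHom.comp S.N.subtype)
        have hcard : Nat.card L = Nat.card {g : S.N // x⁻¹ * (g : G) * x ∈ S.N} :=
          Nat.card_congr (Equiv.subtypeEquivRight fun g => by simp [L])
        obtain ⟨g, hg⟩ := exists_prime_orderOf_dvd_card' (G := L) p
          (hcard ▸ (CharP.cast_eq_zero_iff (IsLocalRing.ResidueField V) p _).mp h)
        rw [← Subgroup.orderOf_coe, ← Subgroup.orderOf_coe] at hg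
        have hgP : ((g : S.N) : G) ∈ S.P := S.mem_P_of_pElement (g : S.N).2 ⟨1, by rw [hg, pow_one]⟩
        have hg1 : ((g : S.N) : G) ≠ 1 := fun h1 => by
          rw [h1, orderOf_one] at hg; exact S.hM.1.ne_one hg.symm
        have hgx : x⁻¹ * ((g : S.N) : G) * x ∈ S.N := by simpa [L] using g.2
        have hgxP : x⁻¹ * ((g : S.N) : G) * x⁻¹⁻¹ ∈ S.P := S.mem_P_of_pElement (by rwa [inv_inv])
          ⟨1, by
            rw [show x⁻¹ * ((g : S.N) : G) * x⁻¹⁻¹ =
                (MulAut.conj x⁻¹).toMonoidHom ((g : S.N) : G) by simp,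
              orderOf_injective (MulAut.conj x⁻¹).toMonoidHom (MulAut.conj x⁻¹).injective, hg,
              pow_one]⟩
        exact hx (by simpa using inv_mem (S.mem_N_of_conj hgP hg1 hgxP))
      R_one := hR₀1
      R_mul := hR₀mul
      R_u := hRu
      schur := fun E => by
        choose E' hE' using fun a b => IsLocalRing.residue_surjective (R := V) (E a b)
        have hE : (Matrix.of E').map (IsLocalRing.residue V) = E := Matrix.ext fun a b => hE' a b
        have h := congrArg (IsLocalRing.residue V).mapMatrix (hschurV (Matrix.of E'))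
        simp only [RingHom.mapMatrix_apply, Matrix.map_smul' _ _ _ (map_mul (IsLocalRing.residue V)), map_natCast,
          map_mul, ← AddMonoidHom.map_trace, Matrix.map_one _ (map_zero (IsLocalRing.residue V)) (map_one (IsLocalRing.residue V))] at h
        rw [← RingHom.mapMatrix_apply, map_sum] at h
        simp only [map_mul, RingHom.mapMatrix_apply, hE] at h
        rw [← Nat.card_eq_fintype_card] at h
        convert h using 2
        · rw [Finset.sum_subtype (p := (· ∈ S.V)) _ (fun t => by simp)]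
          refine Finset.sum_congr rfl fun v _ => ?_
          simp only [R₀, dif_pos (hVT v.2), dif_pos (hVT (inv_mem v.2))]
        · rw [← hE]
          exact congrArg _ (AddMonoidHom.map_trace (IsLocalRing.residue V).toAddMonoidHom _).symm
      schur_conj := fun g hg hgT E => by
        choose E' hE' using fun a b => IsLocalRing.residue_surjective (R := V) (E a b)
        have hE : (Matrix.of E').map (IsLocalRing.residue V) = E := Matrix.ext fun a b => hE' a b
        have h := congrArg (IsLocalRing.residue V).mapMatrix (hschurV' g hg hgT (Matrix.of E'))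
        rw [map_zero, map_sum] at h
        simp only [map_mul, RingHom.mapMatrix_apply, hE] at h
        rw [← h, Finset.sum_subtype (p := (· ∈ S.V)) _ (fun t => by simp)]
        refine Finset.sum_congr rfl fun v _ => ?_
        have hg' : g⁻¹ * (v : G)⁻¹ * g ∈ S.V := by
          have := S.conj_V (inv_mem hg) (inv_mem v.2)
          rwa [inv_inv] at this
        simp only [R₀, dif_pos (hVT v.2), dif_pos (hVT hg')]
      scalar := hscal i }
  have hinj : Function.Injective idx := by
    intro φ φ' h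
    have hnt : ∀ φ, ¬ (D (idx φ)).IsTrace (ω φ) (f φ) := fun φ ⟨g, hg⟩ => hfnt φ ⟨g, by
      rw [hg]
      exact Finset.sum_congr rfl fun t _ => by rw [hρ, Matrix.smul_mul, Matrix.smul_mul]⟩
    have heq : ∀ φ, (D (idx φ)).IsEquiv (ω φ) (f φ) := fun φ t ht => by
      rw [← Matrix.smul_mul]
      exact hf φ t ht
    have key : ∀ (i : Fin r) (a : Matrix (Fin d) (Fin (m i)) (IsLocalRing.ResidueField V)) (b : Matrix (Fin d) (Fin (m i)) (IsLocalRing.ResidueField V)),
        (D i).IsEquiv (ω φ) a → (D i).IsEquiv (ω φ') b → ¬ (D i).IsTrace (ω φ) a →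
        ¬ (D i).IsTrace (ω φ') b → ∀ t ∈ S.T, ω φ t = ω φ' t := fun i a b h1 h2 h3 h4 =>
      (D i).twist_unique (hω φ) (hωC φ) (hω φ') (hωC φ') h1 h2 h3 h4
    have h1 := heq φ
    have h2 := hnt φ
    revert h1 h2
    generalize f φ = a
    revert a
    rw [h]
    intro a h1 h2
    refine MonoidHom.ext fun q => ?_
    obtain ⟨t, rfl⟩ := QuotientGroup.mk_surjective q
    have := key _ a (f φ') h1 (heq φ') h2 (hnt φ') t t.2
    simp only [ω, dif_pos t.2] at this
    exact Units.ext this
  -- independent characters on the regular elements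
  set I := {i : Fin r // π ε i = 1}
  have hle : e ≤ Fintype.card I := by
    rw [← hhom, ← Nat.card_eq_fintype_card]
    exact Nat.card_le_card_of_injective (fun φ => (⟨idx φ, hidx φ⟩ : I))
      fun a b h => hinj (congrArg Subtype.val h)
  refine hle.trans ?_
  let τ : I → G → (IsLocalRing.ResidueField V) := fun i g => (π (single g 1) i.1).trace
  have hτreg : ∀ i g y x, IsPPart p g x → x * y = g → τ i g = τ i y := by
    rintro i g y x ⟨y', hy', hcom, ⟨k, hk⟩, -⟩ hxy
    obtain rfl : y' = y := mul_left_cancel (hy'.trans hxy.symm)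
    rw [← hxy]
    show (ρ i.1 (x * y')).trace = (ρ i.1 y').trace
    rw [map_mul]
    exact trace_mul_unipotent (p := p) (hcom.map (ρ i.1)) (k := k)
      (by rw [← map_pow, ← hk, pow_orderOf_eq_one, map_one])
  choose sect hsect using IsLocalRing.residue_surjective (R := V)
  let fl : I → G → ℂ := fun i g => (sect (τ i g) : ℂ)
  have hfl : ∀ i, IsClassFunction G (fl i) := fun i g h => by
    show ((sect _ : V) : ℂ) = ((sect _ : V) : ℂ)
    congr 2
    show (ρ i.1 (h * g * h⁻¹)).trace = (ρ i.1 g).trace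
    rw [map_mul, map_mul, Matrix.trace_mul_comm, ← mul_assoc, ← map_mul, inv_mul_cancel, map_one,
      one_mul]
  let w : I → {y : G // IsPRegular p y} → V := fun i y =>
    ∑ z, (⟨blockCoeff S.B z, hV _ (IsPBlock.memLocalRing_blockCoeff S.hB z)⟩ : V) *
      sect (τ i (z * y.1))
  have hwres : ∀ i y, (IsLocalRing.residue V) (w i y) = τ i y.1 := by
    intro i y
    simp only [w, map_sum, map_mul]
    have h1 : ∑ z, ε.coeff z * τ i (z * y.1) = (π (ε * single y.1 1) i.1).trace := by
      have hexp : ε * single y.1 1 = ∑ z, single z (ε.coeff z) * single y.1 1 := by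
        conv_lhs => rw [← elt_coeff ε, elt, Finset.sum_mul]
      rw [hexp, map_sum, Finset.sum_apply, Matrix.trace_sum]
      refine Finset.sum_congr rfl fun z _ => ?_
      rw [MonoidAlgebra.single_mul_single, mul_one, show single (z * y.1) (ε.coeff z) =
        ε.coeff z • single (z * y.1) (1 : (IsLocalRing.ResidueField V)) by simp, map_smul, Pi.smul_apply, Matrix.trace_smul,
        smul_eq_mul]
    rw [map_mul, Pi.mul_apply, i.2, one_mul] at h1
    rw [← show ∑ z, ε.coeff z * τ i (z * y.1) = τ i y.1 from h1]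
    refine Finset.sum_congr rfl fun z _ => ?_
    congr 1
    · simp only [hε, coeff_toK, eV, coeff_elt]
    · exact hsect _
  have hliK : LinearIndependent (IsLocalRing.ResidueField V) fun i y => (IsLocalRing.residue V) (w i y) := by
    simp only [hwres]
    rw [Fintype.linearIndependent_iff]
    intro c hc j
    have hall : ∀ g, ∑ i, c i * τ i g = 0 := fun g => by
      obtain ⟨x, hx, -⟩ := exists_isPPart S.hM.1 g
      obtain ⟨y, hy, hcom, hord, hreg⟩ := hx
      have h := congrFun hc ⟨y, hreg⟩
      simp only [Finset.sum_apply, Pi.smul_apply, smul_eq_mul, Pi.zero_apply] at h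
      rw [← h]
      exact Finset.sum_congr rfl fun i _ => by rw [hτreg i g y x ⟨y, hy, hcom, hord, hreg⟩ hy]
    have hlin : ∀ a, ∑ i, c i * (π a i.1).trace = 0 := fun a => by
      rw [← elt_coeff a, elt]
      simp only [map_sum, Finset.sum_apply, Matrix.trace_sum, Finset.mul_sum]
      rw [Finset.sum_comm]
      refine Finset.sum_eq_zero fun g _ => ?_
      rw [show single g (a.coeff g) = a.coeff g • single g (1 : (IsLocalRing.ResidueField V)) by simp,
        Finset.sum_congr rfl (g := fun i => a.coeff g * (c i * τ i g)) fun i _ => by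
          rw [map_smul, Pi.smul_apply, Matrix.trace_smul, smul_eq_mul]; ring,
        ← Finset.mul_sum, hall, mul_zero]
    haveI := hm j.1
    obtain ⟨a, ha⟩ := hπs (Pi.single j.1 (Matrix.single (0 : Fin (m j.1)) 0 1))
    have h := hlin a
    rw [Finset.sum_eq_single j, ha, Pi.single_eq_same, Matrix.trace_single_eq_same, mul_one] at h
    · exact h
    · intro i _ hi
      rw [ha, Pi.single_eq_of_ne (fun h' => hi (Subtype.ext h'))]
      simp
    · simp
  have hliC := ValRed.indep_lift w hliK
  let v : I → G → ℂ := fun i => regPart p (blockPart S.B (fl i))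
  have hvw : ∀ i (y : {y : G // IsPRegular p y}), v i y.1 = ((w i y : V) : ℂ) := fun i y => by
    show regPart p (blockPart S.B (fl i)) y.1 = _
    rw [regPart_of_regular y.2, blockPart_eq_sum _ (hfl i)]
    simp [w, fl]
  have hliv : LinearIndependent ℂ v :=
    LinearIndependent.of_comp (LinearMap.funLeft ℂ ℂ (Subtype.val : {y : G // IsPRegular p y} → G))
      (by convert hliC using 1; funext i y; exact hvw i y)
  have hsub : Submodule.span ℂ (Set.range v) ≤
      Submodule.span ℂ ((fun χ : IrrCharacter G => pRegularPart p (χ : G → ℂ)) '' S.B) := by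
    rw [Submodule.span_le]
    rintro _ ⟨i, rfl⟩
    have : v i = ∑ χ : IrrCharacter G with χ ∈ S.B,
        classInner (fl i) (χ : G → ℂ) • pRegularPart p (χ : G → ℂ) := by
      funext g
      simp only [v, Finset.sum_apply, Pi.smul_apply, smul_eq_mul, pRegularPart_eq_regPart]
      by_cases hg : IsPRegular p g
      · simp only [regPart_of_regular hg]
        rw [blockPart_eq_filter]
      · simp [regPart_of_singular hg]
    rw [this]
    exact Submodule.sum_mem _ fun χ hχ => Submodule.smul_mem _ _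
      (Submodule.subset_span ⟨χ, (Finset.mem_filter.mp hχ).2, rfl⟩)
  rw [← finrank_span_eq_card hliv, blockRank]
  exact Submodule.finrank_mono hsub

end Setup

end CfsgLib.Blocks.PrimeDefect
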