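import Mathlib.Algebra.BigOperators.Ring.Finset
import Mathlib.Algebra.Order.BigOperators.Ring.Finset
import Mathlib.Data.Fintype.BigOperators
import Mathlib.Tactic.Linarith
import Mathlib.Tactic.Ring

/-!
# Integral rows with Gram matrix `1 + e J`

At least `e + t` nonzero integral rows of length `t` with columns of Gram matrix `1 + e J` consist of
exactly `e` constant rows `±1` and `t` signed unit rows, one for each column.
-/

set_option autoImplicit false

namespace CfsgLib.Blocks.PrimeDefect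

variable {ι Ω : Type*} [Fintype Ω]

theorem sum_sum_sub_sq (a : Ω → ℤ) :
    ∑ k, ∑ l, (a k - a l) ^ 2 =
      2 * (Fintype.card Ω * ∑ k, a k ^ 2 - (∑ k, a k) ^ 2) := by
  have h : ∀ k l, (a k - a l) ^ 2 = a k ^ 2 + a l ^ 2 - 2 * (a k * a l) := fun k l => by ring
  simp only [h, Finset.sum_sub_distrib, Finset.sum_add_distrib, Finset.sum_const, Finset.card_univ,
    nsmul_eq_mul, ← Finset.mul_sum, ← Finset.sum_mul]
  ring

theorem card_sub_one_le (a : Ω → ℤ) {k₀ l₀ : Ω} (h : a k₀ ≠ a l₀) :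
    (Fintype.card Ω : ℤ) - 1 ≤ Fintype.card Ω * ∑ k, a k ^ 2 - (∑ k, a k) ^ 2 := by
  classical
  set K : Finset Ω := {k | a k = a k₀}
  have hj : 1 ≤ K.card := Finset.card_pos.mpr ⟨k₀, by simp [K]⟩
  have hj' : 1 ≤ Kᶜ.card := Finset.card_pos.mpr ⟨l₀, by simp [K, Ne.symm h]⟩
  have hsum : (K.card : ℤ) + Kᶜ.card = Fintype.card Ω := by
    exact_mod_cast Finset.card_add_card_compl K
  have key : ∀ k ∈ K, ∀ l ∈ Kᶜ, (1 : ℤ) ≤ (a k - a l) ^ 2 := by
    intro k hk l hl
    simp only [K, Finset.mem_filter, Finset.mem_univ, true_and, Finset.mem_compl] at hk hl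
    have : a k - a l ≠ 0 := sub_ne_zero.mpr fun e => hl (e ▸ hk)
    exact pow_two_pos_of_ne_zero this
  have h1 : ∀ k ∈ K, (Kᶜ.card : ℤ) ≤ ∑ l, (a k - a l) ^ 2 := fun k hk => by
    refine le_trans ?_ (Finset.sum_le_sum_of_subset_of_nonneg (Finset.subset_univ Kᶜ)
      fun l _ _ => sq_nonneg _)
    simpa using Finset.card_nsmul_le_sum Kᶜ _ 1 (key k hk)
  have h2 : ∀ l ∈ Kᶜ, (K.card : ℤ) ≤ ∑ k, (a l - a k) ^ 2 := fun l hl => by
    refine le_trans ?_ (Finset.sum_le_sum_of_subset_of_nonneg (Finset.subset_univ K)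
      fun k _ _ => sq_nonneg _)
    simpa using Finset.card_nsmul_le_sum K (fun k => (a l - a k) ^ 2) 1 fun k hk => by
      show (1 : ℤ) ≤ (a l - a k) ^ 2
      rw [show (a l - a k) ^ 2 = (a k - a l) ^ 2 by ring]; exact key k hk l hl
  have h3 : 2 * ((K.card : ℤ) * Kᶜ.card) ≤ ∑ k, ∑ l, (a k - a l) ^ 2 := by
    rw [← Finset.sum_add_sum_compl K]
    have e1 := Finset.card_nsmul_le_sum K _ _ h1
    have e2 := Finset.card_nsmul_le_sum Kᶜ _ _ h2
    rw [nsmul_eq_mul] at e1 e2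
    nlinarith
  rw [sum_sum_sub_sq] at h3
  have : (0 : ℤ) ≤ ((K.card : ℤ) - 1) * ((Kᶜ.card : ℤ) - 1) := mul_nonneg (by omega) (by omega)
  nlinarith

/-- The structure of the rows. -/
theorem rows_structure [DecidableEq Ω] [DecidableEq ι] [Nonempty Ω] (s : Finset ι) (c : ι → Ω → ℤ)
    (e : ℕ) (hne : ∀ i ∈ s, ∃ k, c i k ≠ 0)
    (hgram : ∀ k l, ∑ i ∈ s, c i k * c i l = (if k = l then 1 else 0) + (e : ℤ))
    (hcard : e + Fintype.card Ω ≤ s.card) :
    ∃ (X Y : Finset ι) (ν : ι → Ω) (w : ι → ℤ), Disjoint X Y ∧ X ∪ Y = s ∧ X.card = e ∧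
      Y.card = Fintype.card Ω ∧ (∀ i ∈ s, w i = 1 ∨ w i = -1) ∧
      (∀ i ∈ X, ∀ k, c i k = w i) ∧ (∀ i ∈ Y, ∀ k, c i k = if k = ν i then w i else 0) ∧
      Set.InjOn ν Y := by
  set t := Fintype.card Ω with ht
  have ht1 : 1 ≤ t := Fintype.card_pos
  have hsq : ∑ i ∈ s, ∑ k, c i k ^ 2 = (t : ℤ) + t * e := by
    rw [Finset.sum_comm, Finset.sum_congr rfl (g := fun _ : Ω => 1 + (e : ℤ)) fun k _ => by
      simpa [sq] using hgram k k]
    simp [ht, mul_add]
  have hsq1 : ∀ i ∈ s, (1 : ℤ) ≤ ∑ k, c i k ^ 2 := fun i hi => by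
    obtain ⟨k, hk⟩ := hne i hi
    exact (pow_two_pos_of_ne_zero hk).trans_le
      (Finset.single_le_sum (f := fun k => c i k ^ 2) (fun l _ => sq_nonneg _) (Finset.mem_univ k))
  have k₀ : Ω := Classical.arbitrary Ω
  rcases Nat.lt_or_ge 1 t with htt | htt
  swap
  · -- one column
    have ht' : t = 1 := le_antisymm htt ht1
    have hsub : ∀ k, k = k₀ := fun k => Fintype.card_le_one_iff.mp (ht ▸ htt) k k₀
    rw [ht'] at hsq hcard
    push_cast at hsq
    have hall : ∀ i ∈ s, ∑ k, c i k ^ 2 - 1 = 0 := by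
      refine (Finset.sum_eq_zero_iff_of_nonneg fun i hi => by have := hsq1 i hi; omega).mp ?_
      refine le_antisymm ?_ (Finset.sum_nonneg fun i hi => by have := hsq1 i hi; omega)
      rw [Finset.sum_sub_distrib, hsq, Finset.sum_const, nsmul_eq_mul, mul_one]
      have : ((e + 1 : ℕ) : ℤ) ≤ (s.card : ℤ) := by exact_mod_cast hcard
      push_cast at this
      omega
    have hw : ∀ i ∈ s, c i k₀ = 1 ∨ c i k₀ = -1 := fun i hi => by
      have h := hall i hi
      rw [Finset.sum_eq_single k₀ (fun b _ hb => absurd (hsub b) hb) (by simp)] at h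
      exact sq_eq_one_iff.mp (by omega)
    have hs : s.card = e + 1 := by
      have h : (s.card : ℤ) = 1 + 1 * (e : ℤ) := by
        rw [← hsq, Finset.sum_congr rfl (g := fun _ => (1 : ℤ)) fun i hi => by
          have := hall i hi; omega]
        simp
      omega
    obtain ⟨X, hXs, hX⟩ := Finset.exists_subset_card_eq (s := s) (n := e) (by omega)
    refine ⟨X, s \ X, fun _ => k₀, fun i => c i k₀, Finset.disjoint_sdiff,
      Finset.union_sdiff_of_subset hXs, hX, ?_, hw, fun i _ k => by rw [hsub k],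
      fun i _ k => by rw [hsub k, if_pos rfl], fun i hi j hj _ => ?_⟩
    · rw [Finset.card_sdiff_of_subset hXs, hs, hX, ht']
      omega
    · have h1 : (s \ X).card ≤ 1 := by rw [Finset.card_sdiff_of_subset hXs, hs, hX]; omega
      exact Finset.card_le_one.mp h1 i hi j hj
  set X : Finset ι := s.filter fun i => ∀ k, c i k = c i k₀ with hXdef
  set Y : Finset ι := s.filter fun i => ¬ ∀ k, c i k = c i k₀ with hYdef
  have hXY : X ∪ Y = s := Finset.filter_union_filter_not_eq _ _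
  have hdisj : Disjoint X Y := Finset.disjoint_filter_filter_not _ _ _
  have hcXY : X.card + Y.card = s.card := by rw [← Finset.card_union_of_disjoint hdisj, hXY]
  have hsplit : ∀ F : ι → ℤ, ∑ i ∈ s, F i = ∑ i ∈ X, F i + ∑ i ∈ Y, F i := fun F => by
    rw [← Finset.sum_union hdisj, hXY]
  -- few nonconstant rows
  have hY : Y.card ≤ t := by
    have hq : ∑ i ∈ s, ((t : ℤ) * ∑ k, c i k ^ 2 - (∑ k, c i k) ^ 2) = t * (t - 1) := by
      rw [Finset.sum_sub_distrib, ← Finset.mul_sum, hsq]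
      have h2 : ∑ i ∈ s, (∑ k, c i k) ^ 2 = (t : ℤ) + t * t * e := by
        simp only [sq, Finset.sum_mul_sum]
        rw [Finset.sum_comm, Finset.sum_congr rfl fun k _ => Finset.sum_comm]
        simp only [hgram, Finset.sum_add_distrib, Finset.sum_ite_eq, Finset.mem_univ, if_true,
          Finset.sum_const, Finset.card_univ, nsmul_eq_mul]
        rw [← ht]; ring
      rw [h2]; ring
    have hge : ∀ i ∈ Y, (t : ℤ) - 1 ≤ t * ∑ k, c i k ^ 2 - (∑ k, c i k) ^ 2 := fun i hi => by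
      obtain ⟨k, hk⟩ := not_forall.mp (Finset.mem_filter.mp hi).2
      exact card_sub_one_le (c i) hk
    have hX0 : ∀ i ∈ X, 0 ≤ (t : ℤ) * ∑ k, c i k ^ 2 - (∑ k, c i k) ^ 2 := fun i _ => by
      have h := sum_sum_sub_sq (c i)
      have : 0 ≤ ∑ k, ∑ l, (c i k - c i l) ^ 2 :=
        Finset.sum_nonneg fun k _ => Finset.sum_nonneg fun l _ => sq_nonneg _
      rw [h, ← ht] at this
      omega
    have h1 := Finset.card_nsmul_le_sum Y _ _ hge
    rw [hsplit] at hq
    rw [nsmul_eq_mul] at h1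
    have h2 := Finset.sum_nonneg hX0
    have : (Y.card : ℤ) * (t - 1) ≤ (t : ℤ) * (t - 1) := by linarith
    have ht0 : (0 : ℤ) < (t : ℤ) - 1 := by omega
    exact_mod_cast le_of_mul_le_mul_right this ht0
  have hXsq : ∀ i ∈ X, ∑ k, c i k ^ 2 = (t : ℤ) * c i k₀ ^ 2 := fun i hi => by
    rw [Finset.sum_congr rfl fun k _ => by rw [(Finset.mem_filter.mp hi).2 k]]
    simp [ht]
  have hXne : ∀ i ∈ X, 1 ≤ c i k₀ ^ 2 := fun i hi => by
    obtain ⟨k, hk⟩ := hne i (Finset.mem_filter.mp hi).1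
    rw [(Finset.mem_filter.mp hi).2 k] at hk
    exact pow_two_pos_of_ne_zero hk
  have hYsq1 : ∀ i ∈ Y, (1 : ℤ) ≤ ∑ k, c i k ^ 2 := fun i hi => hsq1 i (Finset.mem_filter.mp hi).1
  have hXge : (t : ℤ) * X.card ≤ ∑ i ∈ X, ∑ k, c i k ^ 2 := by
    rw [Finset.sum_congr rfl hXsq, ← Finset.mul_sum]
    gcongr
    simpa using Finset.card_nsmul_le_sum X _ 1 hXne
  have hYge : (Y.card : ℤ) ≤ ∑ i ∈ Y, ∑ k, c i k ^ 2 := by
    simpa using Finset.card_nsmul_le_sum Y _ 1 hYsq1
  rw [hsplit] at hsq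
  have hYt : Y.card = t := by
    by_contra hn
    have h1 : ((e + t : ℕ) : ℤ) ≤ ((X.card + Y.card : ℕ) : ℤ) := by exact_mod_cast hcXY ▸ hcard
    push_cast at h1
    have h2 : (Y.card : ℤ) + 1 ≤ t := by
      have : Y.card + 1 ≤ t := by omega
      exact_mod_cast this
    have h3 : (2 : ℤ) ≤ t := by exact_mod_cast htt
    nlinarith
  have hXe : X.card = e := by
    refine le_antisymm ?_ (by omega)
    have : (t : ℤ) * X.card ≤ (t : ℤ) * e := by
      have hc : (Y.card : ℤ) = t := by exact_mod_cast hYt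
      linarith
    exact_mod_cast le_of_mul_le_mul_left this (by exact_mod_cast ht1)
  rw [hYt] at hYge
  rw [hXe] at hXge
  have hX1 : ∀ i ∈ X, c i k₀ ^ 2 - 1 = 0 := by
    refine (Finset.sum_eq_zero_iff_of_nonneg fun i hi => by have := hXne i hi; omega).mp ?_
    have : (t : ℤ) * ∑ i ∈ X, (c i k₀ ^ 2 - 1) = 0 := by
      rw [Finset.sum_sub_distrib, mul_sub, Finset.mul_sum, ← Finset.sum_congr rfl hXsq,
        Finset.sum_const, hXe, nsmul_eq_mul, mul_one]
      linarith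
    exact (mul_eq_zero.mp this).resolve_left (by exact_mod_cast (by omega : t ≠ 0))
  have hY1 : ∀ i ∈ Y, ∑ k, c i k ^ 2 - 1 = 0 := by
    refine (Finset.sum_eq_zero_iff_of_nonneg fun i hi => by have := hYsq1 i hi; omega).mp ?_
    rw [Finset.sum_sub_distrib, Finset.sum_const, hYt, nsmul_eq_mul, mul_one]
    linarith
  have hunit : ∀ i, ∃ k, i ∈ Y → c i k ≠ 0 ∧ (c i k = 1 ∨ c i k = -1) ∧ ∀ l, l ≠ k → c i l = 0 := by
    intro i
    by_cases hi : i ∈ Y
    · obtain ⟨k, hk⟩ := hne i (Finset.mem_filter.mp hi).1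
      refine ⟨k, fun _ => ⟨hk, ?_⟩⟩
      have h : ∑ l, c i l ^ 2 = 1 := by have := hY1 i hi; omega
      rw [← Finset.add_sum_erase _ _ (Finset.mem_univ k)] at h
      have h0 : (0 : ℤ) ≤ ∑ l ∈ Finset.univ.erase k, c i l ^ 2 := Finset.sum_nonneg fun l _ => sq_nonneg _
      have h1 : 1 ≤ c i k ^ 2 := pow_two_pos_of_ne_zero hk
      refine ⟨sq_eq_one_iff.mp (by omega), fun l hl => ?_⟩
      exact pow_eq_zero_iff two_ne_zero |>.mp ((Finset.sum_eq_zero_iff_of_nonneg
        fun l _ => sq_nonneg _).mp (by omega) l (Finset.mem_erase.mpr ⟨hl, Finset.mem_univ _⟩))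
    · exact ⟨k₀, fun h => absurd h hi⟩
  choose ν hν using hunit
  refine ⟨X, Y, ν, fun i => if i ∈ X then c i k₀ else c i (ν i), hdisj, hXY, hXe, hYt,
    fun i hi => ?_, fun i hi k => ?_, fun i hi k => ?_, fun i hi j hj hij => ?_⟩
  · dsimp only
    by_cases hiX : i ∈ X
    · rw [if_pos hiX]
      exact sq_eq_one_iff.mp (by have := hX1 i hiX; omega)
    · rw [if_neg hiX]
      exact (hν i (by rw [← hXY] at hi; exact (Finset.mem_union.mp hi).resolve_left hiX)).2.1
  · dsimp only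
    rw [if_pos hi]
    exact (Finset.mem_filter.mp hi).2 k
  · dsimp only
    rw [if_neg (fun h => Finset.disjoint_left.mp hdisj h hi)]
    split_ifs with h
    · rw [h]
    · exact (hν i hi).2.2 k h
  · by_contra hne'
    have hg := hgram (ν i) (ν i)
    rw [if_pos rfl, hsplit] at hg
    have e1 : ∑ l ∈ X, c l (ν i) * c l (ν i) = (e : ℤ) := by
      rw [Finset.sum_congr rfl (g := fun _ => (1 : ℤ)) fun l hl => by
        rw [(Finset.mem_filter.mp hl).2 (ν i)]
        have := hX1 l hl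
        rw [sq] at this
        omega]
      simp [hXe]
    have e2 : (2 : ℤ) ≤ ∑ l ∈ Y, c l (ν i) * c l (ν i) := by
      refine le_trans ?_ (Finset.sum_le_sum_of_subset_of_nonneg
        (s := {i, j}) (Finset.insert_subset_iff.mpr ⟨hi, Finset.singleton_subset_iff.mpr hj⟩)
        fun l _ _ => mul_self_nonneg _)
      rw [Finset.sum_pair hne']
      have a1 : 0 < c i (ν i) * c i (ν i) := mul_self_pos.mpr (hν i hi).1
      have a2 : 0 < c j (ν i) * c j (ν i) := mul_self_pos.mpr (hij ▸ (hν j hj).1)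
      omega
    omega

end CfsgLib.Blocks.PrimeDefect
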