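import Cfsg.Agent.Lib.Blocks.PrimeDefect.Full
import Cfsg.Agent.Lib.Blocks.BrauerFeit
import Cfsg.Agent.Lib.Char.ItoMichler
import Cfsg.Agent.Lib.Char.Table

/-!
# Counting the characters of degree prime to `p` when `p` divides the group order exactly once
-/

set_option autoImplicit false
set_option linter.unusedSectionVars false
set_option linter.style.haveILetI false

namespace CfsgLib.Blocks.PrimeDefect

open Cfsg
open scoped CfsgLib.Char
open CfsgLib

variable {G : Type*} [Group G] [Finite G] {p : ℕ}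

/-- The characters of the centralizer of `P` trivial on `P`. -/
abbrev Theta (P : Subgroup G) : Type _ :=
  {θ : IrrCharacter (Subgroup.centralizer (P : Set G)) //
    ∀ x : Subgroup.centralizer (P : Set G), (x : G) ∈ P →
      (θ : Subgroup.centralizer (P : Set G) → ℂ) x = (θ : Subgroup.centralizer (P : Set G) → ℂ) 1}

noncomputable instance (P : Subgroup G) : Fintype (Theta P) := by
  haveI : Fintype G := Fintype.ofFinite G
  haveI : Fintype (Subgroup.centralizer (P : Set G)) := Fintype.ofFinite _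
  haveI : Finite (Theta P) := inferInstanceAs (Finite {θ : IrrCharacter _ // _})
  exact Fintype.ofFinite _

/-- The elements of the normalizer fixing a character of the centralizer. -/
def stabSet (P : Subgroup G) (θ : Subgroup.centralizer (P : Set G) → ℂ) : Set G :=
  {g | g ∈ Subgroup.normalizer (P : Set G) ∧
    ∀ c c' : Subgroup.centralizer (P : Set G), (c' : G) = g * c * g⁻¹ → θ c' = θ c}

/-- The local weight. -/
noncomputable def weight (p : ℕ) (P : Subgroup G) : ℕ :=
  ∑ θ : Theta P, ((Nat.card (stabSet P (θ.1 : _ → ℂ)) /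
    Nat.card (Subgroup.centralizer (P : Set G))) ^ 2 + (p - 1))

variable [Fintype G] [Fact p.Prime] {M : Ideal AlgInt}

namespace Setup

variable (S : Setup G p M)

theorem stabSet_theta : stabSet S.P (S.θ : S.C → ℂ) = (S.T : Set G) := by
  ext g
  rw [SetLike.mem_coe, S.mem_T_iff]
  refine and_congr_right fun hg => ⟨fun h => (S.eq_cj hg h).symm, fun h c c' e => ?_⟩
  rw [← S.cj_apply hg S.θ e, h]

theorem e_eq : Nat.card (stabSet S.P (S.θ : S.C → ℂ)) / Nat.card S.C = S.e := by
  rw [S.stabSet_theta, show Nat.card (S.T : Set G) = Nat.card S.T from rfl, S.card_T,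
    Nat.mul_div_cancel _ Nat.card_pos]

theorem not_dvd_f : ¬ p ∣ S.C.relIndex S.N := fun h => S.hidx
  ((h.trans (Subgroup.relIndex_dvd_index_of_le S.C_le_N)).trans
    (Subgroup.index_dvd_of_le S.P_le_C))

theorem not_dvd_degree_mem {χ : IrrCharacter G} (hχ : χ ∈ S.B) :
    ¬ p ∣ charDegree (χ : G → ℂ) := by
  have hp : p.Prime := Fact.out
  have hpi : Prime (p : ℤ) := Nat.prime_iff_prime_int.mp hp
  obtain ⟨-, X, Y, δ, ε, -, hmem, -, -, hε, hδ, -, hX, hY, -⟩ := S.structure_block
  intro hd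
  have key : ∀ (s : ℤ) (n : ℕ), (s = 1 ∨ s = -1) →
      ((charDegree (χ : G → ℂ) : ℤ) ≡ s * (n : ℤ) [ZMOD p]) → p ∣ n := by
    intro s n hs h
    have h0 : (p : ℤ) ∣ s * (n : ℤ) :=
      Int.modEq_zero_iff_dvd.mp (h.symm.trans (Int.modEq_zero_iff_dvd.mpr (Int.natCast_dvd_natCast.mpr hd)))
    rcases hs with rfl | rfl <;> exact Int.natCast_dvd_natCast.mp (by simpa using h0)
  rcases Finset.mem_union.mp ((hmem χ).mp hχ) with h | h
  · rcases hp.dvd_mul.mp (key _ _ (hδ χ h) (hX χ h)) with h' | h'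
    · exact S.not_dvd_f (h'.trans (Nat.div_dvd_of_dvd S.e_dvd_f))
    · exact S.not_dvd_degree h'
  · rcases hp.dvd_mul.mp (key _ _ hε (hY χ h)) with h' | h'
    · exact S.not_dvd_f h'
    · exact S.not_dvd_degree h'

theorem weight_eq : S.e ^ 2 + (p - 1) = S.e * Nat.card S.B := by
  classical
  obtain ⟨hdvd, X, Y, δ, ε, hdisj, hmem, hXc, hYc, -⟩ := S.structure_block
  have hB : S.B = ↑(X ∪ Y) := Set.ext fun χ => by rw [hmem, Finset.mem_coe]
  rw [hB, Nat.card_eq_card_toFinset, Finset.toFinset_coe, Finset.card_union_of_disjoint hdisj,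
    hXc, hYc, mul_add, Nat.mul_div_cancel' hdvd, pow_two]

/-- The orbit of `θ` has `|N : T|` members. -/
theorem card_orbit :
    S.e * Nat.card {η : IrrCharacter S.C // ∃ g ∈ S.N, S.cj g S.θ = η} = S.C.relIndex S.N := by
  classical
  let f : S.N → {η : IrrCharacter S.C // ∃ g ∈ S.N, S.cj g S.θ = η} := fun g => ⟨_, g.1, g.2, rfl⟩
  let φ : S.N ⧸ S.T.subgroupOf S.N → {η : IrrCharacter S.C // ∃ g ∈ S.N, S.cj g S.θ = η} :=
    Quotient.lift f fun a b h => by
      have h' : (a⁻¹ * b : S.N) ∈ S.T.subgroupOf S.N := QuotientGroup.leftRel_apply.mp h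
      rw [Subgroup.mem_subgroupOf] at h'
      refine Subtype.ext ?_
      show S.cj a.1 S.θ = S.cj b.1 S.θ
      conv_lhs => rw [← h'.2, S.cj_cj a.2 h'.1]
      simp
  have hbij : Function.Bijective φ := by
    constructor
    · intro a b
      induction a using QuotientGroup.induction_on with | _ a => ?_
      induction b using QuotientGroup.induction_on with | _ b => ?_
      intro h
      have h' : S.cj a.1 S.θ = S.cj b.1 S.θ := Subtype.ext_iff.mp h
      refine QuotientGroup.eq.mpr ?_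
      rw [Subgroup.mem_subgroupOf]
      refine ⟨(a⁻¹ * b : S.N).2, ?_⟩
      show S.cj ((a : G)⁻¹ * b) S.θ = S.θ
      rw [← S.cj_cj (inv_mem a.2) b.2, ← h', S.cj_cj (inv_mem a.2) a.2, inv_mul_cancel, S.cj_one]
    · rintro ⟨η, g, hg, rfl⟩
      exact ⟨QuotientGroup.mk ⟨g, hg⟩, rfl⟩
  rw [← Nat.card_eq_of_bijective φ hbij, ← Subgroup.index_eq_card, Setup.e]
  exact Subgroup.relIndex_mul_relIndex _ _ _ S.C_le_T S.T_le_N

end Setup

variable {P : Subgroup G}

theorem exists_setup_theta (hM : IsPModular p M) (hP : Nat.card P = p)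
    (hdiv : p ∣ Nat.card G) (hsq : ¬ p ^ 2 ∣ Nat.card G) (θ : Theta P) :
    ∃ (B : Set (IrrCharacter G))
      (b : Set (IrrCharacter (Subgroup.centralizer (P : Set G)))),
      IsDefectGroup p M B P ∧ IsPBlock M B ∧ θ.1 ∈ b ∧
      IsInducedBlock M (Subgroup.centralizer (P : Set G)) b B := by
  classical
  have := isPrime_of_isPModular hM
  haveI : Fintype (Subgroup.centralizer (P : Set G)) := Fintype.ofFinite _
  have hPp : IsPGroup p P := IsPGroup.of_card (n := 1) (by rw [hP, pow_one])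
  have hPC : P ≤ Subgroup.centralizer (P : Set G) := by
    intro x hx
    refine Subgroup.mem_centralizer_iff.mpr fun y hy => ?_
    haveI : IsCyclic P := isCyclic_of_prime_card hP
    letI := IsCyclic.commGroup (α := P)
    exact congrArg Subtype.val (mul_comm (⟨y, hy⟩ : P) ⟨x, hx⟩)
  obtain ⟨B, hB⟩ := inducedBlockDefined_of_le_normalizer hM hPp hPC le_rfl
    (Subgroup.centralizer_le_normalizer _) (isPBlock_blockOf (M := M) θ.1)
  obtain ⟨D, hD⟩ := exists_isDefectGroup hM hB.2.1
  obtain ⟨x, hx⟩ := (exists_isInducedBlock_iff hM hPp hPC le_rfl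
    (Subgroup.centralizer_le_normalizer _) hB.2.1 hD).mp ⟨_, hB⟩
  have hle : Nat.card D ≤ p := by
    rw [IsDefectGroup.card_eq hM hB.2.1 hD]
    calc p ^ blockDefect p B ≤ p ^ 1 := Nat.pow_le_pow_right (Fact.out : p.Prime).pos
          ((blockDefect_le_and_degree hM hB.2.1).1.trans (factorization_eq_one hdiv hsq).le)
      _ = p := pow_one p
  have hDe : D = P.map (MulAut.conj x).toMonoidHom :=
    (Subgroup.eq_of_le_of_card_ge hx (by rwa [card_map_conj, hP])).symm
  refine ⟨B, _, ?_, hB.2.1, mem_blockOf_self θ.1, hB⟩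
  have h := IsDefectGroup.conj hM hD x⁻¹
  rwa [hDe, Subgroup.map_map, show ((MulAut.conj x⁻¹).toMonoidHom).comp (MulAut.conj x).toMonoidHom =
    MonoidHom.id G from MonoidHom.ext fun g => by simp [mul_assoc], Subgroup.map_id] at h

set_option maxHeartbeats 1000000 in
theorem count_eq (hM : IsPModular p M) (hP : Nat.card P = p)
    (hdiv : p ∣ Nat.card G) (hsq : ¬ p ^ 2 ∣ Nat.card G) :
    (Subgroup.centralizer (P : Set G)).relIndex (Subgroup.normalizer (P : Set G)) *
      Nat.card {χ : IrrCharacter G // ¬ p ∣ charDegree (χ : G → ℂ)} = weight p P := by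
  classical
  have := isPrime_of_isPModular hM
  haveI : Fintype (Subgroup.centralizer (P : Set G)) := Fintype.ofFinite _
  choose β bb hβD hβB hbm hβi using exists_setup_theta hM hP hdiv hsq
  let sOf : Theta P → Setup G p M := fun θ =>
    { hM := hM, P := P, hP := hP, hidx := not_dvd_index hP hsq, B := β θ, hB := hβB θ,
      hBP := hβD θ, b := bb θ, hind := hβi θ, θ := θ.1,
      hθ := hbm θ, hθP := θ.2 }
  set f := (Subgroup.centralizer (P : Set G)).relIndex (Subgroup.normalizer (P : Set G))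
  have hfib : ∀ θ : Theta P,
      Nat.card {η : Theta P // β η = β θ} * (sOf θ).e = f := by
    intro θ
    rw [mul_comm, show f = (sOf θ).C.relIndex (sOf θ).N from rfl, ← (sOf θ).card_orbit]
    congr 1
    have hcjP : ∀ g ∈ (sOf θ).N, ∀ x : (sOf θ).C, (x : G) ∈ P →
        (((sOf θ).cj g θ.1 : IrrCharacter (sOf θ).C) : (sOf θ).C → ℂ) x =
          (((sOf θ).cj g θ.1 : IrrCharacter (sOf θ).C) : (sOf θ).C → ℂ) 1 := by
      intro g hg x hx
      have hx' : g⁻¹ * (x : G) * g ∈ P := (Subgroup.mem_normalizer_iff''.mp hg x).mp hx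
      rw [(sOf θ).cj_apply hg θ.1 (c := ⟨g⁻¹ * x * g, (sOf θ).P_le_C hx'⟩) (c' := x)
          (by simp [mul_assoc]),
        (sOf θ).cj_apply hg θ.1 (c := 1) (c' := 1) (by simp), θ.2 _ hx']
    refine Nat.card_congr ⟨fun η => ⟨η.1.1, ?_⟩, fun η => ⟨⟨η.1, ?_⟩, ?_⟩, fun _ => rfl, fun _ => rfl⟩
    · have hi := hβi η.1
      rw [η.2] at hi
      obtain ⟨g, hg, he⟩ := (sOf θ).inducing_iff.mp hi
      obtain ⟨ξ, hξ, hξe⟩ : η.1.1 ∈ (sOf θ).cj g '' (sOf θ).b := by
        rw [he]; exact hbm _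
      refine ⟨g, hg, ?_⟩
      rw [← hξe]
      congr 1
      refine ((sOf θ).eq_theta hξ fun x hx => ?_).symm
      have hgx : g * (x : G) * g⁻¹ ∈ P := (sOf θ).conj_P hg hx
      rw [← (sOf θ).cj_apply hg ξ (c := x) (c' := ⟨g * x * g⁻¹, (sOf θ).P_le_C hgx⟩) rfl,
        ← (sOf θ).cj_apply hg ξ (c := 1) (c' := 1) (by simp), hξe]
      exact η.1.2 _ hgx
    · obtain ⟨g, hg, he⟩ := η.2
      rw [← he]; exact hcjP g hg
    · obtain ⟨g, hg, he⟩ := η.2
      refine IsInducedBlock.unique (hβi _) ?_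
      show IsInducedBlock M (sOf θ).C (bb _) (sOf θ).B
      rw [← IsPBlock.eq_of_mem_of_mem ((sOf θ).isPBlock_cj hg) (hβi _).1
        ⟨_, (sOf θ).hθ, he⟩ (hbm _)]
      exact (sOf θ).induced_cj hg
  set F : Finset (Set (IrrCharacter G)) := Finset.univ.image β
  have hk : Nat.card {χ : IrrCharacter G // ¬ p ∣ charDegree (χ : G → ℂ)} =
      ∑ B ∈ F, Nat.card B := by
    have hset : {χ : IrrCharacter G | ¬ p ∣ charDegree (χ : G → ℂ)}.toFinset =
        F.biUnion fun B => B.toFinset := by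
      ext χ
      simp only [Set.mem_toFinset, Finset.mem_biUnion, F, Finset.mem_image, Finset.mem_univ,
        true_and, exists_exists_eq_and, Set.mem_setOf_eq]
      refine ⟨fun h => ?_, fun ⟨θ, hθ⟩ => (sOf θ).not_dvd_degree_mem hθ⟩
      have hB := isPBlock_blockOf (M := M) χ
      have hd : 0 < blockDefect p (blockOf M (χ : G → ℂ)) := by
        by_contra hd
        have h1 := (blockDefect_le_and_degree hM hB).2.2.1 χ (mem_blockOf_self χ)
        rw [Nat.le_zero.mp (not_lt.mp hd), factorization_eq_one hdiv hsq] at h1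
        exact h (Nat.dvd_of_factorization_pos (by omega))
      obtain ⟨S, hS⟩ := exists_setup hM hB hdiv hsq hd
      obtain ⟨x, hx⟩ : ∃ x : G, P = S.P.map (MulAut.conj x).toMonoidHom := by
        let Q : Sylow p G := Sylow.ofCard S.P (by rw [S.hP, factorization_eq_one hdiv hsq, pow_one])
        let R : Sylow p G := Sylow.ofCard P (by rw [hP, factorization_eq_one hdiv hsq, pow_one])
        obtain ⟨g, hg⟩ := MulAction.exists_smul_eq G Q R
        exact ⟨g, (congrArg (fun T : Sylow p G => (T : Subgroup G)) hg).symm⟩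
      have hD : IsDefectGroup p M (blockOf M (χ : G → ℂ)) P := by
        rw [hx, ← hS]; exact IsDefectGroup.conj hM S.hBP x
      have hPp : IsPGroup p P := IsPGroup.of_card (n := 1) (by rw [hP, pow_one])
      have hPC : P ≤ Subgroup.centralizer (P : Set G) := by
        intro y hy
        refine Subgroup.mem_centralizer_iff.mpr fun z hz => ?_
        haveI : IsCyclic P := isCyclic_of_prime_card hP
        letI := IsCyclic.commGroup (α := P)
        exact congrArg Subtype.val (mul_comm (⟨z, hz⟩ : P) ⟨y, hy⟩)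
      obtain ⟨b, hb⟩ := (exists_isInducedBlock_iff hM hPp hPC le_rfl
        (Subgroup.centralizer_le_normalizer _) hB hD).mpr ⟨1, fun x ⟨y, hy, e⟩ => by
          simpa [← e] using hy⟩
      haveI : (P.subgroupOf (Subgroup.centralizer (P : Set G))).Normal :=
        ⟨fun n hn g => by
          rw [show g * n = n * g from Subtype.ext (Subgroup.mem_centralizer_iff.mp g.2 _ hn).symm,
            mul_inv_cancel_right]
          exact hn⟩
      obtain ⟨θ, hθ, hθP⟩ := exists_mem_trivial_on_normal_pgroup hM hb.1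
        (P.subgroupOf (Subgroup.centralizer (P : Set G))) hPp.comap_subtype
      refine ⟨⟨θ, fun x hx => hθP x hx⟩, ?_⟩
      have e := IsPBlock.eq_of_mem_of_mem hb.1 (hβi ⟨θ, fun x hx => hθP x hx⟩).1 hθ (hbm _)
      rw [IsInducedBlock.unique (hβi ⟨θ, fun x hx => hθP x hx⟩) (e ▸ hb)]
      exact mem_blockOf_self χ
    rw [show Nat.card {χ : IrrCharacter G // ¬ p ∣ charDegree (χ : G → ℂ)} =
      Nat.card {χ : IrrCharacter G | ¬ p ∣ charDegree (χ : G → ℂ)} from rfl,
      Nat.card_eq_card_toFinset, hset, Finset.card_biUnion ?_]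
    · exact Finset.sum_congr rfl fun B _ => (Nat.card_eq_card_toFinset _).symm
    · intro B₁ hB₁ B₂ hB₂ hne
      obtain ⟨θ₁, -, rfl⟩ := Finset.mem_image.mp (Finset.mem_coe.mp hB₁)
      obtain ⟨θ₂, -, rfl⟩ := Finset.mem_image.mp (Finset.mem_coe.mp hB₂)
      refine Finset.disjoint_left.mpr fun χ h1 h2 => hne ?_
      exact IsPBlock.eq_of_mem_of_mem (hβB θ₁) (hβB θ₂) (Set.mem_toFinset.mp h1)
        (Set.mem_toFinset.mp h2)
  rw [hk, Finset.mul_sum, weight, ← Finset.sum_fiberwise_of_maps_to (g := β) (t := F)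
    fun θ _ => Finset.mem_image_of_mem _ (Finset.mem_univ θ)]
  refine Finset.sum_congr rfl fun B hB => ?_
  obtain ⟨θ, -, rfl⟩ := Finset.mem_image.mp hB
  rw [Finset.sum_congr rfl fun η hη => show _ = (sOf θ).e * Nat.card (β θ) from ?_,
    Finset.sum_const, smul_eq_mul, ← mul_assoc]
  · congr 1
    rw [← hfib θ, Nat.card_eq_fintype_card, Fintype.card_subtype]
  · have hη' : β η = β θ := (Finset.mem_filter.mp hη).2
    have h := (sOf η).weight_eq
    rw [← (sOf η).e_eq] at h
    refine h.trans ?_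
    have he : (sOf η).e = (sOf θ).e := by
      have h1 := hfib η
      rw [hη'] at h1
      refine Nat.eq_of_mul_eq_mul_left ?_ (h1.trans (hfib θ).symm)
      haveI : Nonempty {η : Theta P // β η = β θ} := ⟨⟨θ, rfl⟩⟩
      exact Nat.card_pos
    rw [(sOf η).e_eq, he]
    show (sOf θ).e * Nat.card (β η) = _
    rw [hη']

/-- The local weight is insensitive to embeddings containing the normalizer. -/
theorem weight_map {H : Type*} [Group H] [Finite H] (φ : H →* G) (hφ : Function.Injective φ)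
    (Q : Subgroup H) (hN : Subgroup.normalizer ((Q.map φ : Subgroup G) : Set G) ≤ φ.range) :
    weight p Q = weight p (Q.map φ) := by
  classical
  set C := Subgroup.centralizer ((Q.map φ : Subgroup G) : Set G) with hC
  set C' := Subgroup.centralizer (Q : Set H) with hC'
  have hCe : ∀ h : H, φ h ∈ C ↔ h ∈ C' := by
    intro h
    rw [hC, hC', Subgroup.mem_centralizer_iff, Subgroup.mem_centralizer_iff]
    constructor
    · intro hh q hq
      exact hφ (by rw [map_mul, map_mul]; exact hh _ ⟨q, hq, rfl⟩)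
    · rintro hh _ ⟨q, hq, rfl⟩
      rw [← map_mul, ← map_mul, hh q hq]
  let e0 : C' →* C := (φ.comp C'.subtype).codRestrict C fun h => (hCe h.1).mpr h.2
  have he0 : Function.Bijective e0 := by
    refine ⟨fun a b h => Subtype.ext (hφ (congrArg Subtype.val h)), fun c => ?_⟩
    obtain ⟨h, hh⟩ := hN (Subgroup.centralizer_le_normalizer _ c.2)
    exact ⟨⟨h, (hCe h).mp (hh ▸ c.2)⟩, Subtype.ext hh⟩
  let e : C' ≃* C := MulEquiv.ofBijective e0 he0
  have hNe : ∀ h : H, φ h ∈ Subgroup.normalizer ((Q.map φ : Subgroup G) : Set G) ↔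
      h ∈ Subgroup.normalizer (Q : Set H) := by
    intro h
    rw [Subgroup.mem_normalizer_iff, Subgroup.mem_normalizer_iff]
    constructor
    · intro hh q
      rw [← Subgroup.mem_map_iff_mem hφ, ← Subgroup.mem_map_iff_mem hφ (K := Q) (x := h * q * h⁻¹),
        map_mul, map_mul, map_inv]
      exact hh (φ q)
    · intro hh g
      constructor
      · rintro ⟨q, hq, rfl⟩
        exact ⟨h * q * h⁻¹, (hh q).mp hq, by simp⟩
      · rintro ⟨q, hq, hqe⟩
        refine ⟨h⁻¹ * q * h, ?_, ?_⟩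
        · exact (hh _).mpr (by simpa [mul_assoc] using hq)
        · simp [hqe, mul_assoc]
  have hstab : ∀ θ : C → ℂ,
      Nat.card (stabSet Q (fun c => θ (e c))) = Nat.card (stabSet (Q.map φ) θ) := by
    intro θ
    refine Nat.card_eq_of_bijective (fun h => ⟨φ h.1, (hNe h.1).mpr h.2.1, fun c c' hcc => ?_⟩)
      ⟨fun a b h => Subtype.ext (hφ (congrArg Subtype.val h)), fun g => ?_⟩
    · obtain ⟨d, rfl⟩ := e.surjective c
      obtain ⟨d', rfl⟩ := e.surjective c'
      refine h.2.2 d d' (hφ ?_)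
      rw [map_mul, map_mul, map_inv]
      exact hcc
    · obtain ⟨g, hg, hgθ⟩ := g
      obtain ⟨h, rfl⟩ := hN hg
      refine ⟨⟨h, (hNe h).mp hg, fun d d' hdd => hgθ (e d) (e d') ?_⟩, rfl⟩
      show φ (d' : H) = φ h * φ (d : H) * (φ h)⁻¹
      rw [hdd, map_mul, map_mul, map_inv]
  have hiffP : ∀ d : C', ((e d : C) : G) ∈ Q.map φ ↔ (d : H) ∈ Q := fun d =>
    Subgroup.mem_map_iff_mem hφ
  let E0 : IrrCharacter C ≃ IrrCharacter C' :=
    { toFun := fun θ => ⟨fun x => (θ : C → ℂ) (e x), (Char.isIrrCharacter_comp_equiv e).mpr θ.2⟩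
      invFun := fun θ =>
        ⟨fun x => (θ : C' → ℂ) (e.symm x), (Char.isIrrCharacter_comp_equiv e.symm).mpr θ.2⟩
      left_inv := fun θ => Subtype.ext (funext fun x => congrArg (θ : C → ℂ) (e.apply_symm_apply x))
      right_inv := fun θ =>
        Subtype.ext (funext fun x => congrArg (θ : C' → ℂ) (e.symm_apply_apply x)) }
  let E : Theta (Q.map φ) ≃ Theta Q :=
    Equiv.subtypeEquiv E0 fun θ => by
      constructor
      · intro hθ x hx
        show (θ : C → ℂ) (e x) = (θ : C → ℂ) (e 1)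
        rw [map_one]
        exact hθ (e x) ((hiffP x).mpr hx)
      · intro hθ x hx
        obtain ⟨d, rfl⟩ := e.surjective x
        rw [← map_one e]
        exact hθ d ((hiffP d).mp hx)
  rw [weight, weight, ← E.sum_comp]
  refine Finset.sum_congr rfl fun θ _ => ?_
  show (Nat.card (stabSet Q (fun c => (θ.1 : C → ℂ) (e c))) / Nat.card C') ^ 2 + (p - 1) =
    (Nat.card (stabSet (Q.map φ) (θ.1 : C → ℂ)) / Nat.card C) ^ 2 + (p - 1)
  rw [← hstab (θ.1 : C → ℂ), Nat.card_congr e.toEquiv]

end CfsgLib.Blocks.PrimeDefect
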