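import Cfsg.Agent.Lib.Blocks.PrimeDefect.Galois
import Cfsg.Agent.Lib.Blocks.MainFirst

/-!
# Blocks of positive defect when `p` divides the group order exactly once
-/

set_option autoImplicit false
set_option linter.unusedSectionVars false
set_option linter.style.haveILetI false

namespace CfsgLib.Blocks.PrimeDefect

open Cfsg
open scoped CfsgLib.Char
open CfsgLib

variable {G : Type*} [Group G] [Fintype G] {p : ℕ} [Fact p.Prime] {M : Ideal AlgInt}

theorem factorization_eq_one (hdiv : p ∣ Nat.card G) (hsq : ¬ p ^ 2 ∣ Nat.card G) :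
    (Nat.card G).factorization p = 1 := by
  have hp : p.Prime := Fact.out
  refine le_antisymm (Nat.lt_succ_iff.mp ?_) (hp.factorization_pos_of_dvd Nat.card_pos.ne' hdiv)
  by_contra h
  exact hsq ((pow_dvd_pow p (not_lt.mp h)).trans (Nat.ordProj_dvd _ _))

theorem not_dvd_index {P : Subgroup G} (hP : Nat.card P = p) (hsq : ¬ p ^ 2 ∣ Nat.card G) :
    ¬ p ∣ P.index := fun h => hsq (by
  rw [← P.card_mul_index, hP, pow_two]; exact mul_dvd_mul_left _ h)

theorem blockDefect_eq_one (hM : IsPModular p M) {B : Set (IrrCharacter G)} (hB : IsPBlock M B)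
    (hdiv : p ∣ Nat.card G) (hsq : ¬ p ^ 2 ∣ Nat.card G) (hd : 0 < blockDefect p B) :
    blockDefect p B = 1 :=
  le_antisymm ((blockDefect_le_and_degree hM hB).1.trans (factorization_eq_one hdiv hsq).le) hd

theorem exists_setup (hM : IsPModular p M) {B : Set (IrrCharacter G)} (hB : IsPBlock M B)
    (hdiv : p ∣ Nat.card G) (hsq : ¬ p ^ 2 ∣ Nat.card G) (hd : 0 < blockDefect p B) :
    ∃ S : Setup G p M, S.B = B := by
  classical
  obtain ⟨D, hD⟩ := exists_isDefectGroup hM hB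
  have hcard : Nat.card D = p := by
    rw [IsDefectGroup.card_eq hM hB hD, blockDefect_eq_one hM hB hdiv hsq hd, pow_one]
  have hDp : IsPGroup p D := IsPGroup.of_card (n := 1) (by rw [hcard, pow_one])
  set C := Subgroup.centralizer (D : Set G) with hC
  have hDC : D ≤ C := by
    intro x hx
    refine Subgroup.mem_centralizer_iff.mpr fun y hy => ?_
    haveI : IsCyclic D := isCyclic_of_prime_card hcard
    letI := IsCyclic.commGroup (α := D)
    exact congrArg Subtype.val (mul_comm (⟨y, hy⟩ : D) ⟨x, hx⟩)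
  haveI : Fintype C := Fintype.ofFinite _
  obtain ⟨b, hb⟩ := (exists_isInducedBlock_iff hM hDp hDC le_rfl
    (Subgroup.centralizer_le_normalizer _) hB hD).mpr ⟨1, fun x ⟨y, hy, e⟩ => by simpa [← e] using hy⟩
  have hcen : D.subgroupOf C ≤ Subgroup.center C := fun x hx =>
    Subgroup.mem_center_iff.mpr fun y => Subtype.ext
      (Subgroup.mem_centralizer_iff.mp y.2 _ hx).symm
  haveI : (D.subgroupOf C).Normal :=
    ⟨fun n hn g => by rw [Subgroup.mem_center_iff.mp (hcen hn) g, mul_inv_cancel_right]; exact hn⟩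
  obtain ⟨θ, hθ, hθP⟩ := exists_mem_trivial_on_normal_pgroup hM hb.1 (D.subgroupOf C)
    (hDp.comap_subtype)
  exact ⟨{ hM := hM, P := D, hP := hcard, hidx := not_dvd_index hcard hsq, B := B, hB := hB,
           hBP := hD, b := b, hind := hb, θ := θ, hθ := hθ,
           hθP := fun x hx => hθP x hx }, rfl⟩

variable (S : Setup G p M)

/-- The members of the exceptional family form one orbit under the automorphisms fixing the roots
of unity of order prime to `p`; the other characters of the block are fixed. -/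
theorem Setup.galois_families {ζ : ℂ} (hζ : IsPrimitiveRoot ζ (Setup.m' (G := G) (p := p))) :
    ∃ (Y : Finset (IrrCharacter G)) (δ : IrrCharacter G → ℤ), Y.card = (p - 1) / S.e ∧
      S.e ∣ p - 1 ∧ (∀ ψ ∈ Y, ψ ∈ S.B) ∧ Nat.card S.B = (p - 1) / S.e + S.e ∧
      (∀ θ ∈ Y, ∀ ψ, (∃ σ : ℂ ≃+* ℂ, σ ζ = ζ ∧ ψ = galIrr σ θ) ↔ ψ ∈ Y) ∧
      (∀ χ ∈ S.B, χ ∉ Y → ∀ σ : ℂ ≃+* ℂ, σ ζ = ζ → galIrr σ χ = χ) ∧
      (∀ χ ∈ S.B, δ χ = 1 ∨ δ χ = -1) ∧
      ∀ θ ∈ Y, ∀ x, IsPRegular p x →
        (∑ᶠ χ ∈ S.B \ (Y : Set (IrrCharacter G)), (δ χ : ℂ) * (χ : G → ℂ) x) +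
          (δ θ : ℂ) * (θ : G → ℂ) x = 0 := by
  classical
  obtain ⟨hdvd, X, Y, w, ε, ν, hdisj, hmem, hXc, hYc, hε, hw, hrowX, hrowY, hinj, hrel⟩ :=
    S.structure_rows
  have hB : S.B = ↑(X ∪ Y) := Set.ext fun χ => by rw [hmem, Finset.mem_coe]
  have hfix : ∀ χ ∈ S.B, χ ∉ Y → ∀ σ : ℂ ≃+* ℂ, σ ζ = ζ → galIrr σ χ = χ := fun χ hχ hY σ hσ =>
    S.gal_fix_constant hζ hσ hχ (hrowX χ
      ((Finset.mem_union.mp ((hmem χ).mp hχ)).resolve_right hY))
  refine ⟨Y, fun χ => if χ ∈ Y then ε else w χ, hYc, hdvd,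
    fun ψ hψ => (hmem ψ).mpr (Finset.mem_union_right _ hψ), ?_, ?_, hfix, ?_, ?_⟩
  · rw [hB, Nat.card_eq_card_toFinset, Finset.toFinset_coe, Finset.card_union_of_disjoint hdisj,
      hXc, hYc, add_comm]
  · intro θ hθ ψ
    constructor
    · rintro ⟨σ, hσ, rfl⟩
      by_contra hY
      have hB' := S.gal_mem_B hζ hσ ((hmem θ).mpr (Finset.mem_union_right _ hθ))
      have hσ' : σ.symm ζ = ζ := σ.injective (by rw [σ.apply_symm_apply, hσ])
      have h := hfix _ hB' hY σ.symm hσ'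
      have e : galIrr σ.symm (galIrr σ θ) = θ :=
        Subtype.ext (funext fun g => by rw [galIrr_apply, galIrr_apply, σ.symm_apply_apply])
      rw [e] at h
      exact hY (h ▸ hθ)
    · intro hψ
      obtain ⟨hν, hν', hrow⟩ := hrowY θ hθ
      obtain ⟨hμ, hμ', hrow'⟩ := hrowY ψ hψ
      obtain ⟨σ, hσ, hcarry⟩ := S.exists_gal_carry hζ hν hν' hμ hμ'
      refine ⟨σ, hσ, ?_⟩
      have hθB := (hmem θ).mpr (Finset.mem_union_right _ hθ)
      have hY : galIrr σ θ ∈ Y := by
        by_contra hY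
        have hσ' : σ.symm ζ = ζ := σ.injective (by rw [σ.apply_symm_apply, hσ])
        have h := hfix _ (S.gal_mem_B hζ hσ hθB) hY σ.symm hσ'
        have e : galIrr σ.symm (galIrr σ θ) = θ :=
          Subtype.ext (funext fun g => by rw [galIrr_apply, galIrr_apply, σ.symm_apply_apply])
        rw [e] at h
        exact hY (h ▸ hθ)
      obtain ⟨hk, hk', hrowk⟩ := hrowY _ hY
      have hc : S.c (galIrr σ θ) (ν ψ) = ε := by
        rw [← hcarry, S.c_gal hζ hσ, hrow _ hν hν', if_pos ⟨1, S.T.one_mem, S.cj_one _⟩]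
      rw [hrowk _ hμ hμ'] at hc
      refine (hinj _ hY ψ hψ ?_).symm
      by_contra hne
      rw [if_neg hne] at hc
      rcases hε with h | h <;> omega
  · intro χ hχ
    beta_reduce
    by_cases h : χ ∈ Y
    · rw [if_pos h]; exact hε
    · rw [if_neg h]
      exact hw χ ((Finset.mem_union.mp ((hmem χ).mp hχ)).resolve_right h)
  · intro θ hθ x hx
    have e : S.B \ (Y : Set (IrrCharacter G)) = (X : Set (IrrCharacter G)) := by
      rw [hB]; ext χ
      simp only [Finset.coe_union, Set.mem_sdiff, Set.mem_union, Finset.mem_coe]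
      exact ⟨fun h => h.1.resolve_right h.2, fun h => ⟨Or.inl h, Finset.disjoint_left.mp hdisj h⟩⟩
    beta_reduce
    rw [e, finsum_mem_coe_finset, if_pos hθ, Finset.sum_congr rfl fun χ hχ => by
      rw [if_neg (Finset.disjoint_left.mp hdisj hχ)], add_comm]
    exact hrel θ hθ x hx

end CfsgLib.Blocks.PrimeDefect
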