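import Cfsg.Agent.Lib.Blocks.PrimeDefect.Main
import Cfsg.Agent.Lib.Char.ComplexAut
import Cfsg.Agent.Lib.Char.Twist
import Mathlib.Data.Nat.ChineseRemainder

/-!
# Galois action on a block of prime Sylow defect
-/

set_option autoImplicit false
set_option linter.unusedSectionVars false
set_option linter.style.haveILetI false

namespace CfsgLib.Blocks.PrimeDefect

open Cfsg
open scoped ComplexConjugate CfsgLib.Char
open CfsgLib

variable {G : Type*} [Group G] [Fintype G]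

theorem isIrr_galois {H : Type*} [Group H] [Finite H] (σ : ℂ ≃+* ℂ) (χ : IrrCharacter H) :
    IsIrrCharacter H fun g => σ ((χ : H → ℂ) g) := by
  obtain ⟨k, hk, h⟩ := Char.exists_galois_exponent H (Char.restrictQBar σ)
  have e : (fun g => σ ((χ : H → ℂ) g)) = fun g => (χ : H → ℂ) (g ^ k) := funext fun g => by
    have := h (Char.isCharacter_of_isIrr χ.2) g
    rwa [Char.restrictQBar_apply, Char.coe_value] at this
  rw [e]
  exact Char.isIrrCharacter_pow hk χ.2

/-- The Galois conjugate of an irreducible character. -/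
noncomputable def galIrr {H : Type*} [Group H] [Finite H] (σ : ℂ ≃+* ℂ) (χ : IrrCharacter H) :
    IrrCharacter H := ⟨_, isIrr_galois σ χ⟩

theorem galIrr_apply {H : Type*} [Group H] [Finite H] (σ : ℂ ≃+* ℂ) (χ : IrrCharacter H) (g : H) :
    (galIrr σ χ : H → ℂ) g = σ ((χ : H → ℂ) g) := rfl

theorem galIrr_injective {H : Type*} [Group H] [Finite H] (σ : ℂ ≃+* ℂ) :
    Function.Injective (galIrr (H := H) σ) := fun a b h =>
  Subtype.ext (funext fun g => σ.injective (by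
    rw [← galIrr_apply, ← galIrr_apply, h]))

/-- An automorphism fixing the `m`-th roots of unity fixes the values at elements of order
dividing `m`. -/
theorem galois_fix_value {H : Type*} [Group H] [Finite H] {σ : ℂ ≃+* ℂ} {m : ℕ} (hm : m ≠ 0)
    {ζ : ℂ} (hζ : IsPrimitiveRoot ζ m) (hσ : σ ζ = ζ) (χ : IrrCharacter H) {g : H}
    (hg : orderOf g ∣ m) : σ ((χ : H → ℂ) g) = (χ : H → ℂ) g := by
  obtain ⟨n, ρ, hρ⟩ := Char.isCharacter_of_isIrr χ.2
  rw [← hρ]
  obtain ⟨μ, h1, h2⟩ := Char.character_pow_eq_sum ρ g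
  haveI : NeZero m := ⟨hm⟩
  have hv := h2 1
  simp only [pow_one] at hv
  rw [hv, map_sum]
  refine Finset.sum_congr rfl fun i _ => ?_
  obtain ⟨j, -, hj⟩ := hζ.eq_pow_of_pow_eq_one (ξ := μ i)
    (orderOf_dvd_iff_pow_eq_one.mp ((orderOf_dvd_of_pow_eq_one (h1 i)).trans hg))
  rw [← hj, map_pow, hσ]

/-- Automorphisms with prescribed action on roots of unity. -/
theorem exists_aut_root {N k : ℕ} (hN : 0 < N) (hk : k.Coprime N) :
    ∃ σ : ℂ ≃+* ℂ, ∀ z : ℂ, z ^ N = 1 → σ z = z ^ k := by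
  obtain ⟨ζ, hζ⟩ := Char.exists_primitiveRoot_qbar N hN.ne'
  have hmem : (ζ : ℂ) ^ k ∈ (minpoly ℚ ζ).rootSet ℂ := by
    have hmin : minpoly ℚ ζ = minpoly ℚ (ζ : ℂ) :=
      (minpoly.algebraMap_eq (algebraMap Char.QBar ℂ).injective ζ).symm
    rw [hmin, Polynomial.mem_rootSet]
    refine ⟨minpoly.ne_zero ((hζ.isIntegral hN).tower_top), ?_⟩
    have h1 := Polynomial.cyclotomic_eq_minpoly_rat hζ hN
    haveI : NeZero ((N : ℕ) : ℂ) := ⟨Nat.cast_ne_zero.mpr hN.ne'⟩
    have h2 := (Polynomial.isRoot_cyclotomic_iff).mpr (hζ.pow_of_coprime k hk)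
    rw [← h1, Polynomial.aeval_def, ← Polynomial.eval_map, Polynomial.map_cyclotomic]
    exact h2
  rw [← Algebra.IsAlgebraic.range_eval_eq_rootSet_minpoly] at hmem
  obtain ⟨ψ, hψ⟩ := hmem
  obtain ⟨σ, hσ⟩ := Char.exists_ringEquiv_extend ψ
  refine ⟨σ, fun z hz => ?_⟩
  haveI : NeZero N := ⟨hN.ne'⟩
  obtain ⟨i, -, hi⟩ := hζ.eq_pow_of_pow_eq_one hz
  rw [← hi, map_pow, hσ, show ψ ζ = (ζ : ℂ) ^ k from hψ, ← pow_mul, ← pow_mul, mul_comm]

namespace Setup

variable {p : ℕ} {M : Ideal AlgInt} (S : Setup G p M)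

/-- The prime-to-`p` part of the group order. -/
noncomputable abbrev m' : ℕ := Nat.card G / p ^ (Nat.card G).factorization p

variable {σ : ℂ ≃+* ℂ} {ζ : ℂ} (hζ : IsPrimitiveRoot ζ (Setup.m' (G := G) (p := p))) (hσ : σ ζ = ζ)

theorem orderOf_regular_dvd (S : Setup G p M) {g : G} (hg : IsPRegular p g) :
    orderOf g ∣ Setup.m' (G := G) (p := p) := by
  refine Nat.Coprime.dvd_of_dvd_mul_left (m := p ^ (Nat.card G).factorization p) ?_ ?_
  · exact Nat.Coprime.pow_right _ (S.hM.1.coprime_iff_not_dvd.mpr hg).symm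
  · rw [Setup.m', Nat.ordProj_mul_ordCompl_eq_self]
    exact orderOf_dvd_natCard g

include hζ hσ

theorem gal_fix_regular {H : Subgroup G} (χ : IrrCharacter H) {g : H} (hg : IsPRegular p g)
    (S : Setup G p M) : σ ((χ : H → ℂ) g) = (χ : H → ℂ) g :=
  galois_fix_value (Nat.ordCompl_pos p Nat.card_pos.ne').ne' hζ hσ χ (by
    rw [← Subgroup.orderOf_coe]
    exact S.orderOf_regular_dvd (by rwa [IsPRegular, Subgroup.orderOf_coe]))

theorem gal_theta : galIrr σ S.θ = S.θ := by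
  refine Subtype.ext (funext fun c => ?_)
  obtain ⟨x, hx, v, hv, hxv⟩ := S.exists_decompC c.2
  set x' : S.C := ⟨x, S.P_le_C hx⟩
  set v' : S.C := ⟨v, S.V_le_C hv⟩
  obtain rfl : c = x' * v' := Subtype.ext hxv.symm
  rw [galIrr_apply, S.theta_P_mul hx, gal_fix_regular hζ hσ S.θ ?_ S]
  rw [IsPRegular, ← Subgroup.orderOf_coe]
  exact S.regular_of_mem_V hv

theorem gal_mem_b {ξ : IrrCharacter S.C} (hξ : ξ ∈ S.b) : galIrr σ ξ ∈ S.b := by
  classical
  have := isPrime_of_isPModular S.hM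
  haveI : Fintype S.C := Fintype.ofFinite _
  set η := galIrr σ ξ
  by_contra hne
  have h := classInner_regPart_eq_zero S.hM (IsPBlock.isBlockUnion S.hind.1) S.hθ hne
  rw [classInner, mul_eq_zero, or_iff_right (inv_ne_zero (Nat.cast_ne_zero.mpr Nat.card_pos.ne'))] at h
  have heq : ∀ c : S.C, regPart p (S.θ : S.C → ℂ) c * conj ((η : S.C → ℂ) c) =
      (‖regPart p (S.θ : S.C → ℂ) c‖ : ℂ) ^ 2 := by
    intro c
    by_cases hc : IsPRegular p c
    · rw [regPart_of_regular hc, galIrr_apply, gal_fix_regular hζ hσ ξ hc S, S.value_mem_b hξ hc,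
        Complex.mul_conj']
    · rw [regPart_of_singular hc]; simp
  rw [Finset.sum_congr rfl fun c _ => heq c] at h
  have h' : ∑ c : S.C, ‖regPart p (S.θ : S.C → ℂ) c‖ ^ 2 = 0 := by exact_mod_cast h
  have h1 := (Finset.sum_eq_zero_iff_of_nonneg fun c _ => sq_nonneg _).mp h' 1 (Finset.mem_univ _)
  rw [regPart_of_regular (isPRegular_one S.hM.1), pow_eq_zero_iff two_ne_zero, norm_eq_zero] at h1
  exact S.theta_one_ne h1

omit hσ hζ in
theorem mult_gal (σ : ℂ ≃+* ℂ) (χ : IrrCharacter G) (ξ : IrrCharacter S.C) :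
    S.mult (galIrr σ χ) (galIrr σ ξ) = S.mult χ ξ := by
  classical
  haveI : Fintype S.C := Fintype.ofFinite _
  have hbij : Function.Bijective (galIrr (H := S.C) σ) :=
    Finite.injective_iff_bijective.mp (galIrr_injective σ)
  set e := Equiv.ofBijective _ hbij
  have h : S.restrC (galIrr σ χ) =
      ∑ η : IrrCharacter S.C, (S.mult χ (e.symm η) : ℂ) • (η : S.C → ℂ) := by
    funext k
    rw [restrC, galIrr_apply, S.mult_spec, map_sum, Finset.sum_apply]
    refine Fintype.sum_equiv e _ _ fun η => ?_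
    rw [Equiv.symm_apply_apply, map_mul, map_natCast, Pi.smul_apply, smul_eq_mul]
    rfl
  have h2 := S.restrC_eq (galIrr σ χ)
  have h3 := congrArg (fun f => classInner f ((galIrr σ ξ : IrrCharacter S.C) : S.C → ℂ)) (h.symm.trans h2)
  simp only [Char.classInner_sum_smul_irr] at h3
  rw [show e.symm (galIrr σ ξ) = ξ from e.symm_apply_apply ξ] at h3
  exact_mod_cast h3.symm

theorem c_gal (χ : IrrCharacter G) (ξ : IrrCharacter S.C) :
    S.c (galIrr σ χ) (galIrr σ ξ) = S.c χ ξ := by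
  have h := S.mult_gal σ χ S.θ
  rw [S.gal_theta hζ hσ] at h
  rw [c, c, S.mult_gal, h]

theorem gal_surj_b {η : IrrCharacter S.C} (hη : η ∈ S.b) : ∃ ξ ∈ S.b, galIrr σ ξ = η := by
  obtain ⟨⟨ξ, hξ⟩, h⟩ := (Finite.injective_iff_surjective
    (f := fun ξ : S.b => (⟨galIrr σ ξ.1, S.gal_mem_b hζ hσ ξ.2⟩ : S.b))).mp
    (fun a b h => Subtype.ext (galIrr_injective σ (Subtype.ext_iff.mp h))) ⟨η, hη⟩
  exact ⟨ξ, hξ, Subtype.ext_iff.mp h⟩

theorem a_gal (χ : IrrCharacter G) {v : G} (hv : v ∈ S.P) :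
    S.a (galIrr σ χ) v = σ (S.a χ v) := by
  classical
  rw [a, a, map_sum]
  refine (Finset.sum_bij (fun ξ _ => galIrr σ ξ) (fun ξ hξ => ?_) (fun _ _ _ _ h => galIrr_injective σ h)
    (fun η hη => ?_) fun ξ hξ => ?_).symm
  · simpa using S.gal_mem_b hζ hσ (Finset.mem_filter.mp hξ).2
  · obtain ⟨ξ, hξ, rfl⟩ := S.gal_surj_b hζ hσ (Finset.mem_filter.mp hη).2
    exact ⟨ξ, by simpa using hξ, rfl⟩
  · rw [map_mul, map_natCast, S.mult_gal]
    congr 1
    have e1 := S.scal_apply (galIrr σ ξ) ⟨v, S.P_le_C hv⟩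
    have e2 := S.scal_apply ξ ⟨v, S.P_le_C hv⟩
    rw [e1, e2, map_div₀]
    rfl

theorem gal_mem_B {χ : IrrCharacter G} (hχ : χ ∈ S.B) : galIrr σ χ ∈ S.B := by
  classical
  have := isPrime_of_isPModular S.hM
  haveI : Fintype S.C := Fintype.ofFinite _
  haveI : Nontrivial S.P := by
    rw [← Finite.one_lt_card_iff_nontrivial, S.hP]; exact S.hM.1.one_lt
  obtain ⟨⟨v, hv⟩, hv1⟩ := exists_ne (1 : S.P)
  have hv1' : v ≠ 1 := fun h => hv1 (Subtype.ext h)
  by_contra hne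
  have h0 : S.a (galIrr σ χ) v = 0 := by
    have h1 : IsPRegular p (1 : S.C) := isPRegular_one S.hM.1
    have hpart := S.part_base (galIrr σ χ) hv h1
    have key : ∀ (H : Subgroup G) [Fintype H], H = Subgroup.centralizer ({v} : Set G) →
        ∀ (b : Set (IrrCharacter H)), IsInducedBlock M H b S.B → ∀ y : H, IsPRegular p y →
        blockPart b (fun k : H => (galIrr σ χ : G → ℂ) (v * (k : G))) y = 0 := by
      rintro H _ rfl b hb y hy
      exact blockPart_eq_zero_of_not_induced S.hM (S.orderOf_pow hv) (isPBlock_blockOf _)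
        (mem_blockOf_self _) hb.1
        (fun h' => hne (IsInducedBlock.unique hb h' ▸ mem_blockOf_self _)) hy
    rw [key S.C (S.centralizer_eq hv hv1') S.b S.hind 1 h1] at hpart
    exact (mul_eq_zero.mp hpart.symm).resolve_right S.theta_one_ne
  rw [S.a_gal hζ hσ χ hv, map_eq_zero_iff σ σ.injective] at h0
  exact S.exists_a_ne_zero hχ hv hv1' h0

/-- Constant rows are fixed. -/
theorem gal_fix_constant {χ : IrrCharacter G} (hχ : χ ∈ S.B) {w : ℤ}
    (hrow : ∀ ξ ∈ S.b, ξ ≠ S.θ → S.c χ ξ = w) : galIrr σ χ = χ := by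
  classical
  haveI : Fintype S.C := Fintype.ofFinite _
  have hp := S.hM.1
  have := S.fact
  refine Subtype.ext (funext fun g => ?_)
  rw [galIrr_apply]
  by_cases hg : IsPRegular p g
  · exact galois_fix_value (Nat.ordCompl_pos p Nat.card_pos.ne').ne' hζ hσ χ (S.orderOf_regular_dvd hg)
  obtain ⟨x, hx, -⟩ := exists_isPPart hp g
  obtain ⟨y, rfl, hcom, ⟨k, hk⟩, hy⟩ := hx
  have hxp : IsPGroup p (Subgroup.zpowers x) := IsPGroup.of_card (n := k) (by rw [Nat.card_zpowers, hk])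
  obtain ⟨Q, hQ⟩ := hxp.exists_le_sylow
  let P' : Sylow p G := Sylow.ofCard S.P (by
    rw [S.hP, ← S.P.card_mul_index, Nat.factorization_mul Nat.card_pos.ne' S.P.index_ne_zero_of_finite,
      Finsupp.add_apply, Nat.factorization_eq_zero_of_not_dvd S.hidx, add_zero, S.hP,
      hp.factorization_self, pow_one])
  obtain ⟨h, hh⟩ := MulAction.exists_smul_eq G Q P'
  have hxP : h * x * h⁻¹ ∈ S.P := by
    have e : ((h • Q : Sylow p G) : Subgroup G) = S.P := by rw [hh]; rfl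
    rw [← e, Sylow.coe_subgroup_smul]
    exact ⟨x, hQ (Subgroup.mem_zpowers x), rfl⟩
  rw [← irr_classFunction χ (x * y) h, show h * (x * y) * h⁻¹ = h * x * h⁻¹ * (h * y * h⁻¹) by group]
  set v := h * x * h⁻¹ with hvdef
  set z := h * y * h⁻¹
  have hord : ∀ a : G, orderOf (h * a * h⁻¹) = orderOf a := fun a => by
    rw [show h * a * h⁻¹ = (MulAut.conj h).toMonoidHom a by simp,
      orderOf_injective (MulAut.conj h).toMonoidHom (MulAut.conj h).injective]
  have hzr : ¬ p ∣ orderOf z := by rw [hord]; exact hy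
  have hv1 : v ≠ 1 := fun e => hg (by
    have : x = 1 := conj_eq_one_iff.mp e
    rw [this, one_mul]; exact hy)
  have hzC : z ∈ S.C := by
    rw [S.centralizer_eq hxP hv1, Subgroup.mem_centralizer_singleton_iff]
    show h * y * h⁻¹ * (h * x * h⁻¹) = h * x * h⁻¹ * (h * y * h⁻¹)
    rw [show h * y * h⁻¹ * (h * x * h⁻¹) = h * (y * x) * h⁻¹ by group, ← hcom.eq]; group
  have hval := S.value_section hχ hxP hv1 (y := ⟨z, hzC⟩)
    (by rw [IsPRegular, ← Subgroup.orderOf_coe]; exact hzr)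
  have hfix := congrArg σ hval
  rw [map_mul, map_natCast, map_sum, Finset.sum_congr rfl fun a ha => ?_, ← hval] at hfix
  · exact mul_left_cancel₀ (Nat.cast_ne_zero.mpr (Nat.card_pos (α := S.T)).ne') hfix
  have haN : a ∈ S.N := (Finset.mem_filter.mp ha).2
  have haC : a⁻¹ * z * a ∈ S.C := by
    have := (S.conj_C_iff (inv_mem haN) z).mpr hzC
    rwa [inv_inv] at this
  rw [dif_pos haC, map_mul, S.a_of_constant hrow ((Subgroup.mem_normalizer_iff''.mp haN v).mp hxP)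
    fun e => hv1 (by
      have := congrArg (fun q => a * q * a⁻¹) e
      simpa [mul_assoc] using this), map_neg, map_intCast, gal_fix_regular hζ hσ S.θ ?_ S]
  rw [IsPRegular, ← Subgroup.orderOf_coe]
  show ¬ p ∣ orderOf (a⁻¹ * z * a)
  rwa [show a⁻¹ * z * a = (MulAut.conj a⁻¹).toMonoidHom z by simp,
    orderOf_injective (MulAut.conj a⁻¹).toMonoidHom (MulAut.conj a⁻¹).injective]

omit hζ hσ in
/-- An automorphism carrying one nontrivial member of `b` to another, fixing the roots of unity of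
order prime to `p`. -/
theorem exists_gal_carry (hζ : IsPrimitiveRoot ζ (Setup.m' (G := G) (p := p)))
    {ξ η : IrrCharacter S.C} (hξ : ξ ∈ S.b) (hξθ : ξ ≠ S.θ) (hη : η ∈ S.b) (hηθ : η ≠ S.θ) :
    ∃ σ : ℂ ≃+* ℂ, σ ζ = ζ ∧ galIrr σ ξ = η := by
  classical
  have hp := S.hM.1
  haveI : Nontrivial S.P := by
    rw [← Finite.one_lt_card_iff_nontrivial, S.hP]; exact hp.one_lt
  obtain ⟨⟨u, hu⟩, hu1⟩ := exists_ne (1 : S.P)
  have hu1' : u ≠ 1 := fun h => hu1 (Subtype.ext h)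
  have hpow : ∀ (α : IrrCharacter S.C) (i : ℕ), S.scal α (u ^ i) = S.scal α u ^ i := fun α i => by
    induction i with
    | zero => rw [pow_zero, pow_zero, S.scal_one]
    | succ i ih => rw [pow_succ, pow_succ, S.scal_mul α (pow_mem hu i) hu, ih]
  have hup : u ^ p = 1 := by rw [← S.orderOf_mem hu hu1', pow_orderOf_eq_one]
  have hprim : ∀ {α}, α ∈ S.b → α ≠ S.θ → IsPrimitiveRoot (S.scal α u) p := fun {α} hα hαθ => by
    have h1 : S.scal α u ^ p = 1 := by rw [← hpow, hup, S.scal_one]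
    haveI := Fact.mk hp
    exact IsPrimitiveRoot.iff_orderOf.mpr
      (orderOf_eq_prime h1 fun h => hu1' (S.scal_eq_one_imp hα hαθ hu h))
  haveI : NeZero p := ⟨hp.ne_zero⟩
  obtain ⟨i, -, hicop, hi⟩ := ((hprim hξ hξθ).isPrimitiveRoot_iff).mp (hprim hη hηθ)
  have hm' : 0 < Setup.m' (G := G) (p := p) := Nat.ordCompl_pos p Nat.card_pos.ne'
  have hcop : Nat.Coprime p (Setup.m' (G := G) (p := p)) :=
    hp.coprime_iff_not_dvd.mpr (Nat.not_dvd_ordCompl hp Nat.card_pos.ne')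
  obtain ⟨k, hk1, hk2⟩ := Nat.chineseRemainder hcop i 1
  have hkN : k.Coprime (p * Setup.m' (G := G) (p := p)) := by
    refine Nat.Coprime.mul_right ?_ ?_
    · rw [Nat.Coprime, Nat.ModEq.gcd_eq hk1]; exact hicop
    · rw [Nat.Coprime, Nat.ModEq.gcd_eq hk2]; exact Nat.gcd_one_left _
  obtain ⟨σ, hσ⟩ := exists_aut_root (Nat.mul_pos hp.pos hm') hkN
  have hroot : ∀ {z : ℂ} {n i : ℕ}, z ^ n = 1 → n ∣ p * Setup.m' (G := G) (p := p) → k ≡ i [MOD n] →
      σ z = z ^ i := fun {z n i} hz hn hki => by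
    obtain ⟨c, hc⟩ := hn
    rw [hσ z (by rw [hc, pow_mul, hz, one_pow]), pow_eq_pow_mod k hz, pow_eq_pow_mod i hz, hki]
  have hσζ : σ ζ = ζ := by rw [hroot hζ.pow_eq_one (dvd_mul_left _ _) hk2, pow_one]
  have hgb := S.gal_mem_b hζ hσζ hξ
  refine ⟨σ, hσζ, ?_⟩
  refine Subtype.ext (funext fun c => ?_)
  obtain ⟨x, hx, v, hv, hxv⟩ := S.exists_decompC c.2
  set x' : S.C := ⟨x, S.P_le_C hx⟩
  set v' : S.C := ⟨v, S.V_le_C hv⟩
  obtain rfl : c = x' * v' := Subtype.ext hxv.symm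
  have hvr : IsPRegular p v' := by
    rw [IsPRegular, ← Subgroup.orderOf_coe]; exact S.regular_of_mem_V hv
  rw [galIrr_apply, S.value_mul ξ hx, S.value_mul η hx, map_mul, S.value_mem_b hη hvr,
    ← S.value_mem_b hgb hvr, galIrr_apply]
  congr 1
  obtain ⟨j, hj⟩ : ∃ j : ℕ, u ^ j = (x : G) := by
    have h' := hx
    rw [← S.zpowers_eq hu hu1', ← mem_powers_iff_mem_zpowers] at h'
    exact h'
  show σ (S.scal ξ x) = S.scal η x
  have hsu : S.scal ξ u ^ p = 1 := by rw [← hpow, hup, S.scal_one]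
  rw [← hj, hpow, hpow, map_pow, hroot hsu (dvd_mul_right _ _) hk1, hi]

end Setup

end CfsgLib.Blocks.PrimeDefect
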