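import Cfsg.Agent.Lib.Blocks.PrimeDefect.Rows
import Cfsg.Agent.Lib.Blocks.PrimeDefect.Modular
import Cfsg.Agent.Lib.Blocks.PrimeDefect.Comb

/-!
# The characters of a block with a Sylow defect group of order `p`

`e = |T : C|` characters with constant rows and `(p - 1) / e` exceptional ones, their degrees modulo
`p` and the relation on the regular elements.
-/

set_option autoImplicit false
set_option linter.unusedSectionVars false
set_option linter.style.haveILetI false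

namespace CfsgLib.Blocks.PrimeDefect

open Cfsg
open scoped ComplexConjugate CfsgLib.Char
open CfsgLib

variable {G : Type*} [Group G] [Fintype G]

namespace Setup

variable {p : ℕ} {M : Ideal AlgInt} (S : Setup G p M)

/-- The ramification. -/
noncomputable abbrev e : ℕ := S.C.relIndex S.T

theorem card_T : Nat.card S.T = S.e * Nat.card S.C := by
  rw [e, Subgroup.relIndex, ← Nat.card_congr (Subgroup.subgroupOfEquivOfLe S.C_le_T).toEquiv,
    mul_comm, Subgroup.card_mul_index]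

theorem card_N : Nat.card S.N = S.C.relIndex S.N * Nat.card S.C := by
  rw [Subgroup.relIndex, ← Nat.card_congr (Subgroup.subgroupOfEquivOfLe S.C_le_N).toEquiv,
    mul_comm, Subgroup.card_mul_index]

theorem e_pos : 0 < S.e := Nat.pos_of_ne_zero fun h => by
  have := S.card_T
  rw [h, zero_mul] at this
  exact Nat.card_pos.ne' this

theorem e_dvd_f : S.e ∣ S.C.relIndex S.N := by
  have h := Subgroup.relIndex_mul_relIndex S.C S.T S.N S.C_le_T S.T_le_N
  exact ⟨_, h.symm⟩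

/-- `|N| = (f / e) |T|`. -/
theorem card_N_div : Nat.card S.N = S.C.relIndex S.N / S.e * Nat.card S.T := by
  rw [S.card_T, ← mul_assoc, Nat.div_mul_cancel S.e_dvd_f, S.card_N]

/-- The orbit relation of `T` on the nontrivial members of `b`. -/
def orbitSetoid : Setoid {ξ : IrrCharacter S.C // ξ ∈ S.b ∧ ξ ≠ S.θ} where
  r ξ η := ∃ t ∈ S.T, S.cj t ξ.1 = η.1
  iseqv :=
    { refl := fun ξ => ⟨1, one_mem _, S.cj_one _⟩
      symm := fun {ξ η} ⟨t, ht, h⟩ => ⟨t⁻¹, inv_mem ht, by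
        rw [← h, S.cj_cj (S.T_le_N (inv_mem ht)) (S.T_le_N ht), inv_mul_cancel, S.cj_one]⟩
      trans := fun {ξ η ζ} ⟨t, ht, h⟩ ⟨s, hs, h'⟩ => ⟨s * t, mul_mem hs ht, by
        rw [← S.cj_cj (S.T_le_N hs) (S.T_le_N ht), h, h']⟩ }

theorem card_fix {ξ η : IrrCharacter S.C} (hξ : ξ ∈ S.b) (hξθ : ξ ≠ S.θ)
    (h : ∃ t ∈ S.T, S.cj t ξ = η) :
    Nat.card {t : S.T // S.cj (t : G) ξ = η} = Nat.card S.C := by
  obtain ⟨t₀, ht₀, rfl⟩ := h
  refine Nat.card_congr
    { toFun := fun t => ⟨t₀⁻¹ * (t.1 : G), (S.cj_eq_self_iff (mul_mem (inv_mem ht₀) t.1.2) hξ hξθ).mp (by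
        rw [← S.cj_cj (S.T_le_N (inv_mem ht₀)) (S.T_le_N t.1.2), t.2,
          S.cj_cj (S.T_le_N (inv_mem ht₀)) (S.T_le_N ht₀), inv_mul_cancel, S.cj_one])⟩
      invFun := fun c => ⟨⟨t₀ * (c : G), mul_mem ht₀ (S.C_le_T c.2)⟩, by
        show S.cj (t₀ * (c : G)) ξ = _
        rw [← S.cj_cj (S.T_le_N ht₀) (S.C_le_N c.2), S.cj_of_mem_C c.2]⟩
      left_inv := fun t => by ext; simp
      right_inv := fun c => by ext; simp }

open Classical in
/-- The structure of the block. -/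
theorem structure_rows :
    S.e ∣ p - 1 ∧ ∃ (X Y : Finset (IrrCharacter G)) (w : IrrCharacter G → ℤ) (ε : ℤ)
      (ν : IrrCharacter G → IrrCharacter S.C),
      Disjoint X Y ∧ (∀ χ, χ ∈ S.B ↔ χ ∈ X ∪ Y) ∧ X.card = S.e ∧ Y.card = (p - 1) / S.e ∧
      (ε = 1 ∨ ε = -1) ∧ (∀ χ ∈ X, w χ = 1 ∨ w χ = -1) ∧
      (∀ χ ∈ X, ∀ ξ ∈ S.b, ξ ≠ S.θ → S.c χ ξ = w χ) ∧
      (∀ ψ ∈ Y, ν ψ ∈ S.b ∧ ν ψ ≠ S.θ ∧ ∀ ξ ∈ S.b, ξ ≠ S.θ →
        S.c ψ ξ = if ∃ t ∈ S.T, S.cj t (ν ψ) = ξ then ε else 0) ∧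
      (∀ ψ ∈ Y, ∀ ψ' ∈ Y, (∃ t ∈ S.T, S.cj t (ν ψ) = ν ψ') → ψ = ψ') ∧
      ∀ ψ ∈ Y, ∀ g, IsPRegular p g →
        (ε : ℂ) * (ψ : G → ℂ) g + ∑ χ ∈ X, (w χ : ℂ) * (χ : G → ℂ) g = 0 := by
  have := isPrime_of_isPModular S.hM
  have := S.fact
  refine ⟨S.relIndex_dvd, ?_⟩
  haveI : Fintype S.T := Fintype.ofFinite _
  set Ω := Quotient S.orbitSetoid
  haveI : Fintype Ω := Fintype.ofFinite _
  set A := {ξ : IrrCharacter S.C // ξ ∈ S.b ∧ ξ ≠ S.θ}
  haveI : Fintype A := Fintype.ofFinite _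
  have hA : Fintype.card A = p - 1 := by
    rw [Fintype.card_subtype, show ({ξ | ξ ∈ S.b ∧ ξ ≠ S.θ} : Finset (IrrCharacter S.C)) =
      ({ξ | ξ ∈ S.b} : Finset _).erase S.θ by ext; simp [and_comm],
      Finset.card_erase_of_mem (by simp [S.hθ]), ← Fintype.card_subtype, ← Nat.card_eq_fintype_card]
    exact congrArg (· - 1) S.card_b
  have hfib : ∀ q : Ω, ({ξ : A | Quotient.mk S.orbitSetoid ξ = q} : Finset A).card = S.e := by
    intro q
    obtain ⟨ξ, rfl⟩ := Quotient.exists_rep q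
    have h1 : Nat.card S.T = ({η : A | Quotient.mk S.orbitSetoid η = Quotient.mk S.orbitSetoid ξ} : Finset A).card *
        Nat.card S.C := by
      rw [Nat.card_eq_fintype_card, ← Finset.card_univ,
        Finset.card_eq_sum_card_fiberwise (f := fun t : S.T =>
          (⟨S.cj (t : G) ξ.1, S.cj_mem t.2 ξ.2.1, S.cj_ne_theta t.2 ξ.2.2⟩ : A))
          (t := ({η : A | Quotient.mk S.orbitSetoid η = Quotient.mk S.orbitSetoid ξ} : Finset A)) (fun t _ => by
            simp only [Finset.coe_filter, Set.mem_ofPred_eq, Finset.mem_univ, true_and]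
            exact Quotient.sound ⟨(t : G)⁻¹, inv_mem t.2, by
              rw [S.cj_cj (S.T_le_N (inv_mem t.2)) (S.T_le_N t.2), inv_mul_cancel, S.cj_one]⟩),
        Finset.sum_congr rfl (g := fun _ => Nat.card S.C) fun η hη => ?_, Finset.sum_const,
        smul_eq_mul]
      have hr := Quotient.exact (Finset.mem_filter.mp hη).2
      obtain ⟨t, ht, he⟩ := S.orbitSetoid.iseqv.symm hr
      rw [← S.card_fix ξ.2.1 ξ.2.2 ⟨t, ht, he⟩, Nat.card_eq_fintype_card, Fintype.card_subtype]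
      congr 1
      ext s
      simp [Subtype.ext_iff]
    rw [S.card_T] at h1
    exact (Nat.eq_of_mul_eq_mul_right Nat.card_pos h1).symm
  have hΩ : Fintype.card Ω * S.e = p - 1 := by
    rw [← hA, ← Finset.card_univ (α := A), Finset.card_eq_sum_card_fiberwise
      (f := fun ξ : A => Quotient.mk S.orbitSetoid ξ) (t := (Finset.univ : Finset Ω)) (fun _ _ => Finset.mem_univ _),
      Finset.sum_congr rfl fun q _ => hfib q, Finset.sum_const, smul_eq_mul, Finset.card_univ]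
  have hΩdiv : (p - 1) / S.e = Fintype.card Ω := by rw [← hΩ, Nat.mul_div_cancel _ S.e_pos]
  haveI : Nonempty Ω := Fintype.card_pos_iff.mp (Nat.pos_of_ne_zero fun h => by
    rw [h, zero_mul] at hΩ; have := S.hM.1.two_le; omega)
  let cΩ : IrrCharacter G → Ω → ℤ := fun χ => Quotient.lift (fun ξ : A => S.c χ ξ.1)
    fun ξ η ⟨t, ht, h⟩ => by
      show S.c χ ξ.1 = S.c χ η.1
      rw [← h, S.c_cj ht]
  have hcΩ : ∀ χ (ξ : A), cΩ χ (Quotient.mk S.orbitSetoid ξ) = S.c χ ξ.1 := fun χ ξ => rfl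
  set s : Finset (IrrCharacter G) := {χ | χ ∈ S.B} with hs
  have hgram : ∀ k l, ∑ χ ∈ s, cΩ χ k * cΩ χ l = (if k = l then 1 else 0) + (S.e : ℤ) := by
    intro k l
    obtain ⟨ξ, rfl⟩ := Quotient.exists_rep k
    obtain ⟨η, rfl⟩ := Quotient.exists_rep l
    have h := S.gram_c ξ.2.1 ξ.2.2 η.2.1 η.2.2
    have hcount : (Nat.card {t : S.T // S.cj (t : G) ξ.1 = η.1} : ℂ) =
        (Nat.card S.C : ℂ) * if Quotient.mk S.orbitSetoid ξ = Quotient.mk S.orbitSetoid η then 1 else 0 := by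
      by_cases he : Quotient.mk S.orbitSetoid ξ = Quotient.mk S.orbitSetoid η
      · rw [if_pos he, mul_one, S.card_fix ξ.2.1 ξ.2.2 (Quotient.exact he)]
      · haveI : IsEmpty {t : S.T // S.cj (t : G) ξ.1 = η.1} :=
          ⟨fun t => he (Quotient.sound ⟨(t.1 : G), t.1.2, t.2⟩)⟩
        rw [if_neg he, mul_zero, Nat.card_of_isEmpty, Nat.cast_zero]
    rw [hcount, S.card_T, Nat.cast_mul, mul_comm (S.e : ℂ), ← mul_add] at h
    have h' := mul_left_cancel₀ (Nat.cast_ne_zero.mpr Nat.card_pos.ne') h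
    have h2 : ((∑ χ ∈ s, cΩ χ (Quotient.mk S.orbitSetoid ξ) * cΩ χ (Quotient.mk S.orbitSetoid η) : ℤ) : ℂ) =
        (((if Quotient.mk S.orbitSetoid ξ = Quotient.mk S.orbitSetoid η then 1 else 0) + (S.e : ℤ) : ℤ) : ℂ) := by
      push_cast
      refine Eq.trans ?_ (h'.trans ?_)
      · exact Finset.sum_congr rfl fun χ _ => rfl
      · rfl
    exact_mod_cast h2
  have hne : ∀ χ ∈ s, ∃ k, cΩ χ k ≠ 0 := fun χ hχ => by
    obtain ⟨ξ, hξ, hξθ, hc⟩ := S.exists_c_ne_zero (Finset.mem_filter.mp hχ).2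
    exact ⟨Quotient.mk S.orbitSetoid ⟨ξ, hξ, hξθ⟩, hc⟩
  have hscard : s.card = Nat.card S.B := by
    rw [hs, ← Fintype.card_subtype, ← Nat.card_eq_fintype_card]
  -- the number of characters
  have hcard : S.e + Fintype.card Ω ≤ s.card := by
    let Φ : (s → ℂ) →ₗ[ℂ] (G → ℂ) :=
      Fintype.linearCombination ℂ fun χ : s => pRegularPart p ((χ : IrrCharacter G) : G → ℂ)
    have hrange : LinearMap.range Φ =
        Submodule.span ℂ ((fun χ : IrrCharacter G => pRegularPart p (χ : G → ℂ)) '' S.B) := by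
      rw [Fintype.range_linearCombination]
      congr 1
      ext f
      simp [hs]
    let colv : Ω → (s → ℂ) := fun k χ => (cΩ χ.1 k : ℂ)
    have hcolker : ∀ k, colv k ∈ LinearMap.ker Φ := fun k => by
      obtain ⟨ξ, rfl⟩ := Quotient.exists_rep k
      rw [LinearMap.mem_ker, Fintype.linearCombination_apply]
      funext g
      rw [Finset.sum_apply, Pi.zero_apply]
      by_cases hg : IsPRegular p g
      · refine Eq.trans ?_ (S.sum_c_mul_regular ξ.2.1 hg)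
        simp only [colv, hcΩ]
        rw [Finset.sum_coe_sort s (fun χ => ((S.c χ ξ.1 : ℂ) • pRegularPart p (χ : G → ℂ)) g)]
        exact Finset.sum_congr rfl fun χ _ => by
          simp [pRegularPart_eq_regPart, regPart_of_regular hg]
      · refine Finset.sum_eq_zero fun χ _ => ?_
        simp [pRegularPart_eq_regPart, regPart_of_singular hg]
    have hcolli : LinearIndependent ℂ colv := by
      rw [Fintype.linearIndependent_iff]
      intro α hα
      have hα' : ∀ χ ∈ s, ∑ k, α k * (cΩ χ k : ℂ) = 0 := fun χ hχ => by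
        have := congrFun hα ⟨χ, hχ⟩
        simpa [colv, Finset.sum_apply] using this
      have hg' : ∀ k l, ∑ χ ∈ s, (cΩ χ k : ℂ) * (cΩ χ l : ℂ) =
          (if k = l then 1 else 0) + (S.e : ℂ) := fun k l => by
        have := hgram k l
        have h2 : ((∑ χ ∈ s, cΩ χ k * cΩ χ l : ℤ) : ℂ) =
            ((((if k = l then 1 else 0) + (S.e : ℤ)) : ℤ) : ℂ) := by rw [this]
        push_cast at h2
        exact h2
      have hlin : ∀ l, α l + (S.e : ℂ) * ∑ k, α k = 0 := fun l => by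
        have h0 : ∑ χ ∈ s, (∑ k, α k * (cΩ χ k : ℂ)) * (cΩ χ l : ℂ) = 0 :=
          Finset.sum_eq_zero fun χ hχ => by rw [hα' χ hχ, zero_mul]
        simp only [Finset.sum_mul, mul_assoc] at h0
        rw [Finset.sum_comm] at h0
        simp only [← Finset.mul_sum, hg', mul_add, Finset.sum_add_distrib, mul_ite, mul_one,
          mul_zero, Finset.sum_ite_eq', Finset.mem_univ, if_true] at h0
        rw [← h0, Finset.mul_sum, Finset.sum_ite_eq', if_pos (Finset.mem_univ _)]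
        congr 1
        exact Finset.sum_congr rfl fun k _ => mul_comm _ _
      have hsum : ((1 : ℂ) + (Fintype.card Ω : ℂ) * S.e) * ∑ k, α k = 0 := by
        have := Finset.sum_eq_zero (s := Finset.univ) fun l _ => hlin l
        rw [Finset.sum_add_distrib, Finset.sum_const, Finset.card_univ, nsmul_eq_mul] at this
        rw [← this]; ring
      have hA0 : ∑ k, α k = 0 := (mul_eq_zero.mp hsum).resolve_left (by
        have : ((1 + Fintype.card Ω * S.e : ℕ) : ℂ) ≠ 0 := Nat.cast_ne_zero.mpr (by omega)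
        push_cast at this
        exact this)
      intro l
      simpa [hA0] using hlin l
    have hker : Fintype.card Ω ≤ Module.finrank ℂ (LinearMap.ker Φ) := by
      rw [← finrank_span_eq_card hcolli]
      exact Submodule.finrank_mono (Submodule.span_le.mpr (by rintro _ ⟨k, rfl⟩; exact hcolker k))
    have hrk := LinearMap.finrank_range_add_finrank_ker Φ
    rw [hrange, Module.finrank_fintype_fun_eq_card, Fintype.card_coe] at hrk
    have hl := S.relIndex_le_blockRank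
    rw [blockRank] at hl
    have : S.e ≤ Module.finrank ℂ
      (Submodule.span ℂ ((fun χ : IrrCharacter G => pRegularPart p (χ : G → ℂ)) '' S.B)) := hl
    omega
  obtain ⟨X, Y, ν, w, hdisj, hXY, hXcard, hYcard, hw, hX, hY, hinj⟩ :=
    rows_structure s cΩ S.e hne hgram hcard
  have hXs : ∀ χ ∈ X, χ ∈ s := fun χ h => hXY ▸ Finset.mem_union_left _ h
  have hYs : ∀ χ ∈ Y, χ ∈ s := fun χ h => hXY ▸ Finset.mem_union_right _ h
  -- the relation
  have hrel : ∀ ψ ∈ Y, ∀ g, IsPRegular p g →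
      (w ψ : ℂ) * (ψ : G → ℂ) g + ∑ χ ∈ X, (w χ : ℂ) * (χ : G → ℂ) g = 0 := by
    intro ψ hψ g hg
    have h := S.sum_c_mul_regular (ξ := (Quotient.out (ν ψ)).1) (Quotient.out (ν ψ)).2.1 hg
    have hc : ∀ χ, S.c χ (Quotient.out (ν ψ)).1 = cΩ χ (ν ψ) := fun χ => by
      rw [← hcΩ, Quotient.out_eq]
    rw [show (Finset.univ.filter fun χ => χ ∈ S.B) = X ∪ Y from hXY.symm,
      Finset.sum_union hdisj, Finset.sum_eq_single_of_mem (s := Y) ψ hψ fun χ hχ hne' => by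
        rw [hc, hY χ hχ, if_neg fun e => hne' (hinj hχ hψ e.symm), Int.cast_zero, zero_mul],
      hc, hY ψ hψ, if_pos rfl, Finset.sum_congr rfl fun χ hχ => by rw [hc, hX χ hχ]] at h
    rw [← h]; ring
  have hYne : Y.Nonempty := Finset.card_pos.mp (by rw [hYcard]; exact Fintype.card_pos)
  obtain ⟨ψ₀, hψ₀⟩ := hYne
  have hall : ∀ ψ ∈ Y, w ψ = w ψ₀ := by
    intro ψ hψ
    have h1 : IsPRegular p (1 : G) := isPRegular_one S.hM.1
    have e1 := hrel ψ hψ 1 h1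
    have e2 := hrel ψ₀ hψ₀ 1 h1
    have d1 := irr_degree_eq ψ
    have d2 := irr_degree_eq ψ₀
    have h : (w ψ : ℂ) * (charDegree (ψ : G → ℂ) : ℂ) = (w ψ₀ : ℂ) * (charDegree (ψ₀ : G → ℂ) : ℂ) := by
      rw [← d1.1, ← d2.1]; linear_combination e1 - e2
    have h' : w ψ * (charDegree (ψ : G → ℂ) : ℤ) = w ψ₀ * (charDegree (ψ₀ : G → ℂ) : ℤ) := by
      exact_mod_cast h
    have p1 : (0 : ℤ) < (charDegree (ψ : G → ℂ) : ℤ) := by exact_mod_cast d1.2
    have p2 : (0 : ℤ) < (charDegree (ψ₀ : G → ℂ) : ℤ) := by exact_mod_cast d2.2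
    rcases hw ψ (hYs ψ hψ) with a | a <;> rcases hw ψ₀ (hYs ψ₀ hψ₀) with b | b <;>
      rw [a, b] at h' ⊢ <;> omega
  refine ⟨X, Y, w, w ψ₀, fun χ => (Quotient.out (ν χ)).1, hdisj, fun χ => ?_, hXcard, ?_,
    hw ψ₀ (hYs ψ₀ hψ₀), fun χ hχ => hw χ (hXs χ hχ), fun χ hχ ξ hξ hξθ => ?_,
    fun ψ hψ => ⟨(Quotient.out (ν ψ)).2.1, (Quotient.out (ν ψ)).2.2, fun ξ hξ hξθ => ?_⟩,
    fun ψ hψ ψ' hψ' hr => hinj hψ hψ' ?_, fun ψ hψ g hg => ?_⟩
  · rw [hXY]; simp [hs]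
  · rw [hYcard, hΩdiv]
  · exact (hcΩ χ ⟨ξ, hξ, hξθ⟩).symm.trans (hX χ hχ _)
  · rw [← hcΩ ψ ⟨ξ, hξ, hξθ⟩, hY ψ hψ, hall ψ hψ]
    refine if_congr ?_ rfl rfl
    conv_lhs => rw [← Quotient.out_eq (ν ψ)]
    constructor
    · intro h
      exact S.orbitSetoid.iseqv.symm (Quotient.exact h)
    · intro h
      exact (Quotient.sound h).symm
  · rw [← Quotient.out_eq (ν ψ), ← Quotient.out_eq (ν ψ')]
    exact Quotient.sound hr
  · rw [← hall ψ hψ]; exact hrel ψ hψ g hg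

theorem a_of_constant {χ : IrrCharacter G} {w : ℤ}
    (h : ∀ ξ ∈ S.b, ξ ≠ S.θ → S.c χ ξ = w) {v : G} (hv : v ∈ S.P) (hv1 : v ≠ 1) :
    S.a χ v = -(w : ℂ) := by
  classical
  have h0 := S.sum_block_scal_mul_conj hv S.P.one_mem
  simp only [S.scal_one, map_one, mul_one, if_neg hv1] at h0
  rw [← Finset.add_sum_erase _ _ (show S.θ ∈ ({ξ | ξ ∈ S.b} : Finset (IrrCharacter S.C)) by
    simp [S.hθ]), S.scal_theta hv] at h0
  rw [S.a_eq_sum_c χ hv hv1, ← Finset.add_sum_erase _ _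
    (show S.θ ∈ ({ξ | ξ ∈ S.b} : Finset (IrrCharacter S.C)) by simp [S.hθ])]
  rw [Finset.sum_congr rfl (g := fun ξ => (w : ℂ) * S.scal ξ v) fun ξ hξ => by
    obtain ⟨h1, h2⟩ := Finset.mem_erase.mp hξ
    rw [h ξ (Finset.mem_filter.mp h2).2 h1], ← Finset.mul_sum, c, sub_self, Int.cast_zero, zero_mul,
    zero_add]
  linear_combination (w : ℂ) * h0

/-- Constant rows: the values on the nontrivial sections. -/
theorem value_of_constant {χ : IrrCharacter G} (hχ : χ ∈ S.B) {w : ℤ}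
    (h : ∀ ξ ∈ S.b, ξ ≠ S.θ → S.c χ ξ = w) {v : G} (hv : v ∈ S.P) (hv1 : v ≠ 1) :
    (χ : G → ℂ) v = -(w : ℂ) *
      ((S.C.relIndex S.N / S.e * charDegree (S.θ : S.C → ℂ) : ℕ) : ℂ) := by
  classical
  haveI : Fintype S.C := Fintype.ofFinite _
  have hval := S.value_section hχ hv hv1 (y := 1) (isPRegular_one S.hM.1)
  rw [Subgroup.coe_one, mul_one, Finset.sum_congr rfl (g := fun _ =>
    -(w : ℂ) * (S.θ : S.C → ℂ) 1) fun g hg => by
      have hgN : g ∈ S.N := (Finset.mem_filter.mp hg).2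
      have hv' : g⁻¹ * v * g ∈ S.P := (Subgroup.mem_normalizer_iff''.mp hgN v).mp hv
      have h1 : g⁻¹ * 1 * g = 1 := by group
      rw [S.a_of_constant h hv' fun e => hv1 (by
        have := congrArg (fun z => g * z * g⁻¹) e
        simpa [mul_assoc] using this), dif_pos (by rw [h1]; exact S.C.one_mem)]
      exact congrArg (fun z => -(w : ℂ) * (S.θ : S.C → ℂ) z) (Subtype.ext h1),
    Finset.sum_const, nsmul_eq_mul, ← Fintype.card_subtype, ← Nat.card_eq_fintype_card] at hval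
  refine mul_left_cancel₀ (Nat.cast_ne_zero.mpr (Nat.card_pos (α := S.T)).ne') (hval.trans ?_)
  rw [show Nat.card {g // g ∈ S.N} = S.C.relIndex S.N / S.e * Nat.card S.T from S.card_N_div,
    (irr_degree_eq S.θ).1]
  push_cast
  ring

theorem modEq_of_res {χ : IrrCharacter G} {v : G} (hv : v ∈ S.P) {n : ℤ}
    (h : (χ : G → ℂ) v = (n : ℂ)) : (charDegree (χ : G → ℂ) : ℤ) ≡ n [ZMOD p] := by
  have := isPrime_of_isPModular S.hM
  have h1 := res_value_mul_pElement S.hM χ.2 (Commute.one_right v) (S.orderOf_pow hv)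
  rw [mul_one, h, (irr_degree_eq χ).1, ← Int.cast_natCast] at h1
  have hd := (memLocalIdeal_intCast_iff S.hM (n := n - charDegree (χ : G → ℂ))).mp (by
    push_cast
    exact (res_eq_iff (memLocalRing_intCast _) (memLocalRing_natCast _)).mp (by simpa using h1))
  exact Int.modEq_iff_dvd.mpr hd

/-- Degrees and the relation. -/
theorem structure_block :
    S.e ∣ p - 1 ∧ ∃ (X Y : Finset (IrrCharacter G)) (δ : IrrCharacter G → ℤ) (ε : ℤ),
      Disjoint X Y ∧ (∀ χ, χ ∈ S.B ↔ χ ∈ X ∪ Y) ∧ X.card = S.e ∧ Y.card = (p - 1) / S.e ∧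
      (ε = 1 ∨ ε = -1) ∧ (∀ χ ∈ X, δ χ = 1 ∨ δ χ = -1) ∧
      (∀ χ ∈ X, ∀ v ∈ S.P, v ≠ 1 → S.a χ v = δ χ) ∧
      (∀ χ ∈ X, (charDegree (χ : G → ℂ) : ℤ) ≡
        δ χ * ((S.C.relIndex S.N / S.e * charDegree (S.θ : S.C → ℂ) : ℕ) : ℤ) [ZMOD p]) ∧
      (∀ ψ ∈ Y, (charDegree (ψ : G → ℂ) : ℤ) ≡
        ε * ((S.C.relIndex S.N * charDegree (S.θ : S.C → ℂ) : ℕ) : ℤ) [ZMOD p]) ∧
      (∀ ψ ∈ Y, ∀ g, IsPRegular p g →
        (ε : ℂ) * (ψ : G → ℂ) g = ∑ χ ∈ X, (δ χ : ℂ) * (χ : G → ℂ) g) ∧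
      ∀ ψ ∈ Y, ∀ ψ' ∈ Y, ∀ g, IsPRegular p g → (ψ : G → ℂ) g = (ψ' : G → ℂ) g := by
  classical
  obtain ⟨hdvd, X, Y, w, ε, ν, hdisj, hmem, hXc, hYc, hε, hw, hX, -, -, hrel⟩ := S.structure_rows
  haveI : Nontrivial S.P := by
    rw [← Finite.one_lt_card_iff_nontrivial, S.hP]; exact S.hM.1.one_lt
  obtain ⟨⟨v, hv⟩, hv1⟩ := exists_ne (1 : S.P)
  replace hv1 : v ≠ 1 := fun h => hv1 (Subtype.ext h)
  have hXB : ∀ χ ∈ X, χ ∈ S.B := fun χ h => (hmem χ).mpr (Finset.mem_union_left _ h)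
  set K := S.C.relIndex S.N / S.e * charDegree (S.θ : S.C → ℂ) with hK
  have hXdeg : ∀ χ ∈ X, (charDegree (χ : G → ℂ) : ℤ) ≡ -(w χ) * (K : ℤ) [ZMOD p] := fun χ hχ =>
    S.modEq_of_res hv (by rw [S.value_of_constant (hXB χ hχ) (hX χ hχ) hv hv1, Int.cast_mul, Int.cast_neg, Int.cast_natCast])
  have hrel' : ∀ ψ ∈ Y, ∀ g, IsPRegular p g →
      (ε : ℂ) * (ψ : G → ℂ) g = ∑ χ ∈ X, ((-w χ : ℤ) : ℂ) * (χ : G → ℂ) g := fun ψ hψ g hg => by
    simp only [Int.cast_neg, neg_mul, Finset.sum_neg_distrib]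
    linear_combination hrel ψ hψ g hg
  refine ⟨hdvd, X, Y, fun χ => -w χ, ε, hdisj, hmem, hXc, hYc, hε,
    fun χ hχ => by rcases hw χ hχ with h | h <;> simp [h],
    fun χ hχ u hu hu1 => by rw [S.a_of_constant (hX χ hχ) hu hu1]; push_cast; rfl,
    hXdeg, fun ψ hψ => ?_, hrel', fun ψ hψ ψ' hψ' g hg => ?_⟩
  · have h := hrel' ψ hψ 1 (isPRegular_one S.hM.1)
    rw [(irr_degree_eq ψ).1, Finset.sum_congr rfl fun χ _ => by rw [(irr_degree_eq χ).1]] at h
    have h' : ε * (charDegree (ψ : G → ℂ) : ℤ) = ∑ χ ∈ X, -w χ * (charDegree (χ : G → ℂ) : ℤ) := by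
      exact_mod_cast h
    have hsum : ∑ χ ∈ X, -w χ * (charDegree (χ : G → ℂ) : ℤ) ≡
        ∑ χ ∈ X, (K : ℤ) [ZMOD p] := by
      refine Int.ModEq.sum fun χ hχ => ?_
      have := (hXdeg χ hχ).mul_left (-w χ)
      rw [← mul_assoc, show -w χ * -w χ = 1 by rcases hw χ hχ with h | h <;> simp [h], one_mul]
        at this
      exact this
    rw [← h', Finset.sum_const, hXc, nsmul_eq_mul] at hsum
    have := hsum.mul_left ε
    rw [← mul_assoc, show ε * ε = 1 by rcases hε with h | h <;> simp [h], one_mul] at this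
    refine this.trans ?_
    rw [hK, ← Nat.cast_mul, ← mul_assoc, Nat.mul_div_cancel' S.e_dvd_f]
  · have h1 := hrel' ψ hψ g hg
    have h2 := hrel' ψ' hψ' g hg
    exact mul_left_cancel₀ (show (ε : ℂ) ≠ 0 by rcases hε with h | h <;> simp [h]) (h1.trans h2.symm)

end Setup

end CfsgLib.Blocks.PrimeDefect
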