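import Cfsg.Agent.Lib.Blocks.PrimeDefect.Main
import Cfsg.Agent.Lib.Blocks.PairConj
import Cfsg.Agent.S4652

/-!
# The principal block of a group with a Sylow subgroup of prime order
-/

set_option autoImplicit false
set_option linter.unusedSectionVars false
set_option linter.style.haveILetI false

namespace CfsgLib.Blocks.PrimeDefect

open Cfsg
open scoped ComplexConjugate CfsgLib.Char
open CfsgLib

variable {G : Type*} [Group G] [Fintype G] {p : ℕ} [Fact p.Prime] {M : Ideal AlgInt}

theorem not_dvd_index_of_sylow (P : Sylow p G) : ¬ p ∣ (P : Subgroup G).index := P.not_dvd_index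

/-- The data of the principal block. -/
noncomputable def principalSetup (hM : IsPModular p M) (P : Sylow p G)
    (hP : Nat.card P = p) : Setup G p M where
  hM := hM
  P := P
  hP := hP
  hidx := not_dvd_index_of_sylow P
  B := principalBlock M G
  hB := haveI := isPrime_of_isPModular hM; isPBlock_principalBlock
  hBP := (Cfsg.Agent.S4652.result p M hM (P : Subgroup G)).mpr ⟨P, rfl⟩
  b := principalBlock M (Subgroup.centralizer ((P : Subgroup G) : Set G))
  hind := by
    classical
    haveI : Nontrivial (P : Subgroup G) := by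
      rw [← Finite.one_lt_card_iff_nontrivial]
      exact hP.symm ▸ (Fact.out : p.Prime).one_lt
    obtain ⟨⟨x, hx⟩, hx1⟩ := exists_ne (1 : (P : Subgroup G))
    have hx1' : x ≠ 1 := fun h => hx1 (Subtype.ext h)
    have hord : orderOf x = p := by
      have h := orderOf_dvd_natCard (⟨x, hx⟩ : (P : Subgroup G))
      rw [show Nat.card (P : Subgroup G) = p from hP, Subgroup.orderOf_mk] at h
      exact ((Nat.dvd_prime Fact.out).mp h).resolve_left fun h' => hx1' (orderOf_eq_one_iff.mp h')
    have hz : Subgroup.zpowers x = (P : Subgroup G) :=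
      Subgroup.eq_of_le_of_card_ge (Subgroup.zpowers_le.mpr hx)
        (by rw [Nat.card_zpowers, hord]; exact hP.le)
    have hC : Subgroup.centralizer ((P : Subgroup G) : Set G) = Subgroup.centralizer ({x} : Set G) := by
      refine le_antisymm (Subgroup.centralizer_le (Set.singleton_subset_iff.mpr hx)) fun c hc => ?_
      refine Subgroup.mem_centralizer_iff.mpr fun q hq => ?_
      rw [← hz] at hq
      obtain ⟨i, rfl⟩ := Subgroup.mem_zpowers_iff.mp hq
      exact (Commute.zpow_left (Subgroup.mem_centralizer_singleton_iff.mp hc :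
        Commute c x).symm i).eq
    revert hC
    generalize Subgroup.centralizer ((P : Subgroup G) : Set G) = H
    rintro rfl
    haveI : Fintype (Subgroup.centralizer ({x} : Set G)) := Fintype.ofFinite _
    exact (isInducedBlock_centralizer_principal_iff hM ⟨1, by rw [hord, pow_one]⟩ _).mpr rfl
  θ := trivIrr _
  hθ := haveI := isPrime_of_isPModular hM; trivIrr_mem_principalBlock _
  hθP := fun _ _ => rfl

theorem principal_T (hM : IsPModular p M) (P : Sylow p G) (hP : Nat.card P = p) :
    (principalSetup hM P hP).T = (principalSetup hM P hP).N := by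
  set S := principalSetup hM P hP
  refine le_antisymm S.T_le_N fun g hg => ⟨hg, (S.eq_cj hg fun c c' _ => rfl).symm⟩

theorem principal_degree (hM : IsPModular p M) (P : Sylow p G) (hP : Nat.card P = p) :
    charDegree ((principalSetup hM P hP).θ : (principalSetup hM P hP).C → ℂ) = 1 := by
  show ⌊((1 : ℂ)).re⌋₊ = 1
  simp

theorem principal_f (hM : IsPModular p M) (P : Sylow p G) (hP : Nat.card P = p) :
    (principalSetup hM P hP).C.relIndex (principalSetup hM P hP).N /
      (principalSetup hM P hP).e = 1 := by
  have h := (principalSetup hM P hP).e_pos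
  rw [Setup.e, principal_T hM P hP] at h ⊢
  exact Nat.div_self h

/-- The value on a section in the principal block. -/
theorem principal_value (hM : IsPModular p M) (P : Sylow p G) (hP : Nat.card P = p)
    {χ : IrrCharacter G} (hχ : χ ∈ principalBlock M G) {δ : ℤ}
    (hδ : ∀ v ∈ (P : Subgroup G), v ≠ 1 → (principalSetup hM P hP).a χ v = δ)
    {v : G} (hv : v ∈ (P : Subgroup G)) (hv1 : v ≠ 1) {y : G}
    (hy : y ∈ Subgroup.centralizer ((P : Subgroup G) : Set G)) (hyr : ¬ p ∣ orderOf y) :
    (χ : G → ℂ) (v * y) = δ := by
  classical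
  set S := principalSetup hM P hP with hS
  have hval := S.value_section hχ hv hv1 (y := ⟨y, hy⟩)
    (by rw [IsPRegular, ← Subgroup.orderOf_coe]; exact hyr)
  rw [Finset.sum_congr rfl (g := fun _ => (δ : ℂ)) fun g hg => by
    have hgN : g ∈ S.N := (Finset.mem_filter.mp hg).2
    have hyC : g⁻¹ * y * g ∈ S.C := by
      have := (S.conj_C_iff (inv_mem hgN) y).mpr hy
      rwa [inv_inv] at this
    rw [dif_pos hyC, hδ _ ((Subgroup.mem_normalizer_iff''.mp hgN v).mp hv) fun e => hv1 (by
      have := congrArg (fun z => g * z * g⁻¹) e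
      simpa [mul_assoc] using this)]
    exact mul_one _,
    Finset.sum_const, nsmul_eq_mul, ← Fintype.card_subtype, ← Nat.card_eq_fintype_card] at hval
  have hTN : Nat.card {g // g ∈ S.N} = Nat.card S.T := by rw [hS, principal_T hM P hP]
  rw [hTN] at hval
  exact mul_left_cancel₀ (Nat.cast_ne_zero.mpr (Nat.card_pos (α := S.T)).ne') hval

end CfsgLib.Blocks.PrimeDefect
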