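import Cfsg.Agent.Lib.Blocks.PrimeDefect.Setting
import Cfsg.Agent.Lib.Blocks.SectionOrth
import Cfsg.Agent.Lib.Blocks.Rank

/-!
# The rows of a block with a Sylow defect group of order `p` on the nontrivial sections

`a χ v` is the coefficient of `θ` in the `b`-part of `y ↦ χ (v y)`; `c χ ξ` its integral Fourier
coefficients along the members `ξ ≠ θ` of `b`.
-/

set_option autoImplicit false
set_option linter.unusedSectionVars false
set_option linter.style.haveILetI false

namespace CfsgLib.Blocks.PrimeDefect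

open Cfsg
open scoped ComplexConjugate CfsgLib.Char
open CfsgLib

variable {G : Type*} [Group G] [Fintype G]

section Vanish

variable {p : ℕ} {M : Ideal AlgInt} (hM : IsPModular p M) {x : G}
  (hx : ∃ k : ℕ, orderOf x = p ^ k) {H : Subgroup G} [Fintype H]
  (hH : H = Subgroup.centralizer ({x} : Set G))
include hM hx hH

/-- Block parts on the section of `x` against a value outside the section. -/
theorem sum_blockPart_mul_conj_outside {B : Set (IrrCharacter G)} (hB : IsPBlock M B)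
    [DecidablePred (· ∈ B)] {b : Set (IrrCharacter H)} (hb : IsInducedBlock M H b B)
    {y : H} (hy : IsPRegular p y) {g : G}
    (hne : ∀ k : H, IsPRegular p k → ¬ IsConj (x * (k : G)) g) :
    ∑ χ : IrrCharacter G with χ ∈ B,
      blockPart b (fun k : H => (χ : G → ℂ) (x * (k : G))) y * conj ((χ : G → ℂ) g) = 0 := by
  subst hH
  classical
  have := isPrime_of_isPModular hM
  have hθ : ∀ χ : IrrCharacter G, IsClassFunction (Subgroup.centralizer ({x} : Set G))
      (fun k : Subgroup.centralizer ({x} : Set G) => (χ : G → ℂ) (x * (k : G))) :=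
    fun χ => isClassFunction_translate (x := x) (irr_classFunction χ)
  set θ : Subgroup.centralizer ({x} : Set G) → ℂ :=
    fun k => ∑ χ : IrrCharacter G, (χ : G → ℂ) (x * (k : G)) * conj ((χ : G → ℂ) g)
  have hc : IsClassFunction (Subgroup.centralizer ({x} : Set G)) θ := fun k a =>
    Finset.sum_congr rfl fun χ _ => by have := hθ χ k a; beta_reduce at this; rw [this]
  rw [Finset.sum_subset (Finset.subset_univ _) fun χ _ hχ => ?_]
  · have h := blockPart_eq_zero_of_regular_zero hM hb.1 (θ := θ) (fun k hk => by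
      simp only [θ, Char.column_orthogonality]
      rw [if_neg (hne k hk)]) (y := y) hy
    rw [blockPart_eq_sum b hc] at h
    simp only [θ, Finset.mul_sum] at h
    rw [Finset.sum_comm] at h
    rw [← h]
    refine Finset.sum_congr rfl fun χ _ => ?_
    rw [blockPart_eq_sum b (hθ χ), Finset.sum_mul]
    exact Finset.sum_congr rfl fun k _ => mul_assoc _ _ _
  · have hχB : χ ∉ B := fun h' => hχ (by simp [h'])
    rw [blockPart_eq_zero_of_not_induced hM hx (isPBlock_blockOf χ) (mem_blockOf_self χ) hb.1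
      (fun h' => hχB (IsInducedBlock.unique hb h' ▸ mem_blockOf_self χ)) hy, zero_mul]

theorem sum_blockPart_mul_conj_blockPart' {B : Set (IrrCharacter G)} (hB : IsPBlock M B)
    [DecidablePred (· ∈ B)] {b e : Set (IrrCharacter H)} [DecidablePred (· ∈ b)]
    [DecidablePred (· ∈ e)] (hb : IsInducedBlock M H b B) (he : IsPBlock M e)
    {y y' : H} (hy : IsPRegular p y) (hy' : IsPRegular p y') :
    ∑ χ : IrrCharacter G with χ ∈ B,
        blockPart b (fun k : H => (χ : G → ℂ) (x * (k : G))) y *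
          conj (blockPart e (fun k : H => (χ : G → ℂ) (x * (k : G))) y') =
      ∑ ξ : IrrCharacter H with ξ ∈ b ∧ ξ ∈ e, (ξ : H → ℂ) y * conj ((ξ : H → ℂ) y') := by
  subst hH
  classical
  convert sum_blockPart_mul_conj_blockPart hM hx hB hb he hy hy' using 0

theorem exists_blockPart_ne_zero' {B : Set (IrrCharacter G)} {χ : IrrCharacter G}
    (hχ : χ ∈ B) (h0 : blockHeight p B (χ : G → ℂ) = 0)
    {b : Set (IrrCharacter H)} (hb : IsInducedBlock M H b B) :
    ∃ y : H, IsPRegular p y ∧ blockPart b (fun c : H => (χ : G → ℂ) (x * (c : G))) y ≠ 0 := by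
  subst hH
  exact exists_blockPart_ne_zero_of_height_zero hM hx hχ h0 hb

theorem value_eq_sum' {B : Set (IrrCharacter G)} (hB : IsPBlock M B) {χ : IrrCharacter G}
    (hχ : χ ∈ B) {y : H} (hy : IsPRegular p y) (S : Finset (Set (IrrCharacter H)))
    (hS : ∀ b, b ∈ S ↔ IsInducedBlock M H b B) :
    (χ : G → ℂ) (x * (y : G)) =
      ∑ b ∈ S, blockPart b (fun c : H => (χ : G → ℂ) (x * (c : G))) y := by
  subst hH
  exact value_eq_sum_inducing_blocks hM hx hB hχ hy S hS

end Vanish

namespace Setup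

variable {p : ℕ} {M : Ideal AlgInt} (S : Setup G p M)

/-- Restriction to `C`. -/
def restrC (χ : IrrCharacter G) : S.C → ℂ := fun k => (χ : G → ℂ) (k : G)

/-- Multiplicities in the restriction to `C`. -/
noncomputable def mult (χ : IrrCharacter G) : IrrCharacter S.C → ℕ :=
  haveI : Fintype S.C := Fintype.ofFinite _
  (Char.exists_multiplicities (Char.isCharacter_restrict S.C
    (Char.isCharacter_of_isIrr χ.2))).choose

theorem mult_spec [Fintype S.C] (χ : IrrCharacter G) (k : S.C) :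
    (χ : G → ℂ) (k : G) = ∑ ξ : IrrCharacter S.C, (S.mult χ ξ : ℂ) * (ξ : S.C → ℂ) k := by
  classical
  unfold mult
  obtain rfl := Subsingleton.elim ‹Fintype S.C› (Fintype.ofFinite _)
  have h := congrFun (Char.exists_multiplicities (Char.isCharacter_restrict S.C
    (Char.isCharacter_of_isIrr χ.2))).choose_spec k
  simpa [Finset.sum_apply] using h

theorem restrC_eq [Fintype S.C] (χ : IrrCharacter G) :
    S.restrC χ = ∑ ξ : IrrCharacter S.C, (S.mult χ ξ : ℂ) • (ξ : S.C → ℂ) := funext fun k => by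
  rw [restrC, S.mult_spec, Finset.sum_apply]
  rfl

theorem mult_cj {g : G} (hg : g ∈ S.N) (χ : IrrCharacter G) (ξ : IrrCharacter S.C) :
    S.mult χ (S.cj g ξ) = S.mult χ ξ := by
  classical
  haveI : Fintype S.C := Fintype.ofFinite _
  have h : ∀ η : IrrCharacter S.C, classInner (S.restrC χ) (η : S.C → ℂ) = (S.mult χ η : ℂ) :=
    fun η => by rw [S.restrC_eq, Char.classInner_sum_smul_irr]
  have e : classInner (S.restrC χ) (S.cj g ξ : S.C → ℂ) = classInner (S.restrC χ) (ξ : S.C → ℂ) := by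
    rw [classInner, classInner]
    congr 1
    symm
    refine Fintype.sum_equiv (conjIso (S.conj_C_iff hg)).toEquiv _ _ fun c => ?_
    simp only [MulEquiv.toEquiv_eq_coe, EquivLike.coe_coe]
    rw [S.cj_apply hg ξ (c := c) (c' := conjIso (S.conj_C_iff hg) c) rfl, restrC, restrC,
      show ((conjIso (S.conj_C_iff hg) c : S.C) : G) = g * c * g⁻¹ from rfl, irr_classFunction χ]
  rw [h, h] at e
  exact_mod_cast e

open Classical in
/-- The coefficient of `θ` on the section of `v`. -/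
noncomputable def a (χ : IrrCharacter G) (v : G) : ℂ :=
  ∑ ξ : IrrCharacter S.C with ξ ∈ S.b, (S.mult χ ξ : ℂ) * S.scal ξ v

theorem part_eq [Fintype S.C] {g : G} (hg : g ∈ S.N) (χ : IrrCharacter G) {v : G} (hv : v ∈ S.P)
    {y y' : S.C} (hy : IsPRegular p y) (hy' : (y' : G) = g * y * g⁻¹) :
    blockPart (S.cj g '' S.b) (fun k : S.C => (χ : G → ℂ) (g * v * g⁻¹ * (k : G))) y' =
      S.a χ v * (S.θ : S.C → ℂ) y := by
  classical
  set w : S.C := ⟨g * v * g⁻¹, S.P_le_C (S.conj_P hg hv)⟩ with hw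
  have hf : (fun k : S.C => (χ : G → ℂ) (g * v * g⁻¹ * (k : G))) =
      ∑ η : IrrCharacter S.C, ((S.mult χ η : ℂ) * S.scal η (g * v * g⁻¹)) • (η : S.C → ℂ) := by
    funext k
    rw [show g * v * g⁻¹ * (k : G) = ((w * k : S.C) : G) from rfl, S.mult_spec, Finset.sum_apply]
    refine Finset.sum_congr rfl fun η _ => ?_
    rw [S.value_mul η (v := w) (S.conj_P hg hv), Pi.smul_apply, smul_eq_mul, mul_assoc]
  have himg : Finset.univ.filter (fun η => η ∈ S.cj g '' S.b) =
      (Finset.univ.filter fun ξ => ξ ∈ S.b).image (S.cj g) := by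
    ext η; simp [Set.mem_image]
  rw [blockPart_eq_filter, hf, himg, Finset.sum_image fun _ _ _ _ h => S.cj_injective hg h, a,
    Finset.sum_mul]
  refine Finset.sum_congr rfl fun ξ hξ => ?_
  rw [Char.classInner_sum_smul_irr, S.mult_cj hg, S.scal_cj hg ξ hv, S.cj_apply hg ξ hy',
    S.value_mem_b (Finset.mem_filter.mp hξ).2 hy]

theorem part_base [Fintype S.C] (χ : IrrCharacter G) {v : G} (hv : v ∈ S.P) {y : S.C}
    (hy : IsPRegular p y) :
    blockPart S.b (fun k : S.C => (χ : G → ℂ) (v * (k : G))) y = S.a χ v * (S.θ : S.C → ℂ) y := by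
  have himg : S.cj 1 '' S.b = S.b := S.image_cj_eq S.T.one_mem
  have h := S.part_eq (g := 1) (one_mem _) χ hv (y := y) (y' := y) hy (by simp)
  rw [himg] at h
  simpa using h

theorem isPRegular_one {H : Type*} [Group H] (hp : p.Prime) : IsPRegular p (1 : H) := by
  rw [IsPRegular, orderOf_one, Nat.dvd_one]; exact hp.ne_one

/-- The Gram matrix of the coefficients. -/
theorem gram_a [DecidablePred (· ∈ S.B)] {v w : G} (hv : v ∈ S.P) (hv1 : v ≠ 1) (hw : w ∈ S.P)
    (hw1 : w ≠ 1) :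
    ∑ χ : IrrCharacter G with χ ∈ S.B, S.a χ v * conj (S.a χ w) =
      (p : ℂ) / Nat.card S.C * Nat.card {t : S.T // (t : G) * v * (t : G)⁻¹ = w} := by
  classical
  haveI : Fintype S.C := Fintype.ofFinite _
  have hp := S.hM.1
  have h1 : IsPRegular p (1 : S.C) := isPRegular_one hp
  have hθ1 : (S.θ : S.C → ℂ) 1 * conj ((S.θ : S.C → ℂ) 1) ≠ 0 :=
    mul_ne_zero S.theta_one_ne ((map_ne_zero _).mpr S.theta_one_ne)
  by_cases hconj : ∃ g, g * v * g⁻¹ = w
  · obtain ⟨g, rfl⟩ := hconj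
    have hgN : g ∈ S.N := S.mem_N_of_conj hv hv1 hw
    have hgi : g⁻¹ ∈ S.N := inv_mem hgN
    have hpart : ∀ χ : IrrCharacter G,
        blockPart (S.cj g⁻¹ '' S.b) (fun k : S.C => (χ : G → ℂ) (v * (k : G))) 1 =
          S.a χ (g * v * g⁻¹) * (S.θ : S.C → ℂ) 1 := fun χ => by
      have h := S.part_eq hgi χ hw (y := 1) (y' := 1) h1 (by simp)
      rwa [show g⁻¹ * (g * v * g⁻¹) * g⁻¹⁻¹ = v by group] at h
    have h := sum_blockPart_mul_conj_blockPart' S.hM (S.orderOf_pow hv) (S.centralizer_eq hv hv1)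
      S.hB (b := S.b) (e := S.cj g⁻¹ '' S.b) S.hind (S.isPBlock_cj hgi) h1 h1
    simp only [S.part_base _ hv h1, hpart, map_mul] at h
    rw [Finset.sum_congr rfl (g := fun χ => S.a χ v * conj (S.a χ (g * v * g⁻¹)) *
      ((S.θ : S.C → ℂ) 1 * conj ((S.θ : S.C → ℂ) 1))) fun χ _ => by ring, ← Finset.sum_mul] at h
    by_cases hgT : g ∈ S.T
    · rw [S.image_cj_eq (inv_mem hgT), Finset.sum_congr
        (s₁ := Finset.univ.filter fun ξ => ξ ∈ S.b ∧ ξ ∈ S.b) rfl
        (g := fun _ => (S.θ : S.C → ℂ) 1 * conj ((S.θ : S.C → ℂ) 1)) fun ξ hξ => by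
        rw [S.degree_mem_b (Finset.mem_filter.mp hξ).2.1], Finset.sum_const, nsmul_eq_mul,
        mul_left_inj' hθ1] at h
      simp only [and_self] at h
      rw [← Fintype.card_subtype, ← Nat.card_eq_fintype_card] at h
      rw [h, show Nat.card {ξ // ξ ∈ S.b} = p from S.card_b]
      have hcard : Nat.card {t : S.T // (t : G) * v * (t : G)⁻¹ = g * v * g⁻¹} = Nat.card S.C := by
        refine Nat.card_congr
          { toFun := fun t => ⟨g⁻¹ * (t.1 : G), ?_⟩
            invFun := fun c => ⟨⟨g * (c : G), mul_mem hgT (S.C_le_T c.2)⟩, ?_⟩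
            left_inv := fun t => by ext; simp
            right_inv := fun c => by ext; simp }
        · rw [S.centralizer_eq hv hv1, Subgroup.mem_centralizer_singleton_iff]
          have e := t.2
          calc g⁻¹ * (t.1 : G) * v = g⁻¹ * ((t.1 : G) * v * (t.1 : G)⁻¹) * (t.1 : G) := by group
            _ = v * (g⁻¹ * (t.1 : G)) := by rw [e]; group
        · have hc : (c : G) * v = v * (c : G) :=
            (Subgroup.mem_centralizer_iff.mp c.2 v hv).symm
          show g * (c : G) * v * (g * (c : G))⁻¹ = _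
          rw [mul_assoc g, hc]; group
      rw [hcard, div_mul_cancel₀ _ (Nat.cast_ne_zero.mpr Nat.card_pos.ne')]
    · rw [Finset.sum_eq_zero (s := Finset.univ.filter fun ξ => ξ ∈ S.b ∧ ξ ∈ S.cj g⁻¹ '' S.b)
        fun ξ hξ => ?_, mul_eq_zero, or_iff_left hθ1] at h
      · rw [h]
        haveI : IsEmpty {t : S.T // (t : G) * v * (t : G)⁻¹ = g * v * g⁻¹} := ⟨fun t => hgT (by
          have hc : g⁻¹ * (t.1 : G) ∈ S.C := by
            rw [S.centralizer_eq hv hv1, Subgroup.mem_centralizer_singleton_iff]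
            calc g⁻¹ * (t.1 : G) * v = g⁻¹ * ((t.1 : G) * v * (t.1 : G)⁻¹) * (t.1 : G) := by group
              _ = v * (g⁻¹ * (t.1 : G)) := by rw [t.2]; group
          have := mul_mem t.1.2 (inv_mem (S.C_le_T hc))
          rwa [mul_inv_rev, inv_inv, mul_inv_cancel_left] at this)⟩
        simp
      · obtain ⟨η, hη, rfl⟩ := (Finset.mem_filter.mp hξ).2.2
        exact absurd (inv_mem_iff.mp (S.mem_T_of_meet hgi hη (Finset.mem_filter.mp hξ).2.1)) hgT
  · haveI : IsEmpty {t : S.T // (t : G) * v * (t : G)⁻¹ = w} := ⟨fun t => hconj ⟨t.1, t.2⟩⟩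
    rw [Nat.card_of_isEmpty (α := {t : S.T // (t : G) * v * (t : G)⁻¹ = w}), Nat.cast_zero, mul_zero]
    -- the function on the section of `w`
    set F : S.C → ℂ := fun k => ∑ χ : IrrCharacter G with χ ∈ S.B,
      conj (S.a χ v) * (χ : G → ℂ) (w * (k : G)) with hF
    have hFc : IsClassFunction S.C F := fun k a => Finset.sum_congr rfl fun χ _ => by
      congr 1
      have hwa : w * (a : G) = (a : G) * w := Subgroup.mem_centralizer_iff.mp a.2 w hw
      show (χ : G → ℂ) (w * ((a : G) * (k : G) * (a : G)⁻¹)) = _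
      rw [show w * ((a : G) * (k : G) * (a : G)⁻¹) = (a : G) * (w * (k : G)) * (a : G)⁻¹ by
        rw [← mul_assoc, ← mul_assoc, hwa]; group, irr_classFunction χ]
    have hzero : ∀ k, IsPRegular p k → F k = 0 := fun k hk => by
      have h := sum_blockPart_mul_conj_outside S.hM (S.orderOf_pow hv) (S.centralizer_eq hv hv1)
        S.hB (b := S.b) S.hind h1 (g := w * (k : G)) fun k' hk' hc => hconj ?_
      · simp only [S.part_base _ hv h1] at h
        rw [Finset.sum_congr rfl (g := fun χ => S.a χ v * conj ((χ : G → ℂ) (w * (k : G))) *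
          (S.θ : S.C → ℂ) 1) fun χ _ => by ring, ← Finset.sum_mul, mul_eq_zero,
          or_iff_left S.theta_one_ne] at h
        have h' := congrArg conj h
        simpa [map_sum, map_mul, hF] using h'
      · have hcv : Commute v (k' : G) := Subgroup.mem_centralizer_iff.mp k'.2 v hv
        have hcw : Commute w (k : G) := Subgroup.mem_centralizer_iff.mp k.2 w hw
        obtain ⟨c, hc'⟩ := isConj_iff.mp hc
        have e1 := IsPPart.conj (isPPart_mul (p := p) hcv (S.orderOf_pow hv)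
          (by rwa [Subgroup.orderOf_coe])) c
        rw [hc'] at e1
        exact ⟨c, IsPPart.unique hp e1 (isPPart_mul hcw (S.orderOf_pow hw)
          (by rwa [Subgroup.orderOf_coe]))⟩
    have hb0 := blockPart_eq_zero_of_regular_zero S.hM S.hind.1 (θ := F) hzero (y := 1) h1
    have hFexp : F = fun k => ∑ χ : IrrCharacter G with χ ∈ S.B,
        conj (S.a χ v) * (fun k : S.C => (χ : G → ℂ) (w * (k : G))) k := rfl
    rw [blockPart_eq_sum _ hFc] at hb0
    have hw' : ∀ χ : IrrCharacter G, ∑ k : S.C, blockCoeff S.b k * (χ : G → ℂ) (w * ((k * 1 : S.C) : G)) =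
        S.a χ w * (S.θ : S.C → ℂ) 1 := fun χ => by
      rw [← S.part_base χ hw h1, blockPart_eq_sum]
      intro k a
      have hwa : w * (a : G) = (a : G) * w := Subgroup.mem_centralizer_iff.mp a.2 w hw
      show (χ : G → ℂ) (w * ((a : G) * (k : G) * (a : G)⁻¹)) = _
      rw [show w * ((a : G) * (k : G) * (a : G)⁻¹) = (a : G) * (w * (k : G)) * (a : G)⁻¹ by
        rw [← mul_assoc, ← mul_assoc, hwa]; group, irr_classFunction χ]
    simp only [hF, Finset.mul_sum] at hb0
    rw [Finset.sum_comm, Finset.sum_congr rfl (g := fun χ => conj (S.a χ v) * S.a χ w *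
      (S.θ : S.C → ℂ) 1) fun χ _ => by
        rw [mul_assoc, ← hw', Finset.mul_sum]
        exact Finset.sum_congr rfl fun k _ => by ring,
      ← Finset.sum_mul, mul_eq_zero, or_iff_left S.theta_one_ne] at hb0
    have h' := congrArg conj hb0
    simpa [map_sum, map_mul] using h'

/-- Nonvanishing. -/
theorem exists_a_ne_zero {χ : IrrCharacter G} (hχ : χ ∈ S.B) {v : G} (hv : v ∈ S.P) (hv1 : v ≠ 1) :
    S.a χ v ≠ 0 := by
  classical
  haveI : Fintype S.C := Fintype.ofFinite _
  have h0 : blockHeight p S.B (χ : G → ℂ) = 0 := by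
    by_contra hne
    obtain ⟨h, -⟩ := height_lt_and_sum_height_zero_le S.hM S.hB hχ hne
    have := S.defect_eq_one
    omega
  obtain ⟨y, hy, hne⟩ := exists_blockPart_ne_zero' S.hM (S.orderOf_pow hv) (S.centralizer_eq hv hv1)
    hχ h0 S.hind
  rw [S.part_base χ hv hy] at hne
  exact fun h => hne (by rw [h, zero_mul])

/-- Orthogonality to the regular elements. -/
theorem sum_a_mul_regular [DecidablePred (· ∈ S.B)] {v : G} (hv : v ∈ S.P) (hv1 : v ≠ 1) {g : G}
    (hg : IsPRegular p g) :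
    ∑ χ : IrrCharacter G with χ ∈ S.B, S.a χ v * conj ((χ : G → ℂ) g) = 0 := by
  classical
  haveI : Fintype S.C := Fintype.ofFinite _
  have h1 : IsPRegular p (1 : S.C) := isPRegular_one S.hM.1
  have h := sum_blockPart_mul_conj_outside S.hM (S.orderOf_pow hv) (S.centralizer_eq hv hv1)
    S.hB (b := S.b) S.hind h1 (g := g) fun k hk hc => hg ?_
  · simp only [S.part_base _ hv h1] at h
    rw [Finset.sum_congr rfl (g := fun χ => S.a χ v * conj ((χ : G → ℂ) g) *
      (S.θ : S.C → ℂ) 1) fun χ _ => by ring, ← Finset.sum_mul, mul_eq_zero,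
      or_iff_left S.theta_one_ne] at h
    exact h
  · obtain ⟨c, hc'⟩ := isConj_iff.mp hc
    rw [← hc', show c * (v * (k : G)) * c⁻¹ = (MulAut.conj c).toMonoidHom (v * (k : G)) by simp,
      orderOf_injective (MulAut.conj c).toMonoidHom (MulAut.conj c).injective,
      (show Commute v (k : G) from Subgroup.mem_centralizer_iff.mp k.2 v hv).orderOf_mul_eq_mul_orderOf_of_coprime
        (by
          rw [S.orderOf_mem hv hv1, Subgroup.orderOf_coe]
          exact S.hM.1.coprime_iff_not_dvd.mpr hk),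
      S.orderOf_mem hv hv1]
    exact dvd_mul_right p _

open Classical in
/-- The value of a member of `B` on a nontrivial element of `P`. -/
theorem value_section {χ : IrrCharacter G} (hχ : χ ∈ S.B) {v : G} (hv : v ∈ S.P) (hv1 : v ≠ 1)
    {y : S.C} (hy : IsPRegular p y) :
    (Nat.card S.T : ℂ) * (χ : G → ℂ) (v * (y : G)) =
      ∑ g : G with g ∈ S.N, S.a χ (g⁻¹ * v * g) *
        (if h : g⁻¹ * (y : G) * g ∈ S.C then (S.θ : S.C → ℂ) ⟨_, h⟩ else 0) := by
  haveI : Fintype S.C := Fintype.ofFinite _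
  set I : Finset (Set (IrrCharacter S.C)) :=
    (Finset.univ.filter fun g : G => g ∈ S.N).image fun g => S.cj g '' S.b with hI
  have hImem : ∀ e, e ∈ I ↔ IsInducedBlock M S.C e S.B := fun e => by
    rw [S.inducing_iff]; simp [hI]
  rw [value_eq_sum' S.hM (S.orderOf_pow hv) (S.centralizer_eq hv hv1) S.hB hχ hy I hImem,
    Finset.mul_sum, ← Finset.sum_fiberwise_of_maps_to (g := fun g => S.cj g '' S.b) (t := I)
      (fun g hg => Finset.mem_image_of_mem _ hg)]
  refine Finset.sum_congr rfl fun e he => ?_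
  obtain ⟨g₀, hg₀, rfl⟩ := Finset.mem_image.mp he
  replace hg₀ : g₀ ∈ S.N := (Finset.mem_filter.mp hg₀).2
  have hterm : ∀ g ∈ (Finset.univ.filter fun g : G => g ∈ S.N).filter
      (fun g => S.cj g '' S.b = S.cj g₀ '' S.b), S.a χ (g⁻¹ * v * g) *
        (if h : g⁻¹ * (y : G) * g ∈ S.C then (S.θ : S.C → ℂ) ⟨_, h⟩ else 0) =
      blockPart (S.cj g₀ '' S.b) (fun c : S.C => (χ : G → ℂ) (v * (c : G))) y := fun g hg => by
    simp only [Finset.mem_filter, Finset.mem_univ, true_and] at hg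
    have hyC : g⁻¹ * (y : G) * g ∈ S.C := by
      have := (S.conj_C_iff (inv_mem hg.1) (y : G)).mpr y.2
      rwa [inv_inv] at this
    have hv' : g⁻¹ * v * g ∈ S.P := (Subgroup.mem_normalizer_iff''.mp hg.1 v).mp hv
    rw [dif_pos hyC, ← hg.2]
    have h := S.part_eq hg.1 χ hv' (y := ⟨_, hyC⟩) (y' := y) (by
      rw [IsPRegular, ← Subgroup.orderOf_coe] at hy ⊢
      show ¬ p ∣ orderOf (g⁻¹ * (y : G) * g)
      rwa [show g⁻¹ * (y : G) * g = (MulAut.conj g⁻¹).toMonoidHom (y : G) by simp,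
        orderOf_injective (MulAut.conj g⁻¹).toMonoidHom (MulAut.conj g⁻¹).injective])
      (by simp [mul_assoc])
    rw [show g * (g⁻¹ * v * g) * g⁻¹ = v by group] at h
    exact h.symm
  rw [Finset.sum_congr rfl hterm, Finset.sum_const, nsmul_eq_mul]
  congr 2
  rw [← Nat.card_eq_finsetCard]
  refine Nat.card_congr
    { toFun := fun t => ⟨g₀ * (t : G), by
        simp only [Finset.mem_filter, Finset.mem_univ, true_and]
        refine ⟨mul_mem hg₀ t.2.1, ?_⟩
        conv_rhs => rw [← S.image_cj_eq t.2, Set.image_image]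
        exact Set.image_congr fun ξ _ => (S.cj_cj hg₀ t.2.1 ξ).symm⟩
      invFun := fun g => ⟨g₀⁻¹ * (g : G), ?_⟩
      left_inv := fun t => by ext; simp
      right_inv := fun g => by ext; simp }
  have hg := g.2
  simp only [Finset.mem_filter, Finset.mem_univ, true_and] at hg
  have hm : S.cj (g : G) S.θ ∈ S.cj (g : G) '' S.b := ⟨S.θ, S.hθ, rfl⟩
  rw [hg.2] at hm
  obtain ⟨ξ, hξ, hξg⟩ := hm
  refine S.mem_T_of_meet (mul_mem (inv_mem hg₀) hg.1) S.hθ ?_
  rw [← S.cj_cj (inv_mem hg₀) hg.1, ← hξg, S.cj_cj (inv_mem hg₀) hg₀, inv_mul_cancel, S.cj_one]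
  exact hξ

/-- The integral coefficient along a member of `b`. -/
noncomputable def c (χ : IrrCharacter G) (ξ : IrrCharacter S.C) : ℤ :=
  (S.mult χ ξ : ℤ) - (S.mult χ S.θ : ℤ)

theorem c_cj {t : G} (ht : t ∈ S.T) (χ : IrrCharacter G) (ξ : IrrCharacter S.C) :
    S.c χ (S.cj t ξ) = S.c χ ξ := by
  rw [c, c, S.mult_cj ht.1]

open Classical in
theorem a_eq_sum_c (χ : IrrCharacter G) {v : G} (hv : v ∈ S.P)
    (hv1 : v ≠ 1) :
    S.a χ v = ∑ ξ : IrrCharacter S.C with ξ ∈ S.b, (S.c χ ξ : ℂ) * S.scal ξ v := by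
  classical
  have h := S.sum_block_scal_mul_conj hv S.P.one_mem
  simp only [S.scal_one, map_one, mul_one, if_neg hv1] at h
  have e : ∀ ξ, (S.c χ ξ : ℂ) * S.scal ξ v =
      (S.mult χ ξ : ℂ) * S.scal ξ v - (S.mult χ S.θ : ℂ) * S.scal ξ v := fun ξ => by
    rw [c]; push_cast; ring
  rw [Finset.sum_congr rfl fun ξ _ => e ξ, Finset.sum_sub_distrib, ← Finset.mul_sum, h, mul_zero,
    sub_zero, a]

theorem exists_c_ne_zero {χ : IrrCharacter G} (hχ : χ ∈ S.B) :
    ∃ ξ ∈ S.b, ξ ≠ S.θ ∧ S.c χ ξ ≠ 0 := by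
  classical
  by_contra hno
  push Not at hno
  have hfin : Finite S.P := inferInstance
  haveI : Nontrivial S.P := by
    rw [← Finite.one_lt_card_iff_nontrivial, S.hP]; exact S.hM.1.one_lt
  obtain ⟨v, hv⟩ := exists_ne (1 : S.P)
  have hv1 : (v : G) ≠ 1 := fun e => hv (Subtype.ext e)
  refine S.exists_a_ne_zero hχ v.2 hv1 ?_
  rw [S.a_eq_sum_c χ v.2 hv1]
  refine Finset.sum_eq_zero fun ξ hξ => ?_
  rcases eq_or_ne ξ S.θ with rfl | hne
  · simp [c]
  · rw [hno ξ (Finset.mem_filter.mp hξ).2 hne, Int.cast_zero, zero_mul]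

/-- Fourier inversion. -/
theorem p_mul_c [Fintype S.P] (χ : IrrCharacter G) {ξ : IrrCharacter S.C} (hξ : ξ ∈ S.b) :
    (p : ℂ) * (S.c χ ξ : ℂ) = ∑ v : S.P, S.a χ v * (conj (S.scal ξ v) - 1) := by
  classical
  have h : ∀ η ∈ S.b, ∑ v : S.P, S.a χ v * conj (S.scal η v) = (p : ℂ) * (S.mult χ η : ℂ) := by
    intro η hη
    simp only [a, Finset.sum_mul]
    rw [Finset.sum_comm, Finset.sum_congr rfl (g := fun ζ => (S.mult χ ζ : ℂ) *
      if ζ = η then (p : ℂ) else 0) fun ζ hζ => by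
        rw [← S.sum_scal_mul_conj (Finset.mem_filter.mp hζ).2 hη, Finset.mul_sum]
        exact Finset.sum_congr rfl fun v _ => mul_assoc _ _ _,
      Finset.sum_eq_single_of_mem η (by simp [hη]) fun ζ _ hne => by rw [if_neg hne, mul_zero],
      if_pos rfl, mul_comm]
  have h0 := h S.θ S.hθ
  rw [Finset.sum_congr rfl (g := fun v : S.P => S.a χ v) fun v _ => by
    rw [S.scal_theta v.2, map_one, mul_one]] at h0
  simp only [mul_sub, mul_one, Finset.sum_sub_distrib, h ξ hξ, h0, c]
  push_cast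
  ring

theorem a_one_term [Fintype S.P] (χ : IrrCharacter G) (ξ : IrrCharacter S.C) :
    S.a χ ((1 : S.P) : G) * (conj (S.scal ξ ((1 : S.P) : G)) - 1) = 0 := by
  simp [S.scal_one]

/-- The Gram matrix of the integral coefficients, summed over `T`. -/
theorem gram_c [DecidablePred (· ∈ S.B)] {ξ η : IrrCharacter S.C} (hξ : ξ ∈ S.b) (hξθ : ξ ≠ S.θ)
    (hη : η ∈ S.b) (hηθ : η ≠ S.θ) :
    (Nat.card S.C : ℂ) * ∑ χ : IrrCharacter G with χ ∈ S.B, (S.c χ ξ : ℂ) * (S.c χ η : ℂ) =
      (Nat.card {t : S.T // S.cj (t : G) ξ = η} : ℂ) + Nat.card S.T := by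
  classical
  haveI : Fintype S.P := Fintype.ofFinite _
  haveI : Fintype S.T := Fintype.ofFinite _
  haveI : Fintype S.C := Fintype.ofFinite _
  have hp : (p : ℂ) ≠ 0 := Nat.cast_ne_zero.mpr S.hM.1.ne_zero
  have hC : (Nat.card S.C : ℂ) ≠ 0 := Nat.cast_ne_zero.mpr Nat.card_pos.ne'
  -- the kernel
  set K : S.P → S.P → ℂ := fun v w =>
    (conj (S.scal ξ v) - 1) * (S.scal η w - 1) with hK
  have hsum : ∀ χ, ((p : ℂ) * (S.c χ ξ : ℂ)) * conj ((p : ℂ) * (S.c χ η : ℂ)) =
      ∑ v : S.P, ∑ w : S.P, K v w * (S.a χ v * conj (S.a χ w)) := fun χ => by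
    rw [S.p_mul_c χ hξ, S.p_mul_c χ hη, map_sum, Finset.sum_mul_sum]
    refine Finset.sum_congr rfl fun v _ => Finset.sum_congr rfl fun w _ => ?_
    simp only [hK, map_mul, map_sub, map_one, Complex.conj_conj]
    ring
  have hgram : ∀ v w : S.P, K v w * ∑ χ : IrrCharacter G with χ ∈ S.B, S.a χ v * conj (S.a χ w) =
      K v w * ((p : ℂ) / Nat.card S.C * ∑ t : S.T,
        if (t : G) * v * (t : G)⁻¹ = w then (1 : ℂ) else 0) := by
    intro v w
    by_cases hv : (v : G) = 1
    · simp [hK, hv, S.scal_one]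
    by_cases hw : (w : G) = 1
    · simp [hK, hw, S.scal_one]
    rw [S.gram_a v.2 hv w.2 hw, Finset.sum_boole,
      Nat.card_eq_fintype_card (α := {t : S.T // (t : G) * v * (t : G)⁻¹ = w}), Fintype.card_subtype]
  have hmain : (p : ℂ) * p * ∑ χ : IrrCharacter G with χ ∈ S.B, (S.c χ ξ : ℂ) * (S.c χ η : ℂ) =
      (p : ℂ) / Nat.card S.C * ∑ t : S.T, ∑ v : S.P,
        (conj (S.scal ξ v) - 1) * (S.scal η ((t : G) * v * (t : G)⁻¹) - 1) := by
    rw [Finset.mul_sum, Finset.sum_congr rfl (g := fun χ => ∑ v : S.P, ∑ w : S.P,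
      K v w * (S.a χ v * conj (S.a χ w))) fun χ _ => by
        rw [← hsum, map_mul, map_intCast, Complex.conj_natCast]; ring, Finset.sum_comm,
      Finset.sum_congr rfl fun v _ => by
        rw [Finset.sum_comm, Finset.sum_congr rfl fun w _ => by rw [← Finset.mul_sum, hgram v w]]]
    simp only [Finset.mul_sum]
    rw [Finset.sum_congr rfl fun v _ => Finset.sum_comm, Finset.sum_comm]
    refine Finset.sum_congr rfl fun t _ => Finset.sum_congr rfl fun v _ => ?_
    rw [Finset.sum_eq_single (⟨(t : G) * v * (t : G)⁻¹, S.conj_P t.2.1 v.2⟩ : S.P)]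
    · rw [if_pos rfl, hK]; ring
    · intro w _ hne
      rw [if_neg fun e => hne (Subtype.ext e.symm), mul_zero, mul_zero]
    · simp
  have hinner : ∀ t : S.T, ∑ v : S.P,
      (conj (S.scal ξ v) - 1) * (S.scal η ((t : G) * v * (t : G)⁻¹) - 1) =
        (p : ℂ) * ((if S.cj (t : G) ξ = η then 1 else 0) + 1) := by
    intro t
    set η' := S.cj (t : G)⁻¹ η with hη'
    have hti := inv_mem t.2
    have hη'b : η' ∈ S.b := S.cj_mem hti hη
    have e1 : ∀ v : S.P, S.scal η ((t : G) * v * (t : G)⁻¹) = S.scal η' v := fun v => by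
      have h := S.scal_cj hti.1 η (S.conj_P t.2.1 v.2)
      rw [show (t : G)⁻¹ * ((t : G) * v * (t : G)⁻¹) * (t : G)⁻¹⁻¹ = (v : G) by group] at h
      rw [hη', h]
    have o : ∀ {α β}, α ∈ S.b → β ∈ S.b → ∑ v : S.P, S.scal α v * conj (S.scal β v) =
        if α = β then (p : ℂ) else 0 := fun hα hβ => S.sum_scal_mul_conj hα hβ
    have o1 := o hη'b hξ
    have o2 := o hη'b S.hθ
    have o3 := o S.hθ hξ
    rw [Finset.sum_congr rfl (g := fun v : S.P => S.scal η' v * conj (S.scal η' v) -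
        S.scal η' v * conj (S.scal S.θ v) - S.scal S.θ v * conj (S.scal ξ v) +
          S.scal η' v * conj (S.scal ξ v)) fun v _ => by
      rw [e1, S.scal_norm η' v.2, S.scal_theta v.2, map_one]; ring,
      Finset.sum_add_distrib, Finset.sum_sub_distrib, Finset.sum_sub_distrib, o1, o2, o3,
      o hη'b hη'b, if_pos rfl, if_neg (S.cj_ne_theta hti hηθ), if_neg (Ne.symm hξθ)]
    have hiff : η' = ξ ↔ S.cj (t : G) ξ = η := by
      rw [hη']
      constructor
      · intro h
        rw [← h, S.cj_cj t.2.1 hti.1, mul_inv_cancel, S.cj_one]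
      · intro h
        rw [← h, S.cj_cj hti.1 t.2.1, inv_mul_cancel, S.cj_one]
    simp only [hiff]
    split_ifs <;> ring
  rw [Finset.sum_congr rfl fun t _ => hinner t, ← Finset.mul_sum, Finset.sum_add_distrib,
    Finset.sum_boole, Finset.sum_const, Finset.card_univ, nsmul_eq_mul, mul_one] at hmain
  rw [Nat.card_eq_fintype_card (α := {t : S.T // S.cj (t : G) ξ = η}), Fintype.card_subtype,
    Nat.card_eq_fintype_card (α := S.T)]
  refine mul_left_cancel₀ (mul_ne_zero hp hp) ?_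
  rw [mul_left_comm, hmain]
  field_simp

/-- The relation on the regular elements. -/
theorem sum_c_mul_regular [DecidablePred (· ∈ S.B)] {ξ : IrrCharacter S.C} (hξ : ξ ∈ S.b) {g : G}
    (hg : IsPRegular p g) :
    ∑ χ : IrrCharacter G with χ ∈ S.B, (S.c χ ξ : ℂ) * (χ : G → ℂ) g = 0 := by
  classical
  haveI : Fintype S.P := Fintype.ofFinite _
  have hp : (p : ℂ) ≠ 0 := Nat.cast_ne_zero.mpr S.hM.1.ne_zero
  have key : ∀ h, IsPRegular p h →
      ∑ χ : IrrCharacter G with χ ∈ S.B, (S.c χ ξ : ℂ) * conj ((χ : G → ℂ) h) = 0 := by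
    intro h hh
    refine mul_left_cancel₀ hp ?_
    rw [mul_zero, Finset.mul_sum, Finset.sum_congr rfl fun χ _ => by
      rw [← mul_assoc, S.p_mul_c χ hξ, Finset.sum_mul], Finset.sum_comm]
    refine Finset.sum_eq_zero fun v _ => ?_
    by_cases hv : (v : G) = 1
    · simp [hv, S.scal_one]
    rw [Finset.sum_congr rfl (g := fun χ => (conj (S.scal ξ v) - 1) *
      (S.a χ v * conj ((χ : G → ℂ) h))) fun χ _ => by ring, ← Finset.mul_sum,
      S.sum_a_mul_regular v.2 hv hh, mul_zero]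
  have h := key g⁻¹ (by rw [IsPRegular, orderOf_inv]; exact hg)
  rw [← h]
  refine Finset.sum_congr rfl fun χ _ => ?_
  rw [irr_value_inv χ.2, Complex.conj_conj]

end Setup

end CfsgLib.Blocks.PrimeDefect
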