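import Cfsg.Agent.Lib.Blocks.CentralDefect
import Cfsg.Agent.Lib.Blocks.ExtendedFirst
import Cfsg.Agent.Lib.Blocks.BrauerFeit
import Cfsg.Agent.Lib.Blocks.Sections
import Cfsg.Agent.Lib.Blocks.MainThird
import Cfsg.Agent.Lib.Char.MeanValue
import Mathlib.GroupTheory.SchurZassenhaus

/-!
# A block whose defect group is a Sylow subgroup of prime order: the local structure

`C = C(P) = P × V`, the block `b` of `C`, its canonical character `θ`, the inertia group `T` of `θ`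
in `N(P)` and the action of the normalizer on the characters of `C`.
-/

set_option autoImplicit false
set_option linter.unusedSectionVars false
set_option linter.style.haveILetI false

namespace CfsgLib.Blocks.PrimeDefect

open Cfsg
open scoped ComplexConjugate CfsgLib.Char
open CfsgLib

variable {G : Type*} [Group G]

/-- The data: a block with a defect group which is a Sylow subgroup of order `p`. -/
structure Setup (G : Type*) [Group G] (p : ℕ) (M : Ideal AlgInt) where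
  hM : IsPModular p M
  P : Subgroup G
  hP : Nat.card P = p
  hidx : ¬ p ∣ P.index
  B : Set (IrrCharacter G)
  hB : IsPBlock M B
  hBP : IsDefectGroup p M B P
  b : Set (IrrCharacter (Subgroup.centralizer (P : Set G)))
  hind : IsInducedBlock M (Subgroup.centralizer (P : Set G)) b B
  θ : IrrCharacter (Subgroup.centralizer (P : Set G))
  hθ : θ ∈ b
  hθP : ∀ x : Subgroup.centralizer (P : Set G), (x : G) ∈ P →
    (θ : Subgroup.centralizer (P : Set G) → ℂ) x = (θ : Subgroup.centralizer (P : Set G) → ℂ) 1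

namespace Setup

variable {p : ℕ} {M : Ideal AlgInt} (S : Setup G p M)

/-- The centralizer of `P`. -/
abbrev C : Subgroup G := Subgroup.centralizer (S.P : Set G)

/-- The normalizer of `P`. -/
abbrev N : Subgroup G := Subgroup.normalizer (S.P : Set G)

theorem fact (S : Setup G p M) : Fact p.Prime := ⟨S.hM.1⟩

theorem zpowers_eq {v : G} (hv : v ∈ S.P) (hv1 : v ≠ 1) : Subgroup.zpowers v = S.P := by
  have := S.fact
  have hle : Subgroup.zpowers v ≤ S.P := Subgroup.zpowers_le.mpr hv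
  have hdvd := Subgroup.card_dvd_of_le hle
  rw [S.hP] at hdvd
  rcases (Nat.dvd_prime Fact.out).mp hdvd with h | h
  · exact absurd (Subgroup.zpowers_eq_bot.mp (Subgroup.card_eq_one.mp h)) hv1
  · have hfin : Finite S.P := Nat.finite_of_card_ne_zero (by rw [S.hP]; exact (Fact.out : p.Prime).ne_zero)
    exact Subgroup.eq_of_le_of_card_ge hle (by rw [h, S.hP])

theorem comm_P {x y : G} (hx : x ∈ S.P) (hy : y ∈ S.P) : x * y = y * x := by
  rcases eq_or_ne y 1 with rfl | hy1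
  · simp
  rw [← S.zpowers_eq hy hy1] at hx
  obtain ⟨i, rfl⟩ := Subgroup.mem_zpowers_iff.mp hx
  exact (Commute.zpow_self y i).eq

theorem P_le_C : S.P ≤ S.C := fun _ hx =>
  Subgroup.mem_centralizer_iff.mpr fun _ hy => S.comm_P hy hx

theorem C_le_N : S.C ≤ S.N := Subgroup.centralizer_le_normalizer _

theorem P_le_N : S.P ≤ S.N := S.P_le_C.trans S.C_le_N

theorem orderOf_mem {v : G} (hv : v ∈ S.P) (hv1 : v ≠ 1) : orderOf v = p := by
  rw [← Nat.card_zpowers, S.zpowers_eq hv hv1, S.hP]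

theorem orderOf_pow {v : G} (hv : v ∈ S.P) : ∃ k : ℕ, orderOf v = p ^ k := by
  rcases eq_or_ne v 1 with rfl | h
  · exact ⟨0, by rw [orderOf_one, pow_zero]⟩
  · exact ⟨1, by rw [S.orderOf_mem hv h, pow_one]⟩

theorem centralizer_eq {v : G} (hv : v ∈ S.P) (hv1 : v ≠ 1) :
    S.C = Subgroup.centralizer ({v} : Set G) := by
  refine le_antisymm (Subgroup.centralizer_le (Set.singleton_subset_iff.mpr hv)) fun c hc => ?_
  refine Subgroup.mem_centralizer_iff.mpr fun q hq => ?_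
  rw [← S.zpowers_eq hv hv1] at hq
  obtain ⟨i, rfl⟩ := Subgroup.mem_zpowers_iff.mp hq
  exact (Commute.zpow_left (Subgroup.mem_centralizer_singleton_iff.mp hc :
    Commute c v).symm i).eq

theorem conj_C_iff {g : G} (hg : g ∈ S.N) (c : G) : g * c * g⁻¹ ∈ S.C ↔ c ∈ S.C := by
  have key : ∀ h ∈ S.N, ∀ x ∈ S.C, h * x * h⁻¹ ∈ S.C := fun h hh x hx => by
    refine Subgroup.mem_centralizer_iff.mpr fun q hq => ?_
    have hq' : h⁻¹ * q * h ∈ S.P :=
      (Subgroup.mem_normalizer_iff''.mp hh q).mp hq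
    have := Subgroup.mem_centralizer_iff.mp hx _ hq'
    calc q * (h * x * h⁻¹) = h * (h⁻¹ * q * h * x) * h⁻¹ := by group
      _ = h * (x * (h⁻¹ * q * h)) * h⁻¹ := by rw [this]
      _ = h * x * h⁻¹ * q := by group
  refine ⟨fun h => ?_, key g hg c⟩
  simpa [mul_assoc] using key g⁻¹ (inv_mem hg) _ h

theorem conj_P {g : G} (hg : g ∈ S.N) {v : G} (hv : v ∈ S.P) : g * v * g⁻¹ ∈ S.P :=
  (Subgroup.mem_normalizer_iff.mp hg v).mp hv

/-- Conjugate elements of `P` are conjugate in its normalizer. -/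
theorem mem_N_of_conj {g v : G} (hv : v ∈ S.P) (hv1 : v ≠ 1) (h : g * v * g⁻¹ ∈ S.P) :
    g ∈ S.N := by
  have := S.fact
  haveI : Finite S.P := Nat.finite_of_card_ne_zero (by rw [S.hP]; exact (Fact.out : p.Prime).ne_zero)
  have h1 : ∀ x ∈ S.P, g * x * g⁻¹ ∈ S.P := fun x hx => by
    rw [← S.zpowers_eq hv hv1] at hx
    obtain ⟨i, rfl⟩ := Subgroup.mem_zpowers_iff.mp hx
    rw [← conj_zpow]
    exact S.P.zpow_mem h i
  have hw1 : g * v * g⁻¹ ≠ 1 := fun e => hv1 (conj_eq_one_iff.mp e)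
  refine Subgroup.mem_normalizer_iff.mpr fun x => ⟨h1 x, fun hx => ?_⟩
  have hx' : g * x * g⁻¹ ∈ Subgroup.zpowers (g * v * g⁻¹) := (S.zpowers_eq h hw1).symm ▸ hx
  obtain ⟨i, hi⟩ := Subgroup.mem_zpowers_iff.mp hx'
  rw [conj_zpow] at hi
  rw [← mul_left_cancel (mul_right_cancel hi)]
  exact S.P.zpow_mem hv i

variable [Fintype G]

/-- `p`-elements of the normalizer lie in `P`. -/
theorem mem_P_of_pElement {g : G} (hg : g ∈ S.N) (h : ∃ k : ℕ, orderOf g = p ^ k) : g ∈ S.P := by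
  have := S.fact
  obtain ⟨k, hk⟩ := h
  set Q := S.P.subgroupOf S.N
  have hord : (orderOf (QuotientGroup.mk' Q ⟨g, hg⟩)) = 1 := by
    refine Nat.Coprime.eq_one_of_dvd (?_ : Nat.Coprime (orderOf _) (p ^ k)) ?_
    swap
    · rw [← hk, ← Subgroup.orderOf_mk g hg]
      exact orderOf_map_dvd _ _
    refine Nat.Coprime.pow_right _ (Nat.Coprime.symm ((Fact.out : p.Prime).coprime_iff_not_dvd.mpr
      fun hd => S.hidx ?_))
    have h1 := hd.trans (orderOf_dvd_natCard _)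
    rw [← Subgroup.index_eq_card] at h1
    exact h1.trans (Subgroup.relIndex_dvd_index_of_le S.P_le_N)
  exact (QuotientGroup.eq_one_iff (⟨g, hg⟩ : S.N)).mp (orderOf_eq_one_iff.mp hord)

theorem C_coprime : Nat.Coprime (Nat.card (S.P.subgroupOf S.C)) (S.P.subgroupOf S.C).index := by
  have := S.fact
  rw [Nat.card_congr (Subgroup.subgroupOfEquivOfLe S.P_le_C).toEquiv, S.hP]
  exact (Fact.out : p.Prime).coprime_iff_not_dvd.mpr fun h =>
    S.hidx (h.trans (Subgroup.relIndex_dvd_index_of_le S.P_le_C))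

theorem exists_complement : ∃ V : Subgroup G, V ≤ S.C ∧
    (∀ v ∈ V, IsPRegular p v) ∧ (∀ c ∈ S.C, ∃ x ∈ S.P, ∃ v ∈ V, x * v = c) ∧
    (∀ c ∈ S.C, IsPRegular p c → c ∈ V) ∧ Nat.card S.C = p * Nat.card V := by
  classical
  have := S.fact
  haveI : (S.P.subgroupOf S.C).Normal := ⟨fun x hx g => by
    rw [Subgroup.mem_subgroupOf] at hx ⊢
    exact S.conj_P (S.C_le_N g.2) hx⟩
  obtain ⟨W, hW⟩ := Subgroup.exists_right_complement'_of_coprime S.C_coprime
  have hWcard := hW.card_mul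
  rw [Nat.card_congr (Subgroup.subgroupOfEquivOfLe S.P_le_C).toEquiv, S.hP] at hWcard
  have hWp : ¬ p ∣ Nat.card W := fun h => by
    have h1 := (Subgroup.IsComplement'.symm hW).index_eq_card
    have h2 := S.C_coprime
    rw [Nat.card_congr (Subgroup.subgroupOfEquivOfLe S.P_le_C).toEquiv, S.hP] at h2
    rw [h1] at h2
    exact (Fact.out : p.Prime).coprime_iff_not_dvd.mp h2 h
  have hreg : ∀ v ∈ W.map S.C.subtype, IsPRegular p v := by
    rintro _ ⟨w, hw, rfl⟩ hd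
    rw [Subgroup.coe_subtype, Subgroup.orderOf_coe, ← Subgroup.orderOf_mk w hw] at hd
    exact hWp (hd.trans (orderOf_dvd_natCard _))
  have hdec : ∀ c ∈ S.C, ∃ x ∈ S.P, ∃ v ∈ W.map S.C.subtype, x * v = c := by
    intro c hc
    obtain ⟨⟨x, w⟩, hxw⟩ := hW.2 ⟨c, hc⟩
    exact ⟨((x : S.C) : G), x.2, _, ⟨(w : S.C), w.2, rfl⟩, congrArg Subtype.val hxw⟩
  refine ⟨W.map S.C.subtype, Subgroup.map_subtype_le W, hreg, hdec, fun c hc hr => ?_, ?_⟩
  · obtain ⟨x, hx, v, hv, rfl⟩ := hdec c hc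
    rcases eq_or_ne x 1 with rfl | hx1
    · simpa using hv
    exfalso
    have hcom : Commute x v :=
      Subgroup.mem_centralizer_iff.mp (Subgroup.map_subtype_le W hv) x hx
    have h1 : IsPPart p (x * v) x := isPPart_mul hcom (S.orderOf_pow hx) (hreg v hv)
    exact hx1 (IsPPart.unique Fact.out h1
      ⟨x * v, one_mul _, Commute.one_left _, ⟨0, by simp⟩, hr⟩)
  · rw [Subgroup.card_map_of_injective S.C.subtype_injective, hWcard]

/-- The complement of `P` in its centralizer. -/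
noncomputable def V : Subgroup G := (S.exists_complement).choose

theorem V_le_C : S.V ≤ S.C := S.exists_complement.choose_spec.1

theorem regular_of_mem_V {v : G} (hv : v ∈ S.V) : IsPRegular p v :=
  S.exists_complement.choose_spec.2.1 v hv

theorem exists_decompC {c : G} (hc : c ∈ S.C) : ∃ x ∈ S.P, ∃ v ∈ S.V, x * v = c :=
  S.exists_complement.choose_spec.2.2.1 c hc

theorem mem_V_iff {c : G} : c ∈ S.V ↔ c ∈ S.C ∧ IsPRegular p c :=
  ⟨fun h => ⟨S.V_le_C h, S.regular_of_mem_V h⟩,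
    fun h => S.exists_complement.choose_spec.2.2.2.1 c h.1 h.2⟩

theorem card_C : Nat.card S.C = p * Nat.card S.V := S.exists_complement.choose_spec.2.2.2.2

theorem card_V_coprime : ¬ p ∣ Nat.card S.V := by
  have := S.fact
  intro h
  obtain ⟨v, hv⟩ := exists_prime_orderOf_dvd_card' p h
  refine S.regular_of_mem_V v.2 ?_
  rw [Subgroup.orderOf_coe, hv]

theorem conj_V {g : G} (hg : g ∈ S.N) {v : G} (hv : v ∈ S.V) : g * v * g⁻¹ ∈ S.V := by
  rw [mem_V_iff] at hv ⊢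
  refine ⟨(S.conj_C_iff hg v).mpr hv.1, ?_⟩
  rw [IsPRegular, show g * v * g⁻¹ = (MulAut.conj g).toMonoidHom v by simp,
    orderOf_injective (MulAut.conj g).toMonoidHom (MulAut.conj g).injective]
  exact hv.2

/-- `P` in `C`. -/
abbrev PC : Subgroup S.C := S.P.subgroupOf S.C

theorem mem_center {x : S.C} (hx : (x : G) ∈ S.P) : x ∈ Subgroup.center S.C :=
  Subgroup.mem_center_iff.mpr fun c =>
    Subtype.ext (Subgroup.mem_centralizer_iff.mp c.2 x hx).symm

theorem PC_sup : S.PC ⊔ Subgroup.centralizer (S.PC : Set S.C) = ⊤ := by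
  rw [eq_top_iff]
  refine le_trans ?_ le_sup_right
  intro c _
  exact Subgroup.mem_centralizer_iff.mpr fun v hv =>
    (Subgroup.mem_center_iff.mp (S.mem_center hv) c).symm

theorem card_PC : Nat.card S.PC = p :=
  (Nat.card_congr (Subgroup.subgroupOfEquivOfLe S.P_le_C).toEquiv).trans S.hP

theorem isPGroup_PC : IsPGroup p S.PC := IsPGroup.of_card (n := 1) (by rw [S.card_PC, pow_one])

theorem defect_eq_one : blockDefect p S.B = 1 := by
  have h := IsDefectGroup.card_eq S.hM S.hB S.hBP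
  rw [S.hP] at h
  exact Nat.pow_right_injective S.hM.1.two_le (h.symm.trans (pow_one p).symm)

theorem defectGroup_b : IsDefectGroup p M S.b S.PC := by
  classical
  have := S.fact
  have := isPrime_of_isPModular S.hM
  obtain ⟨D₁, hD₁⟩ := exists_isDefectGroup S.hM S.hind.1
  haveI : S.PC.Normal := normal_of_sup S.PC_sup
  have hle : S.PC ≤ D₁ := IsDefectGroup.normal_le S.hM S.hind.1 hD₁ S.PC S.isPGroup_PC
  obtain ⟨E, hE, hDE⟩ := IsInducedBlock.exists_defectGroup_le S.hM S.hind hD₁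
  have h1 := Subgroup.card_le_of_le hDE
  rw [Subgroup.card_map_of_injective (Subgroup.subtype_injective _),
    IsDefectGroup.card_eq S.hM S.hB hE, S.defect_eq_one, pow_one] at h1
  rw [Subgroup.eq_of_le_of_card_ge hle (h1.trans S.card_PC.ge)]
  exact hD₁

theorem structure_b :
    (∀ ξ ∈ S.b, (∀ x : S.C, (x : G) ∈ S.P → (ξ : S.C → ℂ) x = (ξ : S.C → ℂ) 1) → ξ = S.θ) ∧
    (charDegree (S.θ : S.C → ℂ)).factorization p = 0 ∧
    (∀ ξ ∈ S.b, ∀ v : S.C, (v : G) ∈ S.P → ∀ s : S.C, IsPRegular p s →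
      (ξ : S.C → ℂ) (v * s) = (ξ : S.C → ℂ) v / (S.θ : S.C → ℂ) 1 * (S.θ : S.C → ℂ) s) ∧
    Nat.card S.b = p := by
  classical
  have := S.fact
  obtain ⟨θ₀, hθ₀, hθ₀P, huniq, hdeg, hform, -, hcard⟩ :=
    central_defect_structure p M S.hM S.PC S.isPGroup_PC S.PC_sup S.b S.hind.1 S.defectGroup_b
  have hθθ : S.θ = θ₀ := huniq S.θ S.hθ fun v hv => S.hθP v hv
  subst hθθ
  refine ⟨fun ξ hξ h => huniq ξ hξ h, ?_, fun ξ hξ v hv s hs => hform ξ hξ v hv s hs, ?_⟩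
  · rw [hdeg]
    refine Nat.factorization_eq_zero_of_not_dvd fun h => ?_
    exact S.hidx (h.trans (Subgroup.relIndex_dvd_index_of_le S.P_le_C))
  · refine hcard.trans (Eq.trans ?_ S.card_PC)
    refine (Nat.card_eq_of_bijective ConjClasses.mk ⟨fun u v h => ?_, ConjClasses.mk_surjective⟩).symm
    obtain ⟨w, hw⟩ := isConj_iff.mp (ConjClasses.mk_eq_mk_iff_isConj.mp h)
    rw [← hw, show w * u = u * w from Subtype.ext
      (Subgroup.mem_center_iff.mp (S.mem_center u.2) _), mul_inv_cancel_right]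

theorem eq_theta {ξ : IrrCharacter S.C} (hξ : ξ ∈ S.b)
    (h : ∀ x : S.C, (x : G) ∈ S.P → (ξ : S.C → ℂ) x = (ξ : S.C → ℂ) 1) : ξ = S.θ :=
  S.structure_b.1 ξ hξ h

theorem card_b : Nat.card S.b = p := S.structure_b.2.2.2

theorem theta_one_ne : (S.θ : S.C → ℂ) 1 ≠ 0 := Char.irr_degree_ne_zero S.θ.2

theorem not_dvd_degree : ¬ p ∣ charDegree (S.θ : S.C → ℂ) := fun h => by
  have := S.structure_b.2.1
  have h1 := (S.hM.1.dvd_iff_one_le_factorization (irr_degree_eq S.θ).2.ne').mp h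
  omega

theorem theta_P_mul {v : S.C} (hv : (v : G) ∈ S.P) (s : S.C) :
    (S.θ : S.C → ℂ) (v * s) = (S.θ : S.C → ℂ) s := by
  haveI : Fintype S.C := Fintype.ofFinite _
  have h := Char.central_mul S.θ.2 (S.mem_center hv) s
  rw [S.hθP v hv] at h
  have hc : v * s = s * v := (Subgroup.mem_center_iff.mp (S.mem_center hv) s).symm
  rw [hc]
  exact mul_right_cancel₀ S.theta_one_ne h

/-- The scalar of an element of `P` in a character of `C`. -/
noncomputable def scal (ξ : IrrCharacter S.C) (v : G) : ℂ :=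
  open Classical in
  if hv : v ∈ S.C then (ξ : S.C → ℂ) ⟨v, hv⟩ / (ξ : S.C → ℂ) 1 else 0

theorem scal_apply (ξ : IrrCharacter S.C) (v : S.C) :
    S.scal ξ (v : G) = (ξ : S.C → ℂ) v / (ξ : S.C → ℂ) 1 := by
  rw [scal, dif_pos v.2]

theorem scal_one (ξ : IrrCharacter S.C) : S.scal ξ 1 = 1 := by
  haveI : Fintype S.C := Fintype.ofFinite _
  rw [show (1 : G) = ((1 : S.C) : G) from rfl, S.scal_apply, div_self (Char.irr_degree_ne_zero ξ.2)]

theorem value_mul (ξ : IrrCharacter S.C) {v : S.C} (hv : (v : G) ∈ S.P) (s : S.C) :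
    (ξ : S.C → ℂ) (v * s) = S.scal ξ v * (ξ : S.C → ℂ) s := by
  haveI : Fintype S.C := Fintype.ofFinite _
  have h := Char.central_mul ξ.2 (S.mem_center hv) s
  have hc : v * s = s * v := (Subgroup.mem_center_iff.mp (S.mem_center hv) s).symm
  rw [hc, S.scal_apply, div_mul_eq_mul_div, eq_div_iff (Char.irr_degree_ne_zero ξ.2), h]
  ring

theorem scal_mul (ξ : IrrCharacter S.C) {v w : G} (hv : v ∈ S.P) (hw : w ∈ S.P) :
    S.scal ξ (v * w) = S.scal ξ v * S.scal ξ w := by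
  haveI : Fintype S.C := Fintype.ofFinite _
  set v' : S.C := ⟨v, S.P_le_C hv⟩
  set w' : S.C := ⟨w, S.P_le_C hw⟩
  rw [show v * w = ((v' * w' : S.C) : G) from rfl, S.scal_apply, S.value_mul ξ hv, mul_div_assoc,
    ← S.scal_apply]

theorem scal_theta {v : G} (hv : v ∈ S.P) : S.scal S.θ v = 1 := by
  have h := S.scal_apply S.θ ⟨v, S.P_le_C hv⟩
  rw [h, S.hθP _ hv, div_self S.theta_one_ne]

theorem scal_inv (ξ : IrrCharacter S.C) {v : G} (hv : v ∈ S.P) :
    S.scal ξ v⁻¹ = conj (S.scal ξ v) := by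
  haveI : Fintype S.C := Fintype.ofFinite _
  set v' : S.C := ⟨v, S.P_le_C hv⟩
  rw [show v⁻¹ = ((v'⁻¹ : S.C) : G) from rfl, S.scal_apply, show v = (v' : G) from rfl, S.scal_apply,
    map_div₀, irr_value_inv ξ.2, (irr_degree_eq ξ).1, Complex.conj_natCast]

theorem scal_norm (ξ : IrrCharacter S.C) {v : G} (hv : v ∈ S.P) :
    S.scal ξ v * conj (S.scal ξ v) = 1 := by
  rw [← S.scal_inv ξ hv, ← S.scal_mul ξ hv (inv_mem hv), mul_inv_cancel, S.scal_one]

/-- Sums over `C` along `P × V`. -/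
theorem sum_C_eq [Fintype S.C] [Fintype S.P] [Fintype S.V] {A : Type*} [AddCommMonoid A]
    (F : G → A) : ∑ c : S.C, F c = ∑ x : S.P, ∑ v : S.V, F ((x : G) * v) := by
  classical
  have := S.fact
  let φ : S.P × S.V → S.C := fun z =>
    ⟨(z.1 : G) * z.2, mul_mem (S.P_le_C z.1.2) (S.V_le_C z.2.2)⟩
  have hsurj : Function.Surjective φ := fun c => by
    obtain ⟨x, hx, v, hv, h⟩ := S.exists_decompC c.2
    exact ⟨(⟨x, hx⟩, ⟨v, hv⟩), Subtype.ext h⟩
  have hbij : Function.Bijective φ := (Fintype.bijective_iff_surjective_and_card φ).mpr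
    ⟨hsurj, by rw [Fintype.card_prod, ← Nat.card_eq_fintype_card, ← Nat.card_eq_fintype_card,
      ← Nat.card_eq_fintype_card, S.hP, S.card_C]⟩
  rw [← Fintype.sum_prod_type', ← hbij.sum_comp]

theorem value_regular {ξ : IrrCharacter S.C} (hξ : ξ ∈ S.b) {s : S.C} (hs : IsPRegular p s) :
    (ξ : S.C → ℂ) s = (ξ : S.C → ℂ) 1 / (S.θ : S.C → ℂ) 1 * (S.θ : S.C → ℂ) s := by
  have h := S.structure_b.2.2.1 ξ hξ 1 S.P.one_mem s hs
  rwa [one_mul] at h

theorem degree_mem_b {ξ : IrrCharacter S.C} (hξ : ξ ∈ S.b) :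
    (ξ : S.C → ℂ) 1 = (S.θ : S.C → ℂ) 1 := by
  classical
  haveI : Fintype S.C := Fintype.ofFinite _
  haveI : Fintype S.P := Fintype.ofFinite _
  haveI : Fintype S.V := Fintype.ofFinite _
  set q := (ξ : S.C → ℂ) 1 / (S.θ : S.C → ℂ) 1 with hq
  let F : IrrCharacter S.C → G → ℂ := fun η g =>
    if h : g ∈ S.C then (η : S.C → ℂ) ⟨g, h⟩ * conj ((η : S.C → ℂ) ⟨g, h⟩) else 0
  have hF : ∀ (η : IrrCharacter S.C) (c : S.C), F η c = (η : S.C → ℂ) c * conj ((η : S.C → ℂ) c) :=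
    fun η c => dif_pos c.2
  have hpv : ∀ (η : IrrCharacter S.C) (x : S.P) (v : S.V), F η ((x : G) * v) =
      (η : S.C → ℂ) ⟨v, S.V_le_C v.2⟩ * conj ((η : S.C → ℂ) ⟨v, S.V_le_C v.2⟩) := fun η x v => by
    set x' : S.C := ⟨x, S.P_le_C x.2⟩
    set v' : S.C := ⟨v, S.V_le_C v.2⟩
    rw [show (x : G) * v = ((x' * v' : S.C) : G) from rfl, hF, S.value_mul η x.2, map_mul]
    calc _ = S.scal η x' * conj (S.scal η x') * ((η : S.C → ℂ) v' * conj ((η : S.C → ℂ) v')) := by ring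
      _ = _ := by rw [S.scal_norm η x.2, one_mul]
  have hn : ∀ η : IrrCharacter S.C, ∑ c : S.C, F η c = (Nat.card S.C : ℂ) := fun η => by
    have h := Char.classInner_irr_self η.2
    rw [classInner, inv_mul_eq_one₀ (Nat.cast_ne_zero.mpr Nat.card_pos.ne')] at h
    rw [h]
    exact Finset.sum_congr rfl fun c _ => hF η c
  have h1 := hn ξ
  rw [S.sum_C_eq, Finset.sum_congr rfl fun x _ => Finset.sum_congr rfl fun v _ => by
    rw [hpv ξ x v, S.value_regular hξ (by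
      rw [IsPRegular, ← Subgroup.orderOf_coe]; exact S.regular_of_mem_V v.2), map_mul,
      show q * (S.θ : S.C → ℂ) ⟨v, S.V_le_C v.2⟩ * (conj q * conj ((S.θ : S.C → ℂ) ⟨v, S.V_le_C v.2⟩))
        = (q * conj q) * F S.θ ((x : G) * v) by rw [hpv]; ring]] at h1
  simp only [← Finset.mul_sum] at h1
  rw [← S.sum_C_eq, hn S.θ, mul_eq_right₀ (Nat.cast_ne_zero.mpr Nat.card_pos.ne')] at h1
  rw [hq, (irr_degree_eq ξ).1, (irr_degree_eq S.θ).1, map_div₀, Complex.conj_natCast,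
    Complex.conj_natCast, ← sq, div_pow, div_eq_one_iff_eq (pow_ne_zero 2
      (Nat.cast_ne_zero.mpr (irr_degree_eq S.θ).2.ne'))] at h1
  rw [(irr_degree_eq ξ).1, (irr_degree_eq S.θ).1]
  exact_mod_cast Nat.pow_left_injective two_ne_zero (by exact_mod_cast h1)

theorem value_mem_b {ξ : IrrCharacter S.C} (hξ : ξ ∈ S.b) {s : S.C} (hs : IsPRegular p s) :
    (ξ : S.C → ℂ) s = (S.θ : S.C → ℂ) s := by
  rw [S.value_regular hξ hs, S.degree_mem_b hξ, div_self S.theta_one_ne, one_mul]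

/-- The norm of `θ` on `V`. -/
theorem sum_V_norm [Fintype S.V] :
    ∑ v : S.V, (S.θ : S.C → ℂ) ⟨v, S.V_le_C v.2⟩ * conj ((S.θ : S.C → ℂ) ⟨v, S.V_le_C v.2⟩) =
      Nat.card S.V := by
  classical
  haveI : Fintype S.C := Fintype.ofFinite _
  haveI : Fintype S.P := Fintype.ofFinite _
  let F : G → ℂ := fun g =>
    if h : g ∈ S.C then (S.θ : S.C → ℂ) ⟨g, h⟩ * conj ((S.θ : S.C → ℂ) ⟨g, h⟩) else 0
  have hn : ∑ c : S.C, F c = (Nat.card S.C : ℂ) := by
    have h := Char.classInner_irr_self S.θ.2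
    rw [classInner, inv_mul_eq_one₀ (Nat.cast_ne_zero.mpr Nat.card_pos.ne')] at h
    rw [h]
    exact Finset.sum_congr rfl fun c _ => dif_pos c.2
  rw [S.sum_C_eq, Finset.sum_congr rfl fun x _ => Finset.sum_congr rfl (g := fun v : S.V =>
      (S.θ : S.C → ℂ) ⟨v, S.V_le_C v.2⟩ * conj ((S.θ : S.C → ℂ) ⟨v, S.V_le_C v.2⟩)) fun v _ => by
    set x' : S.C := ⟨x, S.P_le_C x.2⟩
    set v' : S.C := ⟨v, S.V_le_C v.2⟩
    show F ((x' * v' : S.C) : G) = _
    rw [show F ((x' * v' : S.C) : G) = _ from dif_pos (x' * v').2]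
    rw [show (⟨((x' * v' : S.C) : G), (x' * v').2⟩ : S.C) = x' * v' from rfl, S.theta_P_mul x.2],
    Finset.sum_const, Finset.card_univ, nsmul_eq_mul, ← Nat.card_eq_fintype_card, S.hP,
    S.card_C, Nat.cast_mul] at hn
  exact mul_left_cancel₀ (Nat.cast_ne_zero.mpr S.hM.1.ne_zero) hn

/-- Orthogonality of the scalars over `P`. -/
theorem sum_scal_mul_conj [Fintype S.P] [DecidableEq (IrrCharacter S.C)] {ξ η : IrrCharacter S.C} (hξ : ξ ∈ S.b) (hη : η ∈ S.b) :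
    ∑ v : S.P, S.scal ξ v * conj (S.scal η v) = if ξ = η then (p : ℂ) else 0 := by
  classical
  haveI : Fintype S.C := Fintype.ofFinite _
  haveI : Fintype S.V := Fintype.ofFinite _
  let F : G → ℂ := fun g =>
    if h : g ∈ S.C then (ξ : S.C → ℂ) ⟨g, h⟩ * conj ((η : S.C → ℂ) ⟨g, h⟩) else 0
  have hn : ∑ c : S.C, F c = (Nat.card S.C : ℂ) * classInner (ξ : S.C → ℂ) (η : S.C → ℂ) := by
    rw [classInner, mul_inv_cancel_left₀ (Nat.cast_ne_zero.mpr Nat.card_pos.ne')]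
    exact Finset.sum_congr rfl fun c _ => dif_pos c.2
  have hpv : ∀ (x : S.P) (v : S.V), F ((x : G) * v) = S.scal ξ x * conj (S.scal η x) *
      ((S.θ : S.C → ℂ) ⟨v, S.V_le_C v.2⟩ * conj ((S.θ : S.C → ℂ) ⟨v, S.V_le_C v.2⟩)) := fun x v => by
    set x' : S.C := ⟨x, S.P_le_C x.2⟩
    set v' : S.C := ⟨v, S.V_le_C v.2⟩
    have hr : IsPRegular p v' := by
      rw [IsPRegular, ← Subgroup.orderOf_coe]; exact S.regular_of_mem_V v.2
    show F ((x' * v' : S.C) : G) = _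
    rw [show F ((x' * v' : S.C) : G) = (ξ : S.C → ℂ) (x' * v') * conj ((η : S.C → ℂ) (x' * v')) from
      dif_pos (x' * v').2, S.value_mul ξ x.2, S.value_mul η x.2, S.value_mem_b hξ hr,
      S.value_mem_b hη hr, map_mul]
    ring
  rw [S.sum_C_eq, Finset.sum_congr rfl fun x _ => Finset.sum_congr rfl fun v _ => hpv x v] at hn
  simp only [← Finset.mul_sum, S.sum_V_norm, ← Finset.sum_mul] at hn
  rw [Char.classInner_coe, S.card_C, Nat.cast_mul] at hn
  have hV : (Nat.card S.V : ℂ) ≠ 0 := Nat.cast_ne_zero.mpr Nat.card_pos.ne'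
  refine mul_right_cancel₀ hV (hn.trans ?_)
  split_ifs <;> ring

/-- Orthogonality of the scalars over the block. -/
theorem sum_block_scal_mul_conj [DecidablePred (· ∈ S.b)] [DecidableEq G] {v w : G} (hv : v ∈ S.P)
    (hw : w ∈ S.P) :
    ∑ ξ : IrrCharacter S.C with ξ ∈ S.b, S.scal ξ v * conj (S.scal ξ w) =
      if v = w then (p : ℂ) else 0 := by
  classical
  haveI : Fintype S.P := Fintype.ofFinite _
  haveI : Fintype S.b := Fintype.ofFinite _
  have hcard : Fintype.card S.b = Fintype.card S.P := by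
    rw [← Nat.card_eq_fintype_card, ← Nat.card_eq_fintype_card, S.card_b, S.hP]
  let e : S.b ≃ S.P := Fintype.equivOfCardEq hcard
  let A : Matrix S.P S.P ℂ := Matrix.of fun i j => S.scal (e.symm i).1 j
  let A' : Matrix S.P S.P ℂ := Matrix.of fun i j => conj (S.scal (e.symm j).1 i) / (p : ℂ)
  have hp0 : (p : ℂ) ≠ 0 := Nat.cast_ne_zero.mpr S.hM.1.ne_zero
  have hAA : A * A' = 1 := by
    ext i j
    simp only [Matrix.mul_apply, A, A', Matrix.of_apply, mul_div_assoc', ← Finset.sum_div,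
      S.sum_scal_mul_conj (e.symm i).2 (e.symm j).2, Matrix.one_apply]
    by_cases h : i = j
    · subst h; simp [hp0]
    · rw [if_neg (fun h' => h (e.symm.injective (Subtype.ext h'))), if_neg h, zero_div]
  have hA'A : A' * A = 1 := mul_eq_one_comm.mp hAA
  have h2 := congrFun (congrFun hA'A ⟨w, hw⟩) ⟨v, hv⟩
  simp only [Matrix.mul_apply, A, A', Matrix.of_apply, Matrix.one_apply, Subtype.mk.injEq] at h2
  rw [Finset.sum_subtype (p := (· ∈ S.b)) _ (fun ξ => by simp) _, ← e.symm.sum_comp,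
    Finset.sum_congr rfl (g := fun x => (p : ℂ) * (conj (S.scal (e.symm x).1 w) / (p : ℂ) *
      S.scal (e.symm x).1 v)) fun x _ => by field_simp, ← Finset.mul_sum, h2]
  rcases eq_or_ne v w with rfl | h
  · simp
  · simp [h, Ne.symm h]

/-- A nontrivial scalar character is faithful on `P`. -/
theorem scal_eq_one_imp {ξ : IrrCharacter S.C} (hξ : ξ ∈ S.b) (hne : ξ ≠ S.θ) {v : G}
    (hv : v ∈ S.P) (h : S.scal ξ v = 1) : v = 1 := by
  haveI : Fintype S.C := Fintype.ofFinite _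
  by_contra hv1
  refine hne (S.eq_theta hξ fun x hx => ?_)
  have hx' := hx
  rw [← S.zpowers_eq hv hv1, ← mem_powers_iff_mem_zpowers, Submonoid.mem_powers_iff] at hx'
  obtain ⟨i, hi⟩ := hx'
  have key : ∀ i : ℕ, S.scal ξ (v ^ i) = 1 := fun i => by
    induction i with
    | zero => rw [pow_zero, S.scal_one]
    | succ i ih => rw [pow_succ, S.scal_mul ξ (pow_mem hv i) hv, ih, h, one_mul]
  have := S.scal_apply ξ x
  rw [← hi, key, eq_comm, div_eq_one_iff_eq (Char.irr_degree_ne_zero ξ.2)] at this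
  exact this

/-! ### Conjugation -/

/-- The conjugate of a character of `C` by an element of the normalizer. -/
noncomputable def cj (g : G) (ξ : IrrCharacter S.C) : IrrCharacter S.C :=
  open Classical in
  if hg : g ∈ S.N then conjIrr (S.conj_C_iff hg) ξ else ξ

theorem cj_apply {g : G} (hg : g ∈ S.N) (ξ : IrrCharacter S.C) {c c' : S.C}
    (h : (c' : G) = g * c * g⁻¹) : (S.cj g ξ : S.C → ℂ) c' = (ξ : S.C → ℂ) c := by
  rw [cj, dif_pos hg]
  exact conjIrr_apply _ ξ h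

theorem eq_cj {g : G} (hg : g ∈ S.N) {ξ η : IrrCharacter S.C}
    (h : ∀ c c' : S.C, (c' : G) = g * c * g⁻¹ → (η : S.C → ℂ) c' = (ξ : S.C → ℂ) c) :
    η = S.cj g ξ := by
  rw [cj, dif_pos hg]
  exact eq_conjIrr _ h

theorem cj_one (ξ : IrrCharacter S.C) : S.cj 1 ξ = ξ :=
  (S.eq_cj (one_mem _) fun c c' h => by
    rw [show c' = c from Subtype.ext (by simpa using h)]).symm

theorem cj_cj {g h : G} (hg : g ∈ S.N) (hh : h ∈ S.N) (ξ : IrrCharacter S.C) :
    S.cj g (S.cj h ξ) = S.cj (g * h) ξ :=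
  S.eq_cj (mul_mem hg hh) fun c c' e => by
    rw [S.cj_apply hg _ (c := ⟨h * c * h⁻¹, (S.conj_C_iff hh c).mpr c.2⟩) (c' := c')
      (by rw [e]; simp [mul_assoc]), S.cj_apply hh ξ (c := c) rfl]

theorem cj_of_mem_C {g : G} (hg : g ∈ S.C) (ξ : IrrCharacter S.C) : S.cj g ξ = ξ :=
  (S.eq_cj (S.C_le_N hg) fun c c' e => by
    haveI : Fintype S.C := Fintype.ofFinite _
    rw [show c' = (⟨g, hg⟩ : S.C) * c * (⟨g, hg⟩ : S.C)⁻¹ from Subtype.ext e]
    exact irr_classFunction ξ c ⟨g, hg⟩).symm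

theorem cj_injective {g : G} (hg : g ∈ S.N) : Function.Injective (S.cj g) := fun a b h => by
  have := congrArg (S.cj g⁻¹) h
  rwa [S.cj_cj (inv_mem hg) hg, S.cj_cj (inv_mem hg) hg, inv_mul_cancel, S.cj_one, S.cj_one] at this

theorem scal_cj {g : G} (hg : g ∈ S.N) (ξ : IrrCharacter S.C) {v : G} (hv : v ∈ S.P) :
    S.scal (S.cj g ξ) (g * v * g⁻¹) = S.scal ξ v := by
  have h1 := S.scal_apply (S.cj g ξ) ⟨g * v * g⁻¹, S.P_le_C (S.conj_P hg hv)⟩
  rw [h1, S.scal_apply ξ ⟨v, S.P_le_C hv⟩,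
    S.cj_apply hg ξ (c := ⟨v, S.P_le_C hv⟩) (c' := ⟨g * v * g⁻¹, S.P_le_C (S.conj_P hg hv)⟩) rfl,
    S.cj_apply hg ξ (c := 1) (c' := 1) (by simp)]

theorem conjSet_eq {g : G} (hg : g ∈ S.N) : conjSet g S.C S.C S.b = S.cj g '' S.b := by
  rw [conjSet_eq_image (S.conj_C_iff hg)]
  refine Set.image_congr fun ξ _ => ?_
  rw [cj, dif_pos hg]

theorem isPBlock_cj {g : G} (hg : g ∈ S.N) : IsPBlock M (S.cj g '' S.b) := by
  have := isPrime_of_isPModular S.hM
  rw [← S.conjSet_eq hg]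
  exact isPBlock_conjSet (S.conj_C_iff hg) S.hind.1

theorem induced_cj {g : G} (hg : g ∈ S.N) : IsInducedBlock M S.C (S.cj g '' S.b) S.B := by
  refine ⟨S.isPBlock_cj hg, S.hB, ?_⟩
  rintro _ ⟨ξ, hξ, rfl⟩ χ hχ x
  have e : inducedCentralChar S.C (S.cj g ξ : S.C → ℂ) x =
      inducedCentralChar S.C (ξ : S.C → ℂ) x := by
    unfold inducedCentralChar
    symm
    refine finsum_mem_eq_of_bijOn (conjIso (S.conj_C_iff hg)) ⟨fun c hc => ?_,
      (conjIso (S.conj_C_iff hg)).injective.injOn, fun c hc => ?_⟩ fun c _ => ?_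
    · exact (hc : IsConj x (c : G)).trans (isConj_iff.mpr ⟨g, rfl⟩)
    · refine ⟨(conjIso (S.conj_C_iff hg)).symm c, ?_, MulEquiv.apply_symm_apply _ _⟩
      refine (hc : IsConj x (c : G)).trans (isConj_iff.mpr ⟨g⁻¹, ?_⟩)
      rw [inv_inv]
      rfl
    · rw [S.cj_apply hg ξ (c := c) (c' := conjIso (S.conj_C_iff hg) c) rfl,
        S.cj_apply hg ξ (c := 1) (c' := 1) (by simp)]
  rw [e]
  exact S.hind.2.2 ξ hξ χ hχ x

theorem inducing_iff {e : Set (IrrCharacter S.C)} :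
    IsInducedBlock M S.C e S.B ↔ ∃ g ∈ S.N, S.cj g '' S.b = e := by
  classical
  haveI : Fintype S.C := Fintype.ofFinite _
  refine ⟨fun h => ?_, fun ⟨g, hg, h⟩ => h ▸ S.induced_cj hg⟩
  obtain ⟨g, hg, h'⟩ := exists_conjSet_eq_of_induced S.hM S.hBP S.P_le_C le_rfl S.C_le_N
    (fun n hn g => S.conj_C_iff hn g) S.hind h
  exact ⟨g, hg, S.conjSet_eq hg ▸ h'⟩

/-- The inertia group of `θ` in the normalizer. -/
noncomputable def T : Subgroup G where
  carrier := {g | g ∈ S.N ∧ S.cj g S.θ = S.θ}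
  one_mem' := ⟨one_mem _, S.cj_one _⟩
  mul_mem' := fun {a b} ha hb => ⟨mul_mem ha.1 hb.1, by rw [← S.cj_cj ha.1 hb.1, hb.2, ha.2]⟩
  inv_mem' := fun {a} ha => ⟨inv_mem ha.1, by
    conv_lhs => rw [← ha.2, S.cj_cj (inv_mem ha.1) ha.1, inv_mul_cancel, S.cj_one]⟩

theorem mem_T_iff {g : G} : g ∈ S.T ↔ g ∈ S.N ∧ S.cj g S.θ = S.θ := Iff.rfl

theorem T_le_N : S.T ≤ S.N := fun _ h => h.1

theorem C_le_T : S.C ≤ S.T := fun _ h => ⟨S.C_le_N h, S.cj_of_mem_C h _⟩

theorem eq_T {T : Subgroup G} (hT : ∀ g : G, g ∈ T ↔ (g ∈ S.N ∧ ∀ c c' : S.C,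
    (c' : G) = g * c * g⁻¹ → (S.θ : S.C → ℂ) c' = (S.θ : S.C → ℂ) c)) : T = S.T := by
  ext g
  rw [hT, mem_T_iff]
  refine and_congr_right fun hg => ⟨fun h => (S.eq_cj hg h).symm, fun h c c' e => ?_⟩
  rw [← S.cj_apply hg S.θ e, h]

/-- A conjugate of `b` meeting `b` comes from `T`. -/
theorem mem_T_of_meet {g : G} (hg : g ∈ S.N) {ξ : IrrCharacter S.C} (hξ : ξ ∈ S.b)
    (h : S.cj g ξ ∈ S.b) : g ∈ S.T := by
  have := isPrime_of_isPModular S.hM
  have hθ : S.cj g S.θ ∈ S.b := IsPBlock.mem_of_sameBlock S.hind.1 h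
    (IsPBlock.sameBlock (S.isPBlock_cj hg) ⟨ξ, hξ, rfl⟩ ⟨S.θ, S.hθ, rfl⟩)
  refine ⟨hg, S.eq_theta hθ fun x hx => ?_⟩
  have hx' : g⁻¹ * (x : G) * g ∈ S.P := (Subgroup.mem_normalizer_iff''.mp hg x).mp hx
  rw [S.cj_apply hg S.θ (c := ⟨g⁻¹ * x * g, S.P_le_C hx'⟩) (c' := x) (by simp [mul_assoc]),
    S.cj_apply hg S.θ (c := 1) (c' := 1) (by simp), S.hθP _ hx']

theorem cj_mem {t : G} (ht : t ∈ S.T) {ξ : IrrCharacter S.C} (hξ : ξ ∈ S.b) : S.cj t ξ ∈ S.b := by
  have := isPrime_of_isPModular S.hM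
  exact IsPBlock.mem_of_sameBlock S.hind.1 S.hθ
    (IsPBlock.sameBlock (S.isPBlock_cj ht.1) ⟨S.θ, S.hθ, ht.2⟩ ⟨ξ, hξ, rfl⟩)

theorem image_cj_eq {t : G} (ht : t ∈ S.T) : S.cj t '' S.b = S.b := by
  refine Set.Subset.antisymm ?_ fun ξ hξ => ?_
  · rintro _ ⟨ξ, hξ, rfl⟩; exact S.cj_mem ht hξ
  · exact ⟨S.cj t⁻¹ ξ, S.cj_mem (inv_mem ht) hξ, by
      rw [S.cj_cj ht.1 (inv_mem ht.1), mul_inv_cancel, S.cj_one]⟩

/-- The action on the nontrivial members is free modulo `C`. -/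
theorem cj_eq_self_iff {t : G} (ht : t ∈ S.T) {ξ : IrrCharacter S.C} (hξ : ξ ∈ S.b)
    (hne : ξ ≠ S.θ) : S.cj t ξ = ξ ↔ t ∈ S.C := by
  refine ⟨fun h => Subgroup.mem_centralizer_iff.mpr fun v hv => ?_, fun h => S.cj_of_mem_C h ξ⟩
  have hw : t * v * t⁻¹ ∈ S.P := S.conj_P ht.1 hv
  have h1 := S.scal_cj ht.1 ξ hv
  rw [h] at h1
  have h2 : S.scal ξ (t * v * t⁻¹ * v⁻¹) = 1 := by
    rw [S.scal_mul ξ hw (inv_mem hv), h1, S.scal_inv ξ hv, S.scal_norm ξ hv]
  have h3 := S.scal_eq_one_imp hξ hne (mul_mem hw (inv_mem hv)) h2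
  rw [mul_inv_eq_one, mul_inv_eq_iff_eq_mul] at h3
  exact h3.symm

theorem cj_ne_theta {t : G} (ht : t ∈ S.T) {ξ : IrrCharacter S.C} (hne : ξ ≠ S.θ) :
    S.cj t ξ ≠ S.θ := fun h => hne (S.cj_injective ht.1 (h.trans ht.2.symm))

end Setup

end CfsgLib.Blocks.PrimeDefect
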